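import Cfsg.Agent.H43.J4.Data
import Cfsg.Agent.H46.Extraspecial
import Cfsg.Agent.H92.ExtraIso

/-!
# Groups of Janko-four type: the hypothesis bundle and its first consequences

`Ctx` bundles an involution `z`, the subgroup `E = O₂(C(z))`, the order-three subgroup `P` and the projection
`pr` of `C(z)` onto `A = Aut M22` with kernel `E P`.  All statements are invariant under conjugation, so the
conjugate contexts `Ctx.conj` satisfy the same hypotheses.
-/

set_option autoImplicit false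

namespace Cfsg.Agent.H43.JFour

open Subgroup
open scoped Pointwise

universe u v

variable {G : Type u} [Group G] {A : Type v} [Group A]

/-- If `B` normalises `S` then every element of `S ⊔ B` is a product `a b`. -/
theorem exists_mul_of_mem_sup {S B : Subgroup G} (hB : B ≤ normalizer (S : Set G)) {x : G}
    (hx : x ∈ S ⊔ B) : ∃ a ∈ S, ∃ b ∈ B, x = a * b := by
  have h : (x : G) ∈ ((S : Set G) * (B : Set G)) := by
    rw [← coe_mul_of_right_le_normalizer_left S B hB]; exact hx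
  obtain ⟨a, ha, b, hb, e⟩ := Set.mem_mul.1 h
  exact ⟨a, ha, b, hb, e.symm⟩

theorem eq_of_card_two {S : Subgroup G} (h : Nat.card S = 2) {a b : G} (ha : a ∈ S) (hb : b ∈ S)
    (ha1 : a ≠ 1) (hb1 : b ≠ 1) : a = b := by
  haveI : Finite S := Nat.finite_of_card_ne_zero (by omega)
  haveI : Fintype S := Fintype.ofFinite S
  by_contra hab
  have h3 : 3 ≤ Fintype.card S := by
    let f : Fin 3 → S := ![⟨1, one_mem S⟩, ⟨a, ha⟩, ⟨b, hb⟩]
    have hf : Function.Injective f := by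
      intro i j e
      fin_cases i <;> fin_cases j <;> simp_all [f, Subtype.ext_iff, eq_comm]
    simpa using Fintype.card_le_of_injective f hf
  rw [Nat.card_eq_fintype_card] at h; omega

/-- The data of a context. -/
structure Ctx (G : Type u) [Group G] (A : Type v) [Group A] where
  /-- The involution. -/
  z : G
  /-- The extraspecial normal subgroup of its centraliser. -/
  E : Subgroup G
  /-- The subgroup of order three. -/
  P : Subgroup G
  /-- The projection onto `A`. -/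
  pr : G → A

namespace Ctx

/-- The centraliser of the involution. -/
def H (c : Ctx G A) : Subgroup G := centralizer ({c.z} : Set G)

/-- The centraliser of `P` in `H`. -/
def C (c : Ctx G A) : Subgroup G := c.H ⊓ centralizer (c.P : Set G)

/-- The normaliser of `P` in `H`. -/
def Nh (c : Ctx G A) : Subgroup G := c.H ⊓ normalizer (c.P : Set G)

/-- The hypotheses. -/
structure Ok (c : Ctx G A) : Prop where
  ord : orderOf c.z = 2
  z_mem : c.z ∈ c.E
  extra : IsExtraspecial 2 c.E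
  cardE : Nat.card c.E = 2 ^ 13
  le_H : c.E ≤ c.H
  norm : c.H ≤ normalizer (c.E : Set G)
  cent : ∀ h ∈ c.H, (∀ a ∈ c.E, h * a = a * h) → h ∈ c.E
  cardP : Nat.card c.P = 3
  P_le : c.P ≤ c.H
  cardN : Nat.card ↥(c.E ⊔ c.P) = 3 * 2 ^ 13
  fixP : ∀ a ∈ c.E, (∀ p ∈ c.P, p * a = a * p) → a ∈ zpowers c.z
  P_comm : c.P ≤ ⁅c.C, c.C⁆
  NC : c.Nh ≠ c.C
  pr_mul : ∀ a ∈ c.H, ∀ b ∈ c.H, c.pr (a * b) = c.pr a * c.pr b
  pr_surj : ∀ α : A, ∃ h ∈ c.H, c.pr h = α
  pr_ker : ∀ h ∈ c.H, (c.pr h = 1 ↔ h ∈ c.E ⊔ c.P)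

/-- Conjugate context. -/
def conj (c : Ctx G A) (g : G) : Ctx G A where
  z := g * c.z * g⁻¹
  E := c.E.map (MulAut.conj g).toMonoidHom
  P := c.P.map (MulAut.conj g).toMonoidHom
  pr := fun x => c.pr (g⁻¹ * x * g)

theorem mem_H (c : Ctx G A) {h : G} : h ∈ c.H ↔ c.z * h = h * c.z := by
  unfold H; simp [mem_centralizer_iff, eq_comm]

theorem mem_conj_map (S : Subgroup G) (g x : G) :
    x ∈ S.map (MulAut.conj g).toMonoidHom ↔ g⁻¹ * x * g ∈ S := by
  rw [Subgroup.mem_map_equiv]; simp [MulAut.conj_symm_apply]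

theorem map_centralizer_conj (S : Set G) (g : G) :
    (centralizer S).map (MulAut.conj g).toMonoidHom =
      centralizer ((fun s => g * s * g⁻¹) '' S) := by
  ext x
  rw [mem_conj_map, mem_centralizer_iff, mem_centralizer_iff]
  constructor
  · rintro h _ ⟨s, hs, rfl⟩
    have h1 := h s hs
    calc g * s * g⁻¹ * x = g * (s * (g⁻¹ * x * g)) * g⁻¹ := by group
      _ = g * ((g⁻¹ * x * g) * s) * g⁻¹ := by rw [h1]
      _ = x * (g * s * g⁻¹) := by group
  · intro h s hs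
    have h1 := h _ ⟨s, hs, rfl⟩
    calc s * (g⁻¹ * x * g) = g⁻¹ * ((g * s * g⁻¹) * x) * g := by group
      _ = g⁻¹ * (x * (g * s * g⁻¹)) * g := by rw [h1]
      _ = g⁻¹ * x * g * s := by group

theorem conj_H (c : Ctx G A) (g : G) : (c.conj g).H = c.H.map (MulAut.conj g).toMonoidHom := by
  unfold H; rw [map_centralizer_conj, Set.image_singleton]; rfl

theorem conj_C (c : Ctx G A) (g : G) : (c.conj g).C = c.C.map (MulAut.conj g).toMonoidHom := by
  unfold C
  rw [Subgroup.map_inf _ _ _ (MulAut.conj g).injective, map_centralizer_conj, conj_H]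
  rfl

theorem conj_Nh (c : Ctx G A) (g : G) : (c.conj g).Nh = c.Nh.map (MulAut.conj g).toMonoidHom := by
  unfold Nh
  rw [Subgroup.map_inf _ _ _ (MulAut.conj g).injective, conj_H,
    Subgroup.map_equiv_normalizer_eq]
  rfl

theorem conj_sup (c : Ctx G A) (g : G) :
    (c.conj g).E ⊔ (c.conj g).P = (c.E ⊔ c.P).map (MulAut.conj g).toMonoidHom :=
  (Subgroup.map_sup _ _ _).symm

theorem Ok.conj {c : Ctx G A} (hc : c.Ok) (g : G) : (c.conj g).Ok where
  ord := by
    show orderOf (g * c.z * g⁻¹) = 2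
    rw [← MulAut.conj_apply, MulEquiv.orderOf_eq]; exact hc.ord
  z_mem := ⟨c.z, hc.z_mem, rfl⟩
  extra := H92.isExtraspecial_of_mulEquiv (Subgroup.equivMapOfInjective c.E _ (MulAut.conj g).injective) hc.extra
  cardE := by
    show Nat.card ↥(c.E.map _) = _
    rw [Subgroup.card_map_of_injective (MulAut.conj g).injective]; exact hc.cardE
  le_H := by rw [conj_H]; exact Subgroup.map_mono hc.le_H
  norm := by
    rw [conj_H]
    exact (Subgroup.map_mono hc.norm).trans (le_of_eq (Subgroup.map_equiv_normalizer_eq _ _))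
  cent := by
    intro h hh hall
    rw [conj_H, mem_conj_map] at hh
    show h ∈ c.E.map _
    rw [mem_conj_map]
    refine hc.cent _ hh fun a ha => ?_
    have h1 := hall (g * a * g⁻¹) ⟨a, ha, rfl⟩
    calc g⁻¹ * h * g * a = g⁻¹ * (h * (g * a * g⁻¹)) * g := by group
      _ = g⁻¹ * ((g * a * g⁻¹) * h) * g := by rw [h1]
      _ = a * (g⁻¹ * h * g) := by group
  cardP := by
    show Nat.card ↥(c.P.map _) = _
    rw [Subgroup.card_map_of_injective (MulAut.conj g).injective]; exact hc.cardP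
  P_le := by rw [conj_H]; exact Subgroup.map_mono hc.P_le
  cardN := by
    rw [conj_sup, Subgroup.card_map_of_injective (MulAut.conj g).injective]; exact hc.cardN
  fixP := by
    rintro _ ⟨a, ha, rfl⟩ hall
    obtain ⟨k, hk⟩ := mem_zpowers_iff.1 (hc.fixP a ha fun p hp => by
      have h1 := hall _ ⟨p, hp, rfl⟩
      exact (MulAut.conj g).injective (by rw [map_mul, map_mul]; exact h1))
    refine mem_zpowers_iff.2 ⟨k, ?_⟩
    show (MulAut.conj g c.z) ^ k = MulAut.conj g a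
    rw [← map_zpow, hk]
  P_comm := by
    rw [conj_C, ← Subgroup.map_commutator]; exact Subgroup.map_mono hc.P_comm
  NC := by
    rw [conj_C, conj_Nh]
    exact fun e => hc.NC (Subgroup.map_injective (MulAut.conj g).injective e)
  pr_mul := by
    intro a ha b hb
    rw [conj_H, mem_conj_map] at ha hb
    show c.pr (g⁻¹ * (a * b) * g) = c.pr (g⁻¹ * a * g) * c.pr (g⁻¹ * b * g)
    rw [← hc.pr_mul _ ha _ hb]; congr 1; group
  pr_surj := by
    intro α
    obtain ⟨h, hh, e⟩ := hc.pr_surj α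
    refine ⟨g * h * g⁻¹, by rw [conj_H]; exact ⟨h, hh, rfl⟩, ?_⟩
    show c.pr (g⁻¹ * (g * h * g⁻¹) * g) = α
    rw [show g⁻¹ * (g * h * g⁻¹) * g = h by group, e]
  pr_ker := by
    intro h hh
    rw [conj_H, mem_conj_map] at hh
    rw [conj_sup, mem_conj_map]
    exact hc.pr_ker _ hh

section Elementary

variable {c : Ctx G A}

theorem Ok.z_ne (hc : c.Ok) : c.z ≠ 1 := by
  intro e; have := hc.ord; rw [e, orderOf_one] at this; omega

theorem Ok.z_sq (hc : c.Ok) : c.z * c.z = 1 := by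
  rw [← sq, ← hc.ord, pow_orderOf_eq_one]

theorem Ok.z_inv (hc : c.Ok) : c.z⁻¹ = c.z := inv_eq_of_mul_eq_one_left hc.z_sq

theorem Ok.z_mem_H (_hc : c.Ok) : c.z ∈ c.H := c.mem_H.2 rfl

theorem Ok.z_comm (hc : c.Ok) {a : G} (ha : a ∈ c.E) : c.z * a = a * c.z := c.mem_H.1 (hc.le_H ha)

theorem Ok.mem_zp (hc : c.Ok) {a : G} : a ∈ zpowers c.z ↔ a = 1 ∨ a = c.z := by
  constructor
  · intro h
    rcases eq_or_ne a 1 with h1 | h1
    · exact Or.inl h1
    · exact Or.inr (eq_of_card_two (by rw [Nat.card_zpowers]; exact hc.ord) h (mem_zpowers _) h1 hc.z_ne)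
  · rintro (rfl | rfl)
    exacts [one_mem _, mem_zpowers _]

theorem Ok.finite (hc : c.Ok) : Finite c.E := Nat.finite_of_card_ne_zero (by rw [hc.cardE]; decide)

theorem Ok.center_eq (hc : c.Ok) {a : c.E} (ha : a ∈ center c.E) : (a : G) = 1 ∨ (a : G) = c.z := by
  rcases eq_or_ne (a : G) 1 with h1 | h1
  · exact Or.inl h1
  refine Or.inr ?_
  have hz : (⟨c.z, hc.z_mem⟩ : c.E) ∈ center c.E :=
    mem_center_iff.2 fun b => Subtype.ext (hc.z_comm b.2).symm
  have := eq_of_card_two hc.extra.2 ha hz (fun e => h1 (congrArg Subtype.val e))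
    (fun e => hc.z_ne (congrArg Subtype.val e))
  exact congrArg Subtype.val this

/-- Commutators inside `E` lie in `⟨z⟩`. -/
theorem Ok.comm_mem (hc : c.Ok) {a b : G} (ha : a ∈ c.E) (hb : b ∈ c.E) :
    a * b * a⁻¹ * b⁻¹ = 1 ∨ a * b * a⁻¹ * b⁻¹ = c.z :=
  hc.center_eq (H46.es_comm_mem hc.extra ⟨a, ha⟩ ⟨b, hb⟩)

theorem Ok.sq_mem (hc : c.Ok) {a : G} (ha : a ∈ c.E) : a * a = 1 ∨ a * a = c.z := by
  haveI := hc.finite
  have h := hc.center_eq (H46.es_sq_mem hc.extra ⟨a, ha⟩)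
  simpa [sq] using h

theorem Ok.swap (hc : c.Ok) {a b : G} (ha : a ∈ c.E) (hb : b ∈ c.E) :
    a * b = b * a ∨ a * b = c.z * (b * a) := by
  rcases hc.comm_mem ha hb with h | h
  · left
    calc a * b = a * b * a⁻¹ * b⁻¹ * (b * a) := by group
      _ = b * a := by rw [h, one_mul]
  · right
    calc a * b = a * b * a⁻¹ * b⁻¹ * (b * a) := by group
      _ = c.z * (b * a) := by rw [h]

theorem Ok.mem_of_center (hc : c.Ok) {a : G} (ha : a ∈ c.E) (h : ∀ b ∈ c.E, a * b = b * a) :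
    a = 1 ∨ a = c.z :=
  hc.center_eq (a := ⟨a, ha⟩) (mem_center_iff.2 fun b => Subtype.ext (h b b.2).symm)

/-- Size of centralisers inside `E`. -/
theorem Ok.card_cent (hc : c.Ok) (X : Subgroup G) (hXE : X ≤ c.E) (hz : c.z ∈ X) :
    Nat.card ↥(c.E ⊓ centralizer (X : Set G)) * Nat.card X = 2 ^ 14 := by
  haveI := hc.finite
  have hcen : center c.E ≤ X.subgroupOf c.E := by
    intro a ha
    rcases hc.center_eq ha with h | h <;> rw [mem_subgroupOf, h]
    exacts [one_mem _, hz]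
  have h := H46.es_card_centralizer hc.extra (X.subgroupOf c.E) hcen
  rw [Nat.card_congr (subgroupOfEquivOfLe hXE).toEquiv, hc.cardE] at h
  have e : centralizer ((X.subgroupOf c.E : Subgroup c.E) : Set c.E) =
      (c.E ⊓ centralizer (X : Set G)).subgroupOf c.E := by
    ext a
    simp only [mem_subgroupOf, mem_inf, mem_centralizer_iff, SetLike.mem_coe]
    exact ⟨fun h => ⟨a.2, fun x hx => congrArg Subtype.val (h ⟨x, hXE hx⟩ hx)⟩,
      fun h x hx => Subtype.ext (h.2 x hx)⟩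
  rw [e, Nat.card_congr (subgroupOfEquivOfLe inf_le_left).toEquiv] at h
  rw [h]; norm_num

theorem Ok.P_norm (hc : c.Ok) : c.P ≤ normalizer (c.E : Set G) := hc.P_le.trans hc.norm

theorem Ok.conjE (hc : c.Ok) {h a : G} (hh : h ∈ c.H) (ha : a ∈ c.E) : h * a * h⁻¹ ∈ c.E :=
  (mem_normalizer_iff.1 (hc.norm hh) a).1 ha

theorem Ok.N_le (hc : c.Ok) : c.E ⊔ c.P ≤ c.H := sup_le hc.le_H hc.P_le

theorem Ok.pr_one (hc : c.Ok) : c.pr 1 = 1 := (hc.pr_ker 1 (one_mem _)).2 (one_mem _)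

theorem Ok.pr_inv (hc : c.Ok) {a : G} (ha : a ∈ c.H) : c.pr a⁻¹ = (c.pr a)⁻¹ := by
  apply eq_inv_of_mul_eq_one_left
  rw [← hc.pr_mul _ (inv_mem ha) _ ha, inv_mul_cancel, hc.pr_one]

/-- The projection as a homomorphism. -/
def Ok.prHom (hc : c.Ok) : c.H →* A where
  toFun h := c.pr h
  map_one' := hc.pr_one
  map_mul' a b := hc.pr_mul a a.2 b b.2

theorem Ok.pr_E (hc : c.Ok) {a : G} (ha : a ∈ c.E) : c.pr a = 1 :=
  (hc.pr_ker a (hc.le_H ha)).2 (mem_sup_left ha)

theorem Ok.pr_P (hc : c.Ok) {a : G} (ha : a ∈ c.P) : c.pr a = 1 :=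
  (hc.pr_ker a (hc.P_le ha)).2 (mem_sup_right ha)

theorem Ok.pr_conj (hc : c.Ok) {a b : G} (ha : a ∈ c.H) (hb : b ∈ c.H) :
    c.pr (a * b * a⁻¹) = c.pr a * c.pr b * (c.pr a)⁻¹ := by
  rw [hc.pr_mul _ (mul_mem ha hb) _ (inv_mem ha), hc.pr_mul _ ha _ hb, hc.pr_inv ha]

theorem Ok.z_mem_C (hc : c.Ok) : c.z ∈ c.C :=
  ⟨hc.z_mem_H, mem_centralizer_iff.2 fun p hp => (c.mem_H.1 (hc.P_le hp)).symm⟩

theorem C_le_Nh (c : Ctx G A) : c.C ≤ c.Nh :=
  inf_le_inf le_rfl (centralizer_le_normalizer _)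

theorem Ok.P_le_C (hc : c.Ok) : c.P ≤ c.C := by
  refine le_inf hc.P_le ?_
  haveI : Fact (Nat.Prime 3) := ⟨Nat.prime_three⟩
  haveI : IsCyclic c.P := isCyclic_of_prime_card hc.cardP
  intro p hp
  refine mem_centralizer_iff.2 fun q hq => ?_
  have := IsCyclic.commutative (α := c.P)
  exact congrArg Subtype.val (mul_comm' ⟨q, hq⟩ ⟨p, hp⟩)

theorem Ok.E_inf_Nh (hc : c.Ok) : c.E ⊓ c.Nh = zpowers c.z := by
  refine le_antisymm ?_ (le_inf (zpowers_le.2 hc.z_mem) ((zpowers_le.2 hc.z_mem_C).trans c.C_le_Nh))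
  rintro a ⟨ha, haN⟩
  refine hc.fixP a ha fun p hp => ?_
  have hq : a * p * a⁻¹ ∈ c.P := (mem_normalizer_iff.1 (Subgroup.mem_inf.1 haN).2 p).1 hp
  have hcomm : a * p * a⁻¹ * p⁻¹ ∈ c.E ⊓ c.P := by
    refine mem_inf.2 ⟨?_, c.P.mul_mem hq (c.P.inv_mem hp)⟩
    have := mul_mem ha (hc.conjE (hc.P_le hp) (c.E.inv_mem ha))
    simpa [mul_assoc] using this
  have h1 : c.E ⊓ c.P = ⊥ := by
    refine inf_eq_bot_of_coprime ?_
    rw [hc.cardE, hc.cardP]; decide
  rw [h1, mem_bot] at hcomm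
  calc p * a = (a * p * a⁻¹ * p⁻¹) * (p * a) := by rw [hcomm, one_mul]
    _ = a * p := by group

theorem Ok.E_inf_C (hc : c.Ok) : c.E ⊓ c.C = zpowers c.z :=
  le_antisymm ((inf_le_inf le_rfl c.C_le_Nh).trans hc.E_inf_Nh.le)
    (le_inf (zpowers_le.2 hc.z_mem) (zpowers_le.2 hc.z_mem_C))

end Elementary

end Ctx

end Cfsg.Agent.H43.JFour
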