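import Cfsg.Prelude.Def_JankoFourType
import Cfsg.Agent.H43.J4.Basic
import Cfsg.Agent.Cores.PCore

/-!
# From `IsOfJankoFourTypeWith` to a context
-/

set_option autoImplicit false

namespace Cfsg.Agent.H43.JFour

open Subgroup

universe u

variable {G : Type u} [Group G] [Finite G]

/-- A group of Janko-four type at `z` with `P` gives a context over `MulAut M22`. -/
theorem exists_ctx {z : G} {P : Subgroup G} (hJ : Cfsg.IsOfJankoFourTypeWith z P) :
    ∃ c : Ctx G (MulAut ↥Spor.M22), c.z = z ∧ c.P = P ∧ c.E = Cfsg.twoCoreOfCentralizer z ∧ c.Ok := by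
  classical
  obtain ⟨hord, hE, hcardE, hcent, ⟨N, hEN, hNH, hHN, hcardN, ⟨hn, ⟨e⟩⟩, hPN⟩, hP, hfix, hNC, hcomm⟩ := hJ
  set H : Subgroup G := centralizer ({z} : Set G)
  set E : Subgroup G := Cfsg.twoCoreOfCentralizer z with hEdef
  have hzH : z ∈ H := mem_centralizer_iff.2 fun x hx => by rw [Set.mem_singleton_iff.1 hx]
  have hzE : z ∈ E := by
    refine ⟨⟨z, hzH⟩, ?_, rfl⟩
    haveI hnor : (zpowers (⟨z, hzH⟩ : H)).Normal := ⟨fun n hn' g => by
      obtain ⟨k, rfl⟩ := mem_zpowers_iff.1 hn'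
      have hc : Commute g (⟨z, hzH⟩ : H) := Subtype.ext (mem_centralizer_iff.1 g.2 z rfl).symm
      rw [(hc.zpow_right k).eq, mul_inv_cancel_right]
      exact hn'⟩
    have h2 : IsPGroup 2 (zpowers (⟨z, hzH⟩ : H)) := IsPGroup.of_card (n := 1)
      (by rw [Nat.card_zpowers, Subgroup.orderOf_mk, hord, pow_one])
    exact le_sSup (show zpowers (⟨z, hzH⟩ : H) ∈
      {N : Subgroup H | N.Normal ∧ IsPGroup 2 N} from ⟨hnor, h2⟩) (mem_zpowers _)
  have hEH : E ≤ H := map_subtype_le _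
  have hEnorm : H ≤ normalizer (E : Set G) := by
    intro h hh
    refine mem_normalizer_iff.2 fun x => ?_
    have key : ∀ g ∈ H, ∀ y ∈ E, g * y * g⁻¹ ∈ E := by
      rintro g hg _ ⟨y, hy, rfl⟩
      exact ⟨⟨g, hg⟩ * y * ⟨g, hg⟩⁻¹, (inferInstance : (Cfsg.pCore 2 H).Normal).conj_mem y hy _, rfl⟩
    exact ⟨key h hh x, fun hx => by simpa [mul_assoc] using key h⁻¹ (inv_mem hh) _ hx⟩
  have hsup : E ⊔ P = N := by
    refine Subgroup.eq_of_le_of_card_ge (sup_le hEN hPN) ?_
    have h1 : 2 ^ 13 ∣ Nat.card ↥(E ⊔ P) := hcardE ▸ Subgroup.card_dvd_of_le le_sup_left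
    have h2 : 3 ∣ Nat.card ↥(E ⊔ P) := hP ▸ Subgroup.card_dvd_of_le le_sup_right
    rw [hcardN, hcardE]
    exact Nat.le_of_dvd Nat.card_pos (Nat.Coprime.mul_dvd_of_dvd_of_dvd (by decide) h2 h1)
  let f : H →* MulAut ↥Spor.M22 := e.toMonoidHom.comp (QuotientGroup.mk' _)
  refine ⟨⟨z, E, P, fun x => if hx : x ∈ H then f ⟨x, hx⟩ else 1⟩, rfl, rfl, rfl, ?_⟩
  exact
    { ord := hord
      z_mem := hzE
      extra := hE
      cardE := hcardE
      le_H := hEH
      norm := hEnorm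
      cent := fun h hh hall => hcent
        (mem_inf.2 ⟨hh, mem_centralizer_iff.2 fun a ha => (hall a ha).symm⟩)
      cardP := hP
      P_le := hPN.trans hNH
      cardN := by show Nat.card ↥(E ⊔ P) = _; rw [hsup, hcardN, hcardE]
      fixP := fun a ha hall => hfix ▸ mem_inf.2 ⟨ha, mem_centralizer_iff.2 fun p hp => hall p hp⟩
      P_comm := hcomm
      NC := hNC
      pr_mul := fun a ha b hb => by
        show (if hx : a * b ∈ H then f ⟨_, hx⟩ else 1) =
          (if hx : a ∈ H then f ⟨a, hx⟩ else 1) * (if hx : b ∈ H then f ⟨b, hx⟩ else 1)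
        have ha' : a ∈ H := ha
        have hb' : b ∈ H := hb
        rw [dif_pos (mul_mem ha' hb'), dif_pos ha', dif_pos hb', ← map_mul]
        rfl
      pr_surj := fun α => by
        obtain ⟨⟨h, hh⟩, e'⟩ := QuotientGroup.mk_surjective (e.symm α)
        refine ⟨h, hh, ?_⟩
        show (if hx : h ∈ H then f ⟨h, hx⟩ else 1) = α
        rw [dif_pos hh]
        show e (QuotientGroup.mk _) = α
        rw [e', MulEquiv.apply_symm_apply]
      pr_ker := fun h hh => by
        show (if hx : h ∈ H then f ⟨h, hx⟩ else 1) = 1 ↔ h ∈ E ⊔ P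
        have hh' : h ∈ H := hh
        rw [dif_pos hh', hsup]
        show e (QuotientGroup.mk' (N.subgroupOf H) _) = 1 ↔ _
        rw [MulEquiv.map_eq_one_iff, ← MonoidHom.mem_ker, QuotientGroup.ker_mk']
        rfl }

end Cfsg.Agent.H43.JFour
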