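import Cfsg.Agent.H43.J4.Orbit

/-!
# A fused element of `E` centralised by an elementary group of order 16 of `M`
-/

set_option autoImplicit false

namespace Cfsg.Agent.H43.JFour

open Subgroup

universe u v

variable {G : Type u} [Group G] [Finite G] {A : Type v} [Group A] {M : Subgroup A}

namespace Ctx

variable {c : Ctx G A}

theorem R_inf_card (hd : AutData A M) {R : Subgroup A} (hR : IsR R) : Nat.card ↥(R ⊓ M) = 16 := by
  haveI := hd.finite
  haveI := hd.normal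
  obtain ⟨R', -, -, h16, h8⟩ := hd.R_pair R hR
  have hdvd : M.relIndex R ∣ 2 := hd.index ▸ Subgroup.relIndex_dvd_index_of_normal M R
  have hcard := (M.subgroupOf R).card_mul_index
  rw [show M.subgroupOf R = (R ⊓ M).subgroupOf R from (inf_subgroupOf_left M R).symm,
    Nat.card_congr (subgroupOfEquivOfLe (inf_le_left : R ⊓ M ≤ R)).toEquiv, hR.2,
    show ((R ⊓ M).subgroupOf R).index = M.relIndex R by rw [inf_subgroupOf_left]; rfl] at hcard
  rcases (Nat.dvd_prime Nat.prime_two).1 hdvd with e | e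
  · exfalso
    rw [inf_eq_left.2 (Subgroup.relIndex_eq_one.1 e)] at h8
    omega
  · rw [e] at hcard; omega

/-- An element of `E` fused to `z` whose centraliser in `H` covers an elementary 16-subgroup of `M`. -/
theorem Ok.exists_fus (hc : c.Ok) (hd : AutData A M) [IsSimpleGroup G] (hG : ¬ IsMulCommutative G) :
    ∃ e ∈ c.E, e ≠ c.z ∧ IsConj c.z e ∧ ∃ B : Subgroup A, B ≤ M ∧ Cfsg.IsElementaryAbelian 2 B ∧
      Nat.card B = 16 ∧ ∀ β ∈ B, ∃ g ∈ c.H, c.pr g = β ∧ g * e = e * g := by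
  obtain ⟨e, he, hne, hcj⟩ := hc.exists_fused hd hG
  obtain ⟨g, hg⟩ := isConj_iff.1 hcj
  subst hg
  have π : Duo c (c.conj g) := ⟨hc, hc.conj g, he, hne⟩
  have hR := (π.symm hd).isR hd
  refine ⟨_, he, hne, hcj, hc.img (Cs (c.conj g) c) ⊓ M, inf_le_right, ?_, R_inf_card hd hR, ?_⟩
  · exact ⟨⟨⟨fun a b => Subtype.ext (congrArg Subtype.val
      (hR.1.1.is_comm.comm ⟨a, (mem_inf.1 a.2).1⟩ ⟨b, (mem_inf.1 b.2).1⟩) :)⟩⟩,
      fun a ha => hR.1.2 a (mem_inf.1 ha).1⟩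
  · intro β hβ
    obtain ⟨u, hu, rfl⟩ := (hc.mem_img (π.symm hd).Cs_le_H).1 (mem_inf.1 hβ).1
    exact ⟨u, (π.symm hd).Cs_le_H hu, rfl,
      ((hc.conj g).z_comm ((π.symm hd).mem_Cs.1 hu).1).symm⟩

end Ctx

end Cfsg.Agent.H43.JFour
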