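import Cfsg.Agent.H43.J4.Rank

/-!
# Fixed spaces on `E/⟨z⟩`: inner involutions `2^8`, outer ones `2^6`
-/

set_option autoImplicit false

namespace Cfsg.Agent.H43.JFour

open Subgroup
open scoped commutatorElement

universe u v

variable {G : Type u} [Group G] [Finite G] {A : Type v} [Group A] {M : Subgroup A} {c : Ctx G A}

namespace Ctx

theorem Ok.exists_p (hc : c.Ok) : ∃ p ∈ c.P, p ≠ 1 := by
  refine (Subgroup.bot_or_exists_ne_one c.P).resolve_left fun e => ?_
  have := hc.cardP; rw [e, Subgroup.card_bot] at this; omega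

theorem Ok.P_cases (hc : c.Ok) {p q : G} (hp : p ∈ c.P) (hp1 : p ≠ 1) (hq : q ∈ c.P) :
    q = 1 ∨ q = p ∨ q = p * p := by
  haveI : Fact (Nat.Prime 3) := ⟨Nat.prime_three⟩
  rw [← PGroups.zpowers_eq_of_card_eq hc.cardP hp hp1, mem_zpowers_iff] at hq
  obtain ⟨k, rfl⟩ := hq
  have hord : orderOf p = 3 := by
    rw [← Nat.card_zpowers, PGroups.zpowers_eq_of_card_eq hc.cardP hp hp1, hc.cardP]
  rw [← zpow_mod_orderOf, hord]
  rcases (by omega : k % (3 : ℕ) = 0 ∨ k % (3 : ℕ) = 1 ∨ k % (3 : ℕ) = 2) with e | e | e <;> rw [e]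
  · exact Or.inl (zpow_zero _)
  · exact Or.inr (Or.inl (zpow_one _))
  · exact Or.inr (Or.inr (by rw [zpow_two]))

/-- An element of order three over a given element of order three of `M`. -/
theorem Ok.three_lift (hc : c.Ok) (hd : AutData A M) {α : A} (hα : α ∈ M) (ho : orderOf α = 3) :
    ∃ x, x ∈ c.C ∧ x * x * x = 1 ∧ x ∉ c.P ∧ c.pr x = α := by
  haveI : Fact (Nat.Prime 3) := ⟨Nat.prime_three⟩
  obtain ⟨n, hn, rfl⟩ := hc.C_surj hd hα
  have hnH := (mem_inf.1 hn).1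
  have hpow : ∀ k, c.pr (n ^ k) = c.pr n ^ k := fun k => map_pow hc.prHom ⟨n, hnH⟩ k
  have h3 : c.pr (n ^ 3) = 1 := by rw [hpow, ← ho, pow_orderOf_eq_one]
  have h18 : n ^ 18 = 1 := by
    obtain ⟨q, hq, e | e⟩ := hc.Nh_ker (c.C_le_Nh (pow_mem hn 3)) h3
    · rw [show 18 = 3 * 6 by norm_num, pow_mul, e, show 6 = 3 * 2 by norm_num, pow_mul,
        pow_three', hc.P_pow hq, one_pow]
    · have hzq : Commute c.z q := c.mem_H.1 (hc.P_le hq)
      rw [show 18 = 3 * 6 by norm_num, pow_mul, e, hzq.mul_pow]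
      rw [show c.z ^ 6 = (c.z * c.z) ^ 3 by rw [← sq, ← pow_mul], hc.z_sq, one_pow, one_mul,
        show 6 = 3 * 2 by norm_num, pow_mul, pow_three', hc.P_pow hq, one_pow]
  have hx9 : (n ^ 10) ^ 9 = 1 := by
    rw [← pow_mul, show 10 * 9 = 18 * 5 by norm_num, pow_mul, h18, one_pow]
  have hxpr : c.pr (n ^ 10) = c.pr n := by
    rw [hpow, ← pow_mod_orderOf, ho]; norm_num
  refine ⟨n ^ 10, pow_mem hn 10, ?_, fun h => ?_, hxpr⟩
  · have hp : IsPGroup 3 (zpowers (⟨n ^ 10, pow_mem hn 10⟩ : c.C)) := by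
      intro q
      obtain ⟨k, hk⟩ := mem_zpowers_iff.1 q.2
      refine ⟨2, Subtype.ext ?_⟩
      rw [SubmonoidClass.coe_pow, ← hk, ← zpow_natCast, ← zpow_mul, mul_comm, zpow_mul, zpow_natCast,
        show (⟨n ^ 10, pow_mem hn 10⟩ : c.C) ^ 3 ^ 2 = 1 from Subtype.ext (by simpa using hx9), one_zpow]
      rfl
    obtain ⟨S, hS⟩ := hp.exists_le_sylow
    have hm : n ^ 10 ∈ (S : Subgroup c.C).map c.C.subtype :=
      ⟨⟨n ^ 10, pow_mem hn 10⟩, hS (mem_zpowers _), rfl⟩
    have := hc.R_exp hd (hc.rThree_of_sylow hd S) hm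
    rwa [pow_three'] at this
  · have := hc.pr_P h
    rw [hxpr] at this
    rw [this, orderOf_one] at ho
    omega

omit [Finite G] in
theorem Ok.trivOn_eqz (hc : c.Ok) {a b : G} {F : Subgroup G} (hF : F ≤ c.E) (ha : a ∈ c.H)
    (e : c.Eqz a b) : c.TrivOn a F ↔ c.TrivOn b F :=
  ⟨fun h v hv => by rw [hc.eqz_act e (hF hv) ha]; exact h v hv,
    fun h v hv => by rw [← hc.eqz_act e (hF hv) ha]; exact h v hv⟩

namespace Trip

variable {x p : G}

theorem piece_inf (t : c.Trip x p) (hc : c.Ok) : c.Piece x ⊓ c.Piece (x * p) = zpowers c.z := by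
  refine le_antisymm (fun a ha => ?_)
    (zpowers_le.2 (mem_inf.2 ⟨(hc.piece_stable t.xC).z_mem, (hc.piece_stable (t.mul hc).xC).z_mem⟩))
  obtain ⟨ha1, ha2⟩ := mem_inf.1 ha
  obtain ⟨haE, h1⟩ := mem_piece.1 ha1
  obtain ⟨-, h2⟩ := mem_piece.1 ha2
  refine hc.fpf t.pP t.p1 haE (Or.inl ?_)
  have : p * a = a * p := by
    calc p * a = x⁻¹ * (x * p * a) := by group
      _ = x⁻¹ * (a * x) * p := by rw [h2]; group
      _ = a * p := by rw [← h1]; group
  rw [this]; group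

theorem proj_fix (hc : c.Ok) {a y v : G} (ha : a ∈ c.C) (hy : y ∈ c.H) (hay : a * y = y * a)
    (hv : v ∈ hc.fixMod a) : proj y v ∈ hc.fixMod a := by
  have key : ∀ w ∈ hc.fixMod a, y * w * y⁻¹ ∈ hc.fixMod a := by
    intro w hw
    refine ⟨hc.conjE hy hw.1, ?_⟩
    rw [show a * (y * w * y⁻¹) * a⁻¹ = (a * y) * w * (a * y)⁻¹ by group, hay,
      show y * a * w * (y * a)⁻¹ = y * (a * w * a⁻¹) * y⁻¹ by group]
    exact hc.eqz_conj hy hw.2
  exact mul_mem (mul_mem hv (key v hv)) (key _ (key v hv))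

/-- An element trivial on exactly one piece fixes a subgroup of order `2^9`. -/
theorem card_fix (t : c.Trip x p) (hc : c.Ok) (hd : AutData A M) {a : G} (ha : a ∈ c.C)
    (h2 : a * a = 1 ∨ a * a = c.z) (hax : a * x = x * a) (h0 : c.TrivOn a (c.Piece x))
    (h1 : ¬ c.TrivOn a (c.Piece (x * p))) (hn2 : ¬ c.TrivOn a (c.Piece (x * p * p))) :
    Nat.card (hc.fixMod a) = 2 ^ 9 := by
  have t1 := t.mul hc
  have t2 := t1.mul hc
  have hap : a * p = p * a := (hc.P_central t.pP ha).symm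
  have hax1 : a * (x * p) = x * p * a := by
    rw [← mul_assoc, hax, mul_assoc, hap, mul_assoc]
  have hax2 : a * (x * p * p) = x * p * p * a := by
    rw [← mul_assoc, hax1, mul_assoc, hap, ← mul_assoc]
  set K0 := c.Piece x
  set K1 := c.Piece (x * p) ⊓ hc.fixMod a
  set K2 := c.Piece (x * p * p) ⊓ hc.fixMod a
  have hK0 : K0 ≤ hc.fixMod a := fun v hv => ⟨(mem_piece.1 hv).1, h0 v hv⟩
  have hfix : hc.fixMod a = K0 ⊔ K1 ⊔ K2 := by
    refine le_antisymm ?_ (sup_le (sup_le hK0 inf_le_right) inf_le_right)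
    intro v hv
    have m0 := hc.proj_mem t.xH t.x3 hv.1
    have m1 := hc.proj_mem t1.xH t1.x3 hv.1
    have m2 := hc.proj_mem t2.xH t2.x3 hv.1
    have hzK : c.z ∈ K0 ⊔ K1 ⊔ K2 := mem_sup_left (mem_sup_left (hc.piece_stable t.xC).z_mem)
    have hmem : proj x v * proj (x * p) v * proj (x * p * p) v ∈ K0 ⊔ K1 ⊔ K2 :=
      mul_mem (mul_mem (mem_sup_left (mem_sup_left m0))
        (mem_sup_left (mem_sup_right (mem_inf.2 ⟨m1, proj_fix hc ha t1.xH hax1 hv⟩))))
        (mem_sup_right (mem_inf.2 ⟨m2, proj_fix hc ha t2.xH hax2 hv⟩))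
    rcases t.decomp hc hv.1 with e | e <;> rw [e]
    · exact hmem
    · exact mul_mem hzK hmem
  have c01 := card_sup_of_commute K0 K1 (fun a ha b hb => t.orth hc ha (mem_inf.1 hb).1)
  have i01 : K0 ⊓ K1 = zpowers c.z := le_antisymm
    (fun v hv => t.piece_inf hc ▸ mem_inf.2 ⟨(mem_inf.1 hv).1, (mem_inf.1 (mem_inf.1 hv).2).1⟩)
    (zpowers_le.2 (mem_inf.2 ⟨(hc.piece_stable t.xC).z_mem, (t1.stable_fix hc ha).z_mem⟩))
  rw [i01, Nat.card_zpowers, hc.ord, t.card_piece hc hd, t1.card_fix_eight hc hd ha h2 hax1 h1] at c01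
  have hcomm : ∀ u ∈ K0 ⊔ K1, ∀ b ∈ c.Piece (x * p * p), u * b = b * u := by
    intro u hu b hb
    have hle : K0 ⊔ K1 ≤ centralizer ({b} : Set G) := by
      refine sup_le (fun w hw => mem_centralizer_iff.2 fun g hg => ?_)
        (fun w hw => mem_centralizer_iff.2 fun g hg => ?_) <;>
        rw [Set.mem_singleton_iff] at hg <;> subst hg
      · exact t.orth' hc hb hw
      · exact (t1.orth hc (mem_inf.1 hw).1 hb).symm
    exact (mem_centralizer_iff.1 (hle hu) b rfl).symm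
  have i2 : (K0 ⊔ K1) ⊓ K2 = zpowers c.z := by
    refine le_antisymm (fun u hu => ?_) (zpowers_le.2 (mem_inf.2
      ⟨mem_sup_left (hc.piece_stable t.xC).z_mem, (t2.stable_fix hc ha).z_mem⟩))
    obtain ⟨hu1, hu2⟩ := mem_inf.1 hu
    exact t2.nondeg hc u (mem_inf.1 hu2).1 fun b hb => hcomm u hu1 b hb
  have c2 := card_sup_of_commute (K0 ⊔ K1) K2 (fun u hu b hb => hcomm u hu b (mem_inf.1 hb).1)
  rw [i2, Nat.card_zpowers, hc.ord, t2.card_fix_eight hc hd ha h2 hax2 hn2, ← hfix] at c2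
  omega

end Trip

/-- Some lift of an inner involution fixes `2^9` elements modulo `z`. -/
theorem Ok.exists_rank (hc : c.Ok) (hd : AutData A M) :
    ∃ a α, α ∈ M ∧ orderOf α = 2 ∧ c.Lift a α ∧ Nat.card (hc.fixMod a) = 2 ^ 9 := by
  classical
  obtain ⟨xb, yb, ab, bb, hxM, hyM, haM, hbM, hx3, hy3, ha2, hb2, hne, hcab, hcxy, hcxa, hcxb, hya,
    hyb⟩ := hd.three_four
  obtain ⟨p, hp, hp1⟩ := hc.exists_p
  obtain ⟨x, hxC, hxx, hxP, rfl⟩ := hc.three_lift hd hxM hx3
  obtain ⟨y, hyC, hyy, -, rfl⟩ := hc.three_lift hd hyM hy3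
  have hxH := (mem_inf.1 hxC).1
  have hyH := (mem_inf.1 hyC).1
  have t : c.Trip x p := ⟨hxC, hxx, hxP, hp, hp1⟩
  have t1 := t.mul hc
  have t2 := t1.mul hc
  have h2a : ab * ab = 1 := by rw [← sq, ← ha2, pow_orderOf_eq_one]
  have h2b : bb * bb = 1 := by rw [← sq, ← hb2, pow_orderOf_eq_one]
  obtain ⟨a0, l0⟩ := hc.lift_exists hd haM h2a
  set a1 := y * a0 * y⁻¹ with ha1
  set a2 := y * a1 * y⁻¹ with ha2'
  have l1 : c.Lift a1 bb := hya ▸ hc.lift_conj l0 hyC
  have l2 : c.Lift a2 (ab * bb) := hyb ▸ hc.lift_conj l1 hyC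
  have hy30 : y * a2 * y⁻¹ = a0 := by
    rw [ha2', ha1, show y * (y * (y * a0 * y⁻¹) * y⁻¹) * y⁻¹ = (y * y * y) * a0 * (y * y * y)⁻¹ by group,
      hyy]
    group
  let al : Fin 3 → G := ![a0, a1, a2]
  let xs : Fin 3 → G := ![x, x * p, x * p * p]
  have hal : ∀ j, al (j + 1) = y * al j * y⁻¹ := by
    intro j; fin_cases j
    · exact ha1
    · exact ha2'
    · exact hy30.symm
  have halC : ∀ j, al j ∈ c.C ∧ (al j * al j = 1 ∨ al j * al j = c.z) := by
    intro j; fin_cases j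
    exacts [⟨l0.1, l0.2.1⟩, ⟨l1.1, l1.2.1⟩, ⟨l2.1, l2.2.1⟩]
  -- the lifts commute with `x`
  have hcomm_x : ∀ (a : G) (α : A), c.Lift a α → Commute (c.pr x) α → a * x = x * a := by
    intro a α l hcx
    have l' := hc.lift_conj l hxC
    rw [show c.pr x * α * (c.pr x)⁻¹ = α by rw [hcx.eq, mul_inv_cancel_right]] at l'
    exact (hc.exact_fix hxH hxx (hc.lift_unique l l')).symm
  have halx : ∀ j, al j * x = x * al j := by
    intro j; fin_cases j
    exacts [hcomm_x _ _ l0 hcxa, hcomm_x _ _ l1 hcxb, hcomm_x _ _ l2 (hcxa.mul_right hcxb)]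
  have hxs : ∀ i, c.Trip (xs i) p := by
    intro i; fin_cases i
    exacts [t, t1, t2]
  have halxs : ∀ i j, al j * xs i = xs i * al j := by
    intro i j
    have hjp : Commute (al j) p := (show Commute p (al j) from hc.P_central hp (halC j).1).symm
    have hjx : Commute (al j) x := halx j
    fin_cases i
    exacts [hjx.eq, (hjx.mul_right hjp).eq, ((hjx.mul_right hjp).mul_right hjp).eq]
  -- products
  have hprod : ∀ {a b : G} {α β : A}, c.Lift a α → c.Lift b β → Commute α β →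
      c.Eqz (a * b) (b * a) ∧ c.Lift (a * b) (α * β) := by
    intro a b α β la lb hcm
    have l' := hc.lift_conj la lb.1
    rw [lb.2.2, show β * α * β⁻¹ = α by rw [← hcm.eq, mul_inv_cancel_right]] at l'
    have e1 := hc.lift_unique la l'
    have e2 : c.Eqz (a * b) (b * a) := by
      have := hc.eqz_mul (mem_inf.1 la.1).1 e1 (Eqz.refl c b)
      rwa [inv_mul_cancel_right] at this
    refine ⟨e2, mul_mem la.1 lb.1, ?_, by rw [hc.pr_mul _ (mem_inf.1 la.1).1 _ (mem_inf.1 lb.1).1,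
      la.2.2, lb.2.2]⟩
    have hz : Commute c.z a := c.mem_H.1 (mem_inf.1 la.1).1
    have hsq : ∀ {u : G}, (u = 1 ∨ u = c.z) → ∀ {w : G}, (w = 1 ∨ w = c.z) →
        (u * w = 1 ∨ u * w = c.z) := by
      intro u hu w hw
      rcases hu with rfl | rfl <;> rcases hw with rfl | rfl <;> simp [hc.z_sq]
    rcases e2 with e | e
    · rw [show a * b * (a * b) = (a * a) * (b * b) by
        calc a * b * (a * b) = a * (b * a) * b := by group
          _ = a * (a * b) * b := by rw [e]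
          _ = a * a * (b * b) := by group]
      exact hsq la.2.1 lb.2.1
    · rw [show a * b * (a * b) = c.z * ((a * a) * (b * b)) by
        calc a * b * (a * b) = a * (b * a) * b := by group
          _ = (a * c.z) * (a * b) * b := by rw [e]; group
          _ = (c.z * a) * (a * b) * b := by rw [← hz.eq]
          _ = c.z * (a * a * (b * b)) := by group]
      exact hsq (Or.inr rfl) (hsq la.2.1 lb.2.1)
  have hab01 := hprod l0 l1 hcab
  have e01 : c.Eqz (a0 * a1) a2 := hc.lift_unique hab01.2 l2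
  have hstep : ∀ j, c.Eqz (al j * al (j + 1)) (al (j + 2)) ∧
      c.Eqz (al j * al (j + 1)) (al (j + 1) * al j) := by
    have hconj : ∀ j, c.Eqz (al j * al (j + 1)) (al (j + 2)) ∧
        c.Eqz (al j * al (j + 1)) (al (j + 1) * al j) →
        c.Eqz (al (j + 1) * al (j + 2)) (al (j + 3)) ∧
        c.Eqz (al (j + 1) * al (j + 2)) (al (j + 2) * al (j + 1)) := by
      rintro j ⟨h1, h2⟩
      have g1 := hc.eqz_conj hyH h1
      have g2 := hc.eqz_conj hyH h2
      have e1 : al (j + 2) = y * al (j + 1) * y⁻¹ := by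
        rw [← hal, show j + 1 + 1 = j + 2 by rw [add_assoc]; rfl]
      have e2 : al (j + 3) = y * al (j + 2) * y⁻¹ := by
        rw [← hal, show j + 2 + 1 = j + 3 by rw [add_assoc]; rfl]
      rw [e2, hal j]
      constructor
      · rw [e1] at g1 ⊢
        rwa [show y * (al j * al (j + 1)) * y⁻¹ = y * al j * y⁻¹ * (y * al (j + 1) * y⁻¹) by group] at g1
      · rw [e1]
        rwa [show y * (al j * al (j + 1)) * y⁻¹ = y * al j * y⁻¹ * (y * al (j + 1) * y⁻¹) by group,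
          show y * (al (j + 1) * al j) * y⁻¹ = y * al (j + 1) * y⁻¹ * (y * al j * y⁻¹) by group] at g2
    have h0 : c.Eqz (al 0 * al (0 + 1)) (al (0 + 2)) ∧ c.Eqz (al 0 * al (0 + 1)) (al (0 + 1) * al 0) :=
      ⟨e01, hab01.1⟩
    intro j; fin_cases j
    · exact h0
    · exact hconj 0 h0
    · exact hconj 1 (hconj 0 h0)
  -- the action of `y` on the three elements over the image of `x`
  obtain ⟨q, hq, hyx⟩ : ∃ q ∈ c.P, y * x * y⁻¹ = x * q := by
    have h1 : c.pr (x⁻¹ * (y * x * y⁻¹)) = 1 := by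
      rw [hc.pr_mul _ (inv_mem hxH) _ (mul_mem (mul_mem hyH hxH) (inv_mem hyH)),
        hc.pr_conj hyH hxH, hc.pr_inv hxH, ← hcxy.eq]
      group
    obtain ⟨q, hq, e | e⟩ := hc.Nh_ker (c.C_le_Nh
      (mul_mem (inv_mem hxC) (mul_mem (mul_mem hyC hxC) (inv_mem hyC)))) h1
    · exact ⟨q, hq, by rw [← e]; group⟩
    · exfalso
      have h2 : y * x * y⁻¹ = c.z * (x * q) := by
        calc y * x * y⁻¹ = x * (x⁻¹ * (y * x * y⁻¹)) := by group
          _ = x * c.z * q := by rw [e]; group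
          _ = c.z * x * q := by rw [c.mem_H.1 hxH]
          _ = c.z * (x * q) := by group
      have hzc : Commute c.z (x * q) := c.mem_H.1 (mul_mem hxH (hc.P_le hq))
      have hqx : Commute x q := (hc.P_central hq hxC).symm
      have h3 : (y * x * y⁻¹) ^ 3 = 1 := by rw [conj_pow, pow_three', hxx]; group
      rw [h2, hzc.mul_pow, hqx.mul_pow, pow_three' x, pow_three' q, hxx, hc.P_pow hq, pow_three',
        hc.z_sq] at h3
      exact hc.z_ne (by simpa using h3)
  obtain ⟨s, hs⟩ : ∃ s : Fin 3, q = p ^ (s : ℕ) := by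
    rcases hc.P_cases hp hp1 hq with e | e | e
    · exact ⟨0, by simpa using e⟩
    · exact ⟨1, by simpa using e⟩
    · exact ⟨2, by simpa [sq] using e⟩
  have hyxs : ∀ i, y * xs i * y⁻¹ = xs (i + s) := by
    intro i
    have hyp : y * p = p * y := (hc.P_central hp hyC).symm
    have hbase : ∀ i : Fin 3, xs i = x * p ^ (i : ℕ) := by
      intro i; fin_cases i
      · simp [xs]
      · simp [xs]
      · simp [xs, sq, mul_assoc]
    have hp3 : p ^ 3 = 1 := by rw [pow_three']; exact hc.P_pow hp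
    have hpi : y * p ^ (i : ℕ) * y⁻¹ = p ^ (i : ℕ) := by
      rw [(show Commute y p from hyp).pow_right (i : ℕ) |>.eq, mul_inv_cancel_right]
    rw [hbase i, show y * (x * p ^ (i : ℕ)) * y⁻¹ = (y * x * y⁻¹) * (y * p ^ (i : ℕ) * y⁻¹) by group,
      hpi, hyx, hs, hbase (i + s), Fin.val_add, mul_assoc, ← pow_add, add_comm (s : ℕ) (i : ℕ)]
    congr 1
    exact pow_eq_pow_mod _ hp3
  let T : Fin 3 → Fin 3 → Bool := fun i j => decide (c.TrivOn (al j) (c.Piece (xs i)))
  have hT : ∀ i j, T i j = true ↔ c.TrivOn (al j) (c.Piece (xs i)) := fun i j => decide_eq_true_iff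
  have hF : ∀ i j, T i j = false ↔ ¬ c.TrivOn (al j) (c.Piece (xs i)) := fun i j => decide_eq_false_iff_not
  have hmul : ∀ i j, c.TrivOn (al j) (c.Piece (xs i)) → c.TrivOn (al (j + 1)) (c.Piece (xs i)) →
      c.TrivOn (al j * al (j + 1)) (c.Piece (xs i)) := by
    intro i j h1 h2 v hv
    have hjH := (mem_inf.1 (halC j).1).1
    rw [show al j * al (j + 1) * v * (al j * al (j + 1))⁻¹ =
      al j * (al (j + 1) * v * (al (j + 1))⁻¹) * (al j)⁻¹ by group]
    exact hc.eqz_trans (h1 v hv) (hc.eqz_conj hjH (h2 v hv))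
  have c1 : ∀ i, ∃ j, T i j = true := by
    intro i
    by_cases h0 : T i 0 = true
    · exact ⟨0, h0⟩
    by_cases h1 : T i 1 = true
    · exact ⟨1, h1⟩
    refine ⟨2, (hT i 2).2 ((hc.trivOn_eqz (hc.piece_stable (hxs i).xC).le
      (mul_mem (mem_inf.1 (halC 0).1).1 (mem_inf.1 (halC 1).1).1) (hstep 0).1).1 ?_)⟩
    exact (hxs i).pair hc hd (halC 0).1 (halC 1).1 (halC 0).2 (halC 1).2 (halxs i 0) (halxs i 1)
      (hstep 0).2 (fun h => h0 ((hT i 0).2 h)) (fun h => h1 ((hT i 1).2 h))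
  have c2 : ∀ j, ∃ i, T i j = false := by
    intro j
    by_contra hall
    push Not at hall
    have htr : ∀ i, c.TrivOn (al j) (c.Piece (xs i)) := fun i => (hT i j).1 (by simpa using hall i)
    have hcen : ∀ i, ∀ v ∈ c.Piece (xs i), al j * v = v * al j := fun i v hv =>
      hc.ptrick (hc.piece_stable (hxs i).xC) (halC j).1 (htr i) hv
    have hjH := (mem_inf.1 (halC j).1).1
    have hE : al j ∈ c.E := hc.cent _ hjH fun v hv =>
      t.commute_of_pieces hc hjH (hcen 0) (hcen 1) (hcen 2) hv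
    have h1 := hc.pr_E hE
    have hne : c.pr (al j) ≠ 1 := by
      fin_cases j
      · show c.pr a0 ≠ 1
        rw [l0.2.2]; intro e; rw [e, orderOf_one] at ha2; omega
      · show c.pr a1 ≠ 1
        rw [l1.2.2]; intro e; rw [e, orderOf_one] at hb2; omega
      · show c.pr a2 ≠ 1
        rw [l2.2.2]; intro e
        exact hne (by rw [mul_eq_one_iff_eq_inv.1 e, inv_eq_of_mul_eq_one_left h2b])
    exact hne h1
  have c3 : ∀ i j, T i j = T (i + s) (j + 1) := by
    intro i j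
    have hiff : c.TrivOn (al j) (c.Piece (xs i)) ↔ c.TrivOn (al (j + 1)) (c.Piece (xs (i + s))) := by
      have hm : ∀ v, v ∈ c.Piece (xs i) ↔ y * v * y⁻¹ ∈ c.Piece (xs (i + s)) := by
        intro v
        rw [← hyxs, mem_piece, mem_piece]
        have e1 : (y * v * y⁻¹ ∈ c.E) ↔ v ∈ c.E :=
          ⟨fun h => by simpa [mul_assoc] using hc.conjE (c.H.inv_mem hyH) h, hc.conjE hyH⟩
        rw [e1, show y * xs i * y⁻¹ * (y * v * y⁻¹) = y * (xs i * v) * y⁻¹ by group,
          show y * v * y⁻¹ * (y * xs i * y⁻¹) = y * (v * xs i) * y⁻¹ by group]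
        exact ⟨fun h => ⟨h.1, by rw [h.2]⟩,
          fun h => ⟨h.1, mul_left_cancel (mul_right_cancel h.2)⟩⟩
      constructor
      · intro h w hw
        have hv : y⁻¹ * w * y ∈ c.Piece (xs i) :=
          (hm _).2 (by rwa [show y * (y⁻¹ * w * y) * y⁻¹ = w by group])
        have := hc.eqz_conj hyH (h _ hv)
        rwa [show y * (y⁻¹ * w * y) * y⁻¹ = w by group,
          show y * (al j * (y⁻¹ * w * y) * (al j)⁻¹) * y⁻¹ = y * al j * y⁻¹ * w * (y * al j * y⁻¹)⁻¹ by group,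
          ← hal] at this
      · intro h v hv
        have h1 := hc.eqz_conj (c.H.inv_mem hyH) (h _ ((hm v).1 hv))
        rwa [hal, inv_inv, show y⁻¹ * (y * v * y⁻¹) * y = v by group,
          show y⁻¹ * (y * al j * y⁻¹ * (y * v * y⁻¹) * (y * al j * y⁻¹)⁻¹) * y = al j * v * (al j)⁻¹ by
            group] at h1
    show decide _ = decide _
    rw [decide_eq_decide]; exact hiff
  have c4 : ∀ i j, T i j = true → T i (j + 1) = true → T i (j + 2) = true := fun i j h1 h2 =>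
    (hT i (j + 2)).2 ((hc.trivOn_eqz (hc.piece_stable (hxs i).xC).le
      (mul_mem (mem_inf.1 (halC j).1).1 (mem_inf.1 (halC (j + 1)).1).1) (hstep j).1).1
        (hmul i j ((hT i j).1 h1) ((hT i (j + 1)).1 h2)))
  obtain ⟨i, hi0, hi1, hi2⟩ := fin_three_comb s T c1 c2 c3 c4
  refine ⟨a0, ab, haM, ha2, l0, ?_⟩
  have hnext : ∀ i, xs i * p = xs (i + 1) := by
    intro i; fin_cases i
    · rfl
    · rfl
    · show x * p * p * p = x
      exact t.cube hc
  have h := (hxs i).card_fix hc hd l0.1 l0.2.1 (halxs i 0) ((hT i 0).1 hi0)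
  rw [hnext i, hnext (i + 1), show i + 1 + 1 = i + 2 by rw [add_assoc]; rfl] at h
  exact h ((hF _ 0).1 hi1) ((hF _ 0).1 hi2)

/-- Inner involutions: fixed space `2^8`. -/
theorem Ok.card_fix_inner (hc : c.Ok) (hd : AutData A M) {h : G} (hh : h ∈ c.H) (hM : c.pr h ∈ M)
    (h1 : c.pr h ≠ 1) (h2 : h * h = 1 ∨ h * h = c.z) :
    Nat.card (hc.fixMod h) = 2 ^ 9 ∧ Nat.card (hc.imMod h hh) = 2 ^ 5 := by
  have key : Nat.card (hc.fixMod h) = 2 ^ 9 := by
    obtain ⟨a, α, hαM, hα, hl, hcard⟩ := hc.exists_rank hd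
    obtain ⟨e, he, n, hn, rfl⟩ := hc.inner_split hd hh hM
    rw [hc.fixMod_mul_left he (mem_inf.1 hn).1]
    have hpr : c.pr (e * n) = c.pr n := by
      rw [hc.pr_mul _ (hc.le_H he) _ (mem_inf.1 hn).1, hc.pr_E he, one_mul]
    rw [hpr] at h1 hM
    have hn2 : n * n = 1 ∨ n * n = c.z := by
      refine hc.mem_zp.1 ?_
      rw [← hc.E_inf_C]
      refine mem_inf.2 ⟨?_, mul_mem hn hn⟩
      have e1 : n * n = (n * e * n⁻¹)⁻¹ * e⁻¹ * (e * n * (e * n)) := by group
      rw [e1]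
      refine mul_mem (mul_mem (inv_mem (hc.conjE (mem_inf.1 hn).1 he)) (inv_mem he)) ?_
      rcases h2 with e2 | e2 <;> rw [e2]
      exacts [one_mem _, hc.z_mem]
    have ho : orderOf (c.pr n) = 2 := by
      refine orderOf_eq_prime ?_ h1
      rw [sq, ← hc.pr_mul _ (mem_inf.1 hn).1 _ (mem_inf.1 hn).1]
      rcases hn2 with e2 | e2 <;> rw [e2]
      exacts [hc.pr_one, hc.pr_E hc.z_mem]
    obtain ⟨g, hg, eg⟩ := hd.invol α hαM (c.pr n) hM hα ho
    obtain ⟨m, hm, rfl⟩ := hc.C_surj hd hg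
    have l' := hc.lift_conj hl hm
    rw [eg] at l'
    have e3 := hc.lift_unique l' ⟨hn, hn2, rfl⟩
    rw [hc.fixMod_eqz e3 (mem_inf.1 l'.1).1, hc.fixMod_conj (mem_inf.1 hm).1, hcard]
  refine ⟨key, ?_⟩
  have := hc.card_fix_im hh (hc.involMod_of_sq h2)
  rw [key] at this
  omega

/-- Outer elements acting as involutions: fixed space `= commutator space`, of order `2^6`. -/
theorem Ok.card_fix_outer (hc : c.Ok) (hd : AutData A M) {h : G} (hh : h ∈ c.H) (hM : c.pr h ∉ M)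
    (h2 : c.InvolMod h) :
    Nat.card (hc.fixMod h) = 2 ^ 7 ∧ Nat.card (hc.imMod h hh) = 2 ^ 7 ∧
      hc.imMod h hh = hc.fixMod h := by
  obtain ⟨p, hp, hp1⟩ := hc.exists_p
  set K := hc.fixMod h with hK
  set K' := K.map (MulAut.conj p).toMonoidHom with hK'
  have hpH := hc.P_le hp
  have hcap : K ⊓ K' ≤ zpowers c.z := by
    rintro w ⟨hw, hw'⟩
    obtain ⟨v, hv, rfl⟩ := hw'
    have hvE := hv.1
    have e1 : c.Eqz (p * v * p⁻¹) (h * (p * v * p⁻¹) * h⁻¹) := hw.2
    have e2 := hc.semilinear hd hh hM hp hvE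
    have e3 := hc.eqz_conj (c.H.inv_mem hpH) hv.2
    rw [inv_inv] at e3
    -- `p v p⁻¹ ≡ p⁻¹ v p`
    have e4 : c.Eqz (p * v * p⁻¹) (p⁻¹ * v * p) :=
      hc.eqz_trans (hc.eqz_trans e1 (hc.eqz_symm e2)) (hc.eqz_symm e3)
    have e5 := hc.eqz_conj hpH e4
    rw [show p * (p⁻¹ * v * p) * p⁻¹ = v by group] at e5
    have e7 := hc.eqz_conj hpH e5
    rw [show p * (p * (p * v * p⁻¹) * p⁻¹) * p⁻¹ = (p * p * p) * v * (p * p * p)⁻¹ by group,
      hc.P_pow hp, one_mul, inv_one, mul_one] at e7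
    show p * v * p⁻¹ ∈ zpowers c.z
    have hvz := hc.fpf hp hp1 hvE e7
    rcases hc.mem_zp.1 hvz with e | e <;> rw [e]
    · simp
    · rw [← c.mem_H.1 hpH, mul_inv_cancel_right]; exact mem_zpowers _
  have hK'E : K' ≤ c.E := by
    rintro _ ⟨v, hv, rfl⟩
    exact hc.conjE hpH hv.1
  have hcardK' : Nat.card K' = Nat.card K :=
    Subgroup.card_map_of_injective (MulAut.conj p).injective
  have hbound : Nat.card K * Nat.card K ≤ 2 ^ 14 := by
    have h1 := Subgroup.relIndex_inf_le (H := K) (K := K') (L := c.E)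
    have key : ∀ X : Subgroup G, X ≤ c.E → X.relIndex c.E * Nat.card X = 2 ^ 13 := by
      intro X hX
      rw [Subgroup.relIndex, ← hc.cardE, mul_comm, ← Nat.card_congr (subgroupOfEquivOfLe hX).toEquiv]
      exact Subgroup.card_mul_index _
    have k1 := key K (hc.fixMod_le h)
    have k2 := key K' hK'E
    have k3 := key (K ⊓ K') (inf_le_left.trans (hc.fixMod_le h))
    rw [hcardK'] at k2
    have hi : Nat.card ↥(K ⊓ K') ≤ 2 := by
      rw [← hc.ord, ← Nat.card_zpowers]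
      exact Nat.le_of_dvd Nat.card_pos (Subgroup.card_dvd_of_le hcap)
    have h3 : 2 ^ 12 ≤ (K ⊓ K').relIndex c.E := by
      have : (K ⊓ K').relIndex c.E * Nat.card ↥(K ⊓ K') ≤ (K ⊓ K').relIndex c.E * 2 :=
        Nat.mul_le_mul_left _ hi
      rw [k3] at this
      omega
    have h4 : 2 ^ 12 ≤ K.relIndex c.E * K'.relIndex c.E := h3.trans h1
    have h5 : 2 ^ 12 * (Nat.card K * Nat.card K) ≤ 2 ^ 26 := by
      refine (Nat.mul_le_mul_right _ h4).trans (le_of_eq ?_)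
      rw [mul_mul_mul_comm, k1, k2]; norm_num
    omega
  have hle := hc.imMod_le_fixMod hh h2
  have hmul := hc.card_fix_im hh h2
  have hge : Nat.card (hc.imMod h hh) ≤ Nat.card K := Nat.le_of_dvd Nat.card_pos (Subgroup.card_dvd_of_le hle)
  have h128 : Nat.card K = 2 ^ 7 := by
    have : 2 ^ 14 ≤ Nat.card K * Nat.card K := hmul ▸ Nat.mul_le_mul_left _ hge
    have hsq : Nat.card K * Nat.card K = 2 ^ 14 := le_antisymm hbound this
    exact Nat.mul_self_inj.1 (by rw [hsq]; norm_num)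
  have him : Nat.card (hc.imMod h hh) = 2 ^ 7 := by
    rw [← hK, h128] at hmul
    omega
  exact ⟨h128, him, Subgroup.eq_of_le_of_card_ge hle (le_of_eq (h128.trans him.symm))⟩

end Ctx

end Cfsg.Agent.H43.JFour
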