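import Cfsg.Agent.H43.J4.Duo

/-!
# The orbit of a second `z`-conjugate in `E`

For `e = d.z ∈ E` conjugate to `z` the image of `C_H(e)` in `A` is the whole normaliser of the elementary
group of order 32 cut out by `E_e`; the orbit of `e` has 1386 elements, 36 of which lie in the three pieces
of an element of order three, so that some involution of each piece is not conjugate to `z`.
-/

set_option autoImplicit false

namespace Cfsg.Agent.H43.JFour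

open Subgroup
open scoped commutatorElement

universe u v

variable {G : Type u} [Group G] [Finite G] {A : Type v} [Group A] {M : Subgroup A}

namespace Ctx

variable {c d : Ctx G A} {x p : G}

theorem Ok.exists_trip (hc : c.Ok) (hd : AutData A M) : ∃ x p, c.Trip x p := by
  obtain ⟨α, _, _, _, hα, -, -, -, ho, -⟩ := hd.three_four
  obtain ⟨x, hx, hx3, hxP, -⟩ := hc.three_lift hd hα ho
  obtain ⟨p, hp, hp1⟩ := hc.exists_p
  exact ⟨x, p, hx, hx3, hxP, hp, hp1⟩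

theorem Trip.pr_x (t : c.Trip x p) (hc : c.Ok) : orderOf (c.pr x) = 3 := by
  haveI : Fact (Nat.Prime 3) := ⟨Nat.prime_three⟩
  refine orderOf_eq_prime ?_ fun h => t.xP ?_
  · have h := congrArg c.pr t.x3
    rw [hc.pr_one, hc.pr_mul _ (mul_mem t.xH t.xH) _ t.xH, hc.pr_mul _ t.xH _ t.xH] at h
    rw [pow_three']; exact h
  · obtain ⟨q, hq, hxq | hxq⟩ := hc.Nh_ker (c.C_le_Nh t.xC) h
    · exact hxq ▸ hq
    · exfalso
      have h3 := t.x3
      have hzq : c.z * q = q * c.z := c.mem_H.1 (hc.P_le hq)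
      apply hc.z_ne
      calc c.z = c.z * c.z * c.z * (q * q * q) := by rw [hc.z_sq, one_mul, hc.P_pow hq, mul_one]
        _ = c.z * c.z * (c.z * q) * q * q := by group
        _ = c.z * c.z * (q * c.z) * q * q := by rw [hzq]
        _ = c.z * (c.z * q) * (c.z * q) * q := by group
        _ = c.z * (q * c.z) * (c.z * q) * q := by rw [hzq]
        _ = c.z * q * c.z * (c.z * q) * q := by group
        _ = c.z * q * c.z * (q * c.z) * q := by rw [hzq]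
        _ = x * x * x := by rw [hxq]; group
        _ = 1 := h3

/-- Involutions of `E` other than `z`. -/
def Sing (c : Ctx G A) : Set G := {w | w ∈ c.E ∧ w * w = 1 ∧ w ≠ 1 ∧ w ≠ c.z}

/-- Those of them fixed modulo `P` by `x`. -/
def PThree (c : Ctx G A) (x : G) : Set G := {w | w ∈ c.Sing ∧ ∃ q ∈ c.P, w ∈ c.Piece (x * q)}

theorem Ok.ncard_sing (hc : c.Ok) : Set.ncard c.Sing = 4158 := by
  have h : Set.ncard {w : G | w ∈ c.E ∧ w * w = 1} = 4160 := by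
    rw [← hc.count_all hc.stable_E hc.nondeg_E, ← Nat.card_coe_set_eq]
    exact Nat.card_congr ⟨fun w => ⟨⟨w, w.2.1⟩, w.2.2⟩, fun w => ⟨w.1, w.1.2, w.2⟩,
      fun w => rfl, fun w => rfl⟩
  have he : c.Sing = {w : G | w ∈ c.E ∧ w * w = 1} \ {1, c.z} := by
    ext w; simp [Sing, not_or, and_assoc]
  have hsub : ({1, c.z} : Set G) ⊆ {w : G | w ∈ c.E ∧ w * w = 1} := by
    rintro w (rfl | rfl)
    exacts [⟨one_mem _, one_mul _⟩, ⟨hc.z_mem, hc.z_sq⟩]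
  rw [he, Set.ncard_sdiff hsub, h, Set.ncard_pair hc.z_ne.symm]

theorem Trip.ncard_piece (t : c.Trip x p) (hc : c.Ok) (hd : AutData A M) :
    Set.ncard {w | w ∈ c.Sing ∧ w ∈ c.Piece x} = 18 := by
  have h : Set.ncard {w : G | w ∈ c.Piece x ∧ w * w = 1} = 20 := by
    rw [← t.count hc hd, ← Nat.card_coe_set_eq]
    exact Nat.card_congr ⟨fun w => ⟨⟨w, w.2.1⟩, w.2.2⟩, fun w => ⟨w.1, w.1.2, w.2⟩,
      fun w => rfl, fun w => rfl⟩
  have he : {w | w ∈ c.Sing ∧ w ∈ c.Piece x} = {w : G | w ∈ c.Piece x ∧ w * w = 1} \ {1, c.z} := by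
    ext w
    simp only [Sing, Set.mem_setOf_eq, Set.mem_diff, Set.mem_insert_iff, Set.mem_singleton_iff, not_or]
    exact ⟨fun ⟨⟨_, a, b, e⟩, f⟩ => ⟨⟨f, a⟩, b, e⟩,
      fun ⟨⟨f, a⟩, b, e⟩ => ⟨⟨(mem_piece.1 f).1, a, b, e⟩, f⟩⟩
  have hsub : ({1, c.z} : Set G) ⊆ {w : G | w ∈ c.Piece x ∧ w * w = 1} := by
    rintro w (rfl | rfl)
    exacts [⟨one_mem _, one_mul _⟩, ⟨(hc.piece_stable t.xC).z_mem, hc.z_sq⟩]
  rw [he, Set.ncard_sdiff hsub, h, Set.ncard_pair hc.z_ne.symm]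

theorem Trip.ncard_pThree (t : c.Trip x p) (hc : c.Ok) (hd : AutData A M) :
    Set.ncard (c.PThree x) = 54 := by
  classical
  have t1 := t.mul hc
  have t2 := t1.mul hc
  have he : c.PThree x = {w | w ∈ c.Sing ∧ w ∈ c.Piece x} ∪ {w | w ∈ c.Sing ∧ w ∈ c.Piece (x * p)} ∪
      {w | w ∈ c.Sing ∧ w ∈ c.Piece (x * p * p)} := by
    ext w
    simp only [PThree, Set.mem_setOf_eq, Set.mem_union]
    constructor
    · rintro ⟨hw, q, hq, hwq⟩
      rcases hc.P_cases t.pP t.p1 hq with rfl | rfl | rfl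
      · rw [mul_one] at hwq; exact Or.inl (Or.inl ⟨hw, hwq⟩)
      · exact Or.inl (Or.inr ⟨hw, hwq⟩)
      · rw [← mul_assoc] at hwq; exact Or.inr ⟨hw, hwq⟩
    · rintro ((⟨hw, h⟩ | ⟨hw, h⟩) | ⟨hw, h⟩)
      · exact ⟨hw, 1, one_mem _, by rwa [mul_one]⟩
      · exact ⟨hw, p, t.pP, h⟩
      · exact ⟨hw, p * p, mul_mem t.pP t.pP, by rwa [← mul_assoc]⟩
  have hdis : ∀ {y : G}, c.Trip y p → Disjoint {w | w ∈ c.Sing ∧ w ∈ c.Piece y}
      {w | w ∈ c.Sing ∧ w ∈ c.Piece (y * p)} := fun {y} ty => by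
    rw [Set.disjoint_left]
    rintro w ⟨hw, h1⟩ ⟨-, h2⟩
    have h : w ∈ zpowers c.z := ty.piece_inf hc ▸ mem_inf.2 ⟨h1, h2⟩
    rcases hc.mem_zp.1 h with e | e
    exacts [hw.2.2.1 e, hw.2.2.2 e]
  have d1 := hdis t
  have d2 := hdis t1
  have d3 := hdis t2
  rw [t.cube hc] at d3
  rw [he, Set.ncard_union_eq (Set.disjoint_union_left.2 ⟨d3.symm, d2⟩), Set.ncard_union_eq d1,
    t.ncard_piece hc hd, t1.ncard_piece hc hd, t2.ncard_piece hc hd]

namespace Duo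

/-- The orbit of `e`. -/
def Orb (c d : Ctx G A) : Set G := {w | ∃ h ∈ c.H, h * d.z * h⁻¹ = w}

variable (π : Duo c d)
include π

/-- The image of `C_H(e)`. -/
def Stb : Subgroup A := π.hc.img (c.H ⊓ d.H)

theorem mem_Stb {α : A} : α ∈ π.Stb ↔ ∃ h ∈ c.H ⊓ d.H, c.pr h = α := π.hc.mem_img inf_le_left

theorem exists_move : ∃ w ∈ c.E, w * d.z * w⁻¹ = c.z * d.z := by
  by_contra hno
  push Not at hno
  have hcen : ∀ b ∈ c.E, d.z * b = b * d.z := fun b hb => by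
    rcases π.hc.swap hb π.mem with f | f
    · exact f.symm
    · exact absurd (by rw [f]; group) (hno b hb)
  rcases π.hc.mem_of_center π.mem hcen with e | e
  · exact π.hd'.z_ne e
  · exact π.ne e

theorem stab_mem {h : G} (hh : h ∈ c.H) (e : c.Eqz d.z (h * d.z * h⁻¹)) : c.pr h ∈ π.Stb := by
  rcases e with e | e
  · refine π.mem_Stb.2 ⟨h, mem_inf.2 ⟨hh, d.mem_H.2 ?_⟩, rfl⟩
    calc d.z * h = h * d.z * h⁻¹ * h := by rw [e]
      _ = h * d.z := by group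
  · obtain ⟨w, hw, ew⟩ := π.exists_move
    have hfix : (w⁻¹ * h) * d.z * (w⁻¹ * h)⁻¹ = d.z := by
      rw [show (w⁻¹ * h) * d.z * (w⁻¹ * h)⁻¹ = w⁻¹ * (h * d.z * h⁻¹) * w by group, e, ← ew]; group
    refine π.mem_Stb.2 ⟨w⁻¹ * h, mem_inf.2 ⟨mul_mem (inv_mem (π.hc.le_H hw)) hh, d.mem_H.2 ?_⟩, ?_⟩
    · calc d.z * (w⁻¹ * h) = (w⁻¹ * h) * d.z * (w⁻¹ * h)⁻¹ * (w⁻¹ * h) := by rw [hfix]
        _ = w⁻¹ * h * d.z := by group
    · rw [π.hc.pr_mul _ (inv_mem (π.hc.le_H hw)) _ hh, π.hc.pr_E (inv_mem hw), one_mul]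

theorem Stb_le (hd : AutData A M) :
    π.Stb ≤ normalizer ((π.hc.img (Cs d c) : Subgroup A) : Set A) := by
  intro α hα
  obtain ⟨h, hh, rfl⟩ := π.mem_Stb.1 hα
  obtain ⟨hh1, hh2⟩ := mem_inf.1 hh
  refine π.hc.mem_normalizer_img (π.symm hd).Cs_le_H hh1 fun u hu => ?_
  obtain ⟨hu1, hu2⟩ := (π.symm hd).mem_Cs.1 hu
  refine (π.symm hd).mem_Cs.2 ⟨π.hd'.conjE hh2 hu1, ?_⟩
  exact c.mem_H.1 (mul_mem (mul_mem hh1 (c.mem_H.2 hu2)) (inv_mem hh1))

theorem card_inf_H : Nat.card ↥(c.H ⊓ d.H) = 2 ^ 12 * Nat.card π.Stb := by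
  let f : ↥(c.H ⊓ d.H) →* A := π.hc.prHom.comp (Subgroup.inclusion inf_le_left)
  have hr : f.range = π.Stb := by
    ext α
    rw [π.mem_Stb]
    exact ⟨fun ⟨h, e⟩ => ⟨h, h.2, e⟩, fun ⟨h, hh, e⟩ => ⟨⟨h, hh⟩, e⟩⟩
  have hk : f.ker = (Cs c d).subgroupOf (c.H ⊓ d.H) := by
    ext ⟨h, hh⟩
    rw [MonoidHom.mem_ker, mem_subgroupOf]
    show c.pr h = 1 ↔ h ∈ Cs c d
    obtain ⟨hh1, hh2⟩ := mem_inf.1 hh
    refine ⟨fun h1 => ?_, fun h1 => π.hc.pr_E (π.mem_Cs.1 h1).1⟩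
    obtain ⟨v, hv, q, hq, rfl⟩ := exists_mul_of_mem_sup π.hc.P_norm ((π.hc.pr_ker h hh1).1 h1)
    have e1 : v * (q * d.z * q⁻¹) * v⁻¹ = d.z := by
      calc v * (q * d.z * q⁻¹) * v⁻¹ = (v * q) * d.z * (v * q)⁻¹ := by group
        _ = d.z := by rw [← d.mem_H.1 hh2]; group
    have e2 : c.Eqz d.z (q * d.z * q⁻¹) := by
      have := π.hc.eqz_E_conj hv (π.hc.conjE (π.hc.P_le hq) π.mem)
      rw [e1] at this
      exact π.hc.eqz_symm this
    have hq1 : q = 1 := by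
      by_contra hne
      rcases π.hc.mem_zp.1 (π.hc.fpf hq hne π.mem e2) with e | e
      exacts [π.hd'.z_ne e, π.ne e]
    subst hq1
    rw [mul_one] at hh2 ⊢
    exact π.mem_Cs.2 ⟨hv, d.mem_H.1 hh2⟩
  have h := f.ker.card_mul_index
  rw [Subgroup.index_ker, hr, hk, Nat.card_congr (subgroupOfEquivOfLe ?_).toEquiv, π.card_Cs] at h
  · exact h.symm
  · exact fun u hu => mem_inf.2 ⟨π.hc.le_H (π.mem_Cs.1 hu).1, π.Cs_le_H hu⟩

theorem ncard_orb (hd : AutData A M) : Set.ncard (Orb c d) = 6 * π.Stb.index := by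
  classical
  let K : Subgroup c.H := (c.H ⊓ d.H).subgroupOf c.H
  let f : c.H → G := fun h => (h : G) * d.z * (h : G)⁻¹
  have hf : ∀ a b : c.H, f a = f b ↔ a⁻¹ * b ∈ K := by
    intro a b
    show (a : G) * d.z * (a : G)⁻¹ = (b : G) * d.z * (b : G)⁻¹ ↔ ((a⁻¹ * b : c.H) : G) ∈ c.H ⊓ d.H
    rw [mem_inf, Subgroup.coe_mul, Subgroup.coe_inv, d.mem_H]
    constructor
    · intro e
      refine ⟨mul_mem (inv_mem a.2) b.2, ?_⟩
      calc d.z * ((a : G)⁻¹ * b) = (a : G)⁻¹ * ((a : G) * d.z * (a : G)⁻¹) * b := by group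
        _ = (a : G)⁻¹ * b * d.z := by rw [e]; group
    · rintro ⟨-, e⟩
      calc (a : G) * d.z * (a : G)⁻¹ = (a : G) * (d.z * ((a : G)⁻¹ * b)) * (b : G)⁻¹ := by group
        _ = (b : G) * d.z * (b : G)⁻¹ := by rw [e]; group
  let F : c.H ⧸ K → Orb c d := Quotient.lift (fun h => ⟨f h, h, h.2, rfl⟩) (fun a b hab =>
    Subtype.ext ((hf a b).2 (QuotientGroup.leftRel_apply.1 hab)))
  have hF : Function.Bijective F := by
    refine ⟨?_, ?_⟩
    · rintro ⟨a⟩ ⟨b⟩ e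
      exact QuotientGroup.eq.2 ((hf a b).1 (congrArg Subtype.val e))
    · rintro ⟨w, h, hh, rfl⟩
      exact ⟨QuotientGroup.mk ⟨h, hh⟩, rfl⟩
  have h1 : Set.ncard (Orb c d) = K.index := by
    rw [← Nat.card_coe_set_eq, ← Nat.card_eq_of_bijective F hF]; rfl
  have h2 := K.card_mul_index
  rw [Nat.card_congr (subgroupOfEquivOfLe (inf_le_left : c.H ⊓ d.H ≤ c.H)).toEquiv, π.card_inf_H,
    π.hc.card_H, ← h1, ← π.Stb.card_mul_index] at h2
  haveI := hd.finite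
  have hpos : 0 < Nat.card π.Stb := Nat.card_pos
  refine Nat.eq_of_mul_eq_mul_left (Nat.mul_pos (show 0 < 2 ^ 12 by norm_num) hpos) ?_
  rw [h2]; ring

theorem orb_sing : Orb c d ⊆ c.Sing := by
  rintro w ⟨h, hh, rfl⟩
  refine ⟨π.hc.conjE hh π.mem, ?_, fun e => π.hd'.z_ne ?_, fun e => π.ne ?_⟩
  · rw [show h * d.z * h⁻¹ * (h * d.z * h⁻¹) = h * (d.z * d.z) * h⁻¹ by group, π.hd'.z_sq]; group
  · calc d.z = h⁻¹ * (h * d.z * h⁻¹) * h := by group
      _ = 1 := by rw [e]; group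
  · calc d.z = h⁻¹ * (h * d.z * h⁻¹) * h := by group
      _ = h⁻¹ * (c.z * h) := by rw [e]; group
      _ = c.z := by rw [c.mem_H.1 hh, inv_mul_cancel_left]

theorem conj_P_mem {q h : G} (hq : q ∈ c.P) (hh : h ∈ c.H) {ζ : G} (hζ : ζ ∈ zpowers c.z) :
    ζ * (q * (h * d.z * h⁻¹) * q⁻¹) ∈ Orb c d := by
  rcases π.hc.mem_zp.1 hζ with rfl | rfl
  · exact ⟨q * h, mul_mem (π.hc.P_le hq) hh, by group⟩
  · obtain ⟨w, hw, ew⟩ := π.exists_move
    refine ⟨q * h * w, mul_mem (mul_mem (π.hc.P_le hq) hh) (π.hc.le_H hw), ?_⟩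
    rw [show q * h * w * d.z * (q * h * w)⁻¹ = q * (h * (w * d.z * w⁻¹) * h⁻¹) * q⁻¹ by group, ew,
      show q * (h * (c.z * d.z) * h⁻¹) * q⁻¹ = (q * h) * c.z * (q * h)⁻¹ * (q * (h * d.z * h⁻¹) * q⁻¹) by group,
      ← c.mem_H.1 (mul_mem (π.hc.P_le hq) hh), mul_inv_cancel_right]

/-- A point fixed by `x` gives an element in a piece. -/
theorem point_fixed (t : c.Trip x p) {h : G} (hh : h ∈ c.H)
    (hs : (c.pr h)⁻¹ * c.pr x * c.pr h ∈ π.Stb) : ∃ q ∈ c.P, h * d.z * h⁻¹ ∈ c.Piece (x * q) := by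
  obtain ⟨m, hm, em⟩ := π.mem_Stb.1 hs
  obtain ⟨hm1, hm2⟩ := mem_inf.1 hm
  have hk : x * (h * m⁻¹ * h⁻¹) ∈ c.E ⊔ c.P := by
    refine (π.hc.pr_ker _ (mul_mem t.xH (mul_mem (mul_mem hh (inv_mem hm1)) (inv_mem hh)))).1 ?_
    rw [π.hc.pr_mul _ t.xH _ (mul_mem (mul_mem hh (inv_mem hm1)) (inv_mem hh)), π.hc.pr_conj hh (inv_mem hm1),
      π.hc.pr_inv hm1, em]
    group
  obtain ⟨v, hv, q, hq, e⟩ := exists_mul_of_mem_sup π.hc.P_norm hk
  have hwE : h * d.z * h⁻¹ ∈ c.E := π.hc.conjE hh π.mem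
  have hx : x * (h * d.z * h⁻¹) * x⁻¹ = v * (q * (h * d.z * h⁻¹) * q⁻¹) * v⁻¹ := by
    have hx' : x = v * q * (h * m * h⁻¹) := by rw [← e]; group
    have hmd : m * d.z * m⁻¹ = d.z := by rw [← d.mem_H.1 hm2]; group
    rw [hx', show v * q * (h * m * h⁻¹) * (h * d.z * h⁻¹) * (v * q * (h * m * h⁻¹))⁻¹ =
      v * (q * (h * (m * d.z * m⁻¹) * h⁻¹) * q⁻¹) * v⁻¹ by group, hmd]
  refine ⟨q⁻¹, inv_mem hq, mem_piece.2 ⟨hwE, π.hc.exact_fix (mul_mem t.xH (inv_mem (π.hc.P_le hq))) ?_ ?_⟩⟩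
  · have hcm : Commute x q⁻¹ := (π.hc.P_central (inv_mem hq) t.xC).symm
    calc x * q⁻¹ * (x * q⁻¹) * (x * q⁻¹) = (x * q⁻¹) ^ 3 := (pow_three' _).symm
      _ = x ^ 3 * q⁻¹ ^ 3 := hcm.mul_pow 3
      _ = 1 := by rw [pow_three', pow_three', t.x3, π.hc.P_pow (inv_mem hq), one_mul]
  · have hqx : x * q⁻¹ = q⁻¹ * x := (π.hc.P_central (inv_mem hq) t.xC).symm
    rw [hqx, show q⁻¹ * x * (h * d.z * h⁻¹) * (q⁻¹ * x)⁻¹ = q⁻¹ * (x * (h * d.z * h⁻¹) * x⁻¹) * q by group, hx]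
    have h1 := π.hc.eqz_conj (inv_mem (π.hc.P_le hq)) (π.hc.eqz_E_conj hv (π.hc.conjE (π.hc.P_le hq) hwE))
    rwa [inv_inv, show q⁻¹ * (q * (h * d.z * h⁻¹) * q⁻¹) * q = h * d.z * h⁻¹ by group] at h1

/-- Conversely. -/
theorem fixed_point {h q : G} (t : c.Trip x p) (hh : h ∈ c.H) (hq : q ∈ c.P)
    (hw : h * d.z * h⁻¹ ∈ c.Piece (x * q)) : (c.pr h)⁻¹ * c.pr x * c.pr h ∈ π.Stb := by
  have hy : x * q ∈ c.H := mul_mem t.xH (π.hc.P_le hq)
  have h1 : h⁻¹ * (x * q) * h ∈ c.H := mul_mem (mul_mem (inv_mem hh) hy) hh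
  refine π.mem_Stb.2 ⟨h⁻¹ * (x * q) * h, mem_inf.2 ⟨h1, d.mem_H.2 ?_⟩, ?_⟩
  · have := (mem_piece.1 hw).2
    calc d.z * (h⁻¹ * (x * q) * h) = h⁻¹ * (h * d.z * h⁻¹ * (x * q)) * h := by group
      _ = h⁻¹ * (x * q) * h * d.z := by rw [← this]; group
  · rw [π.hc.pr_mul _ (mul_mem (inv_mem hh) hy) _ hh, π.hc.pr_mul _ (inv_mem hh) _ hy,
      π.hc.pr_inv hh, π.hc.pr_mul _ t.xH _ (π.hc.P_le hq), π.hc.pr_P hq, mul_one]

/-- The cosets of the stabiliser fixed by `x`. -/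
abbrev FixCos (x : G) : Type v := {τ : A ⧸ π.Stb // τ.out⁻¹ * c.pr x * τ.out ∈ π.Stb}

theorem fixCos_mk {α : A} (h : α⁻¹ * c.pr x * α ∈ π.Stb) :
    (QuotientGroup.mk α : A ⧸ π.Stb).out⁻¹ * c.pr x * (QuotientGroup.mk α : A ⧸ π.Stb).out ∈ π.Stb := by
  obtain ⟨s, hs⟩ := QuotientGroup.mk_out_eq_mul π.Stb α
  rw [hs, show (α * (s : A))⁻¹ * c.pr x * (α * s) = (s : A)⁻¹ * (α⁻¹ * c.pr x * α) * s by group]
  exact mul_mem (mul_mem (inv_mem s.2) h) s.2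

theorem ncard_orb_pThree (t : c.Trip x p) :
    Set.ncard (Orb c d ∩ c.PThree x) = 6 * Nat.card (π.FixCos x) := by
  classical
  choose L hLH hLp using π.hc.pr_surj
  let F : π.FixCos x × c.P × zpowers c.z → G := fun u =>
    (u.2.2 : G) * ((u.2.1 : G) * (L u.1.1.out * d.z * (L u.1.1.out)⁻¹) * (u.2.1 : G)⁻¹)
  have hnz : ∀ {w : G}, w ∈ Orb c d → w ∈ zpowers c.z → False := fun hw h => by
    rcases π.hc.mem_zp.1 h with e | e
    exacts [(π.orb_sing hw).2.2.1 e, (π.orb_sing hw).2.2.2 e]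
  have hinj : Function.Injective F := by
    rintro ⟨τ, ⟨q, hq⟩, ⟨ζ, hζ⟩⟩ ⟨τ', ⟨q', hq'⟩, ⟨ζ', hζ'⟩⟩ e
    set h := L τ.1.out with hh
    set h' := L τ'.1.out with hh'
    replace e : ζ * (q * (h * d.z * h⁻¹) * q⁻¹) = ζ' * (q' * (h' * d.z * h'⁻¹) * q'⁻¹) := e
    have eq1 : c.Eqz (q * (h * d.z * h⁻¹) * q⁻¹) (q' * (h' * d.z * h'⁻¹) * q'⁻¹) := by
      rcases π.hc.mem_zp.1 hζ with rfl | rfl <;> rcases π.hc.mem_zp.1 hζ' with rfl | rfl
      · rw [one_mul, one_mul] at e; exact Or.inl e.symm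
      · rw [one_mul] at e; exact π.hc.eqz_symm (Or.inr e)
      · rw [one_mul] at e; exact Or.inr e.symm
      · exact Or.inl (mul_left_cancel e).symm
    have hg : (q * h)⁻¹ * (q' * h') ∈ c.H :=
      mul_mem (inv_mem (mul_mem (π.hc.P_le hq) (hLH _))) (mul_mem (π.hc.P_le hq') (hLH _))
    have hst := π.stab_mem hg (by
      have h1 := π.hc.eqz_conj (inv_mem (mul_mem (π.hc.P_le hq) (hLH τ.1.out))) eq1
      rwa [← hh, show (q * h)⁻¹ * (q * (h * d.z * h⁻¹) * q⁻¹) * ((q * h)⁻¹)⁻¹ = d.z by group,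
        show (q * h)⁻¹ * (q' * (h' * d.z * h'⁻¹) * q'⁻¹) * ((q * h)⁻¹)⁻¹ =
          (q * h)⁻¹ * (q' * h') * d.z * ((q * h)⁻¹ * (q' * h'))⁻¹ by group] at h1)
    rw [π.hc.pr_mul _ (inv_mem (mul_mem (π.hc.P_le hq) (hLH _))) _ (mul_mem (π.hc.P_le hq') (hLH _)),
      π.hc.pr_inv (mul_mem (π.hc.P_le hq) (hLH _)), π.hc.pr_mul _ (π.hc.P_le hq) _ (hLH _),
      π.hc.pr_mul _ (π.hc.P_le hq') _ (hLH _), π.hc.pr_P hq, π.hc.pr_P hq', one_mul, one_mul,
      hLp, hLp] at hst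
    have hτ : τ = τ' := by
      refine Subtype.ext ?_
      rw [← QuotientGroup.out_eq' τ.1, ← QuotientGroup.out_eq' τ'.1]
      exact QuotientGroup.eq.2 hst
    subst hτ
    have hqq : q = q' := by
      by_contra hne
      have hne' : q'⁻¹ * q ≠ 1 := fun h1 => hne (inv_mul_eq_one.1 h1).symm
      have h1 := π.hc.eqz_conj (inv_mem (π.hc.P_le hq')) eq1
      rw [inv_inv, show h' = h from rfl, show q'⁻¹ * (q * (h * d.z * h⁻¹) * q⁻¹) * q' =
          (q'⁻¹ * q) * (h * d.z * h⁻¹) * (q'⁻¹ * q)⁻¹ by group,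
        show q'⁻¹ * (q' * (h * d.z * h⁻¹) * q'⁻¹) * q' = h * d.z * h⁻¹ by group] at h1
      exact hnz ⟨h, hLH _, rfl⟩ (π.hc.fpf (mul_mem (inv_mem hq') hq) hne'
        (π.hc.conjE (hLH _) π.mem) (π.hc.eqz_symm h1))
    subst hqq
    rw [mul_left_inj] at e
    subst e
    rfl
  have hrange : Set.range F = Orb c d ∩ c.PThree x := by
    ext w
    constructor
    · rintro ⟨⟨τ, ⟨q, hq⟩, ⟨ζ, hζ⟩⟩, rfl⟩
      have hO := π.conj_P_mem hq (hLH τ.1.out) hζ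
      refine ⟨hO, π.orb_sing hO, ?_⟩
      obtain ⟨r, hr, hw⟩ := π.point_fixed t (hLH τ.1.out) (by rw [hLp]; exact τ.2)
      refine ⟨r, hr, ?_⟩
      have hstb := π.hc.piece_stable (mul_mem t.xC (π.hc.P_le_C hr))
      refine mul_mem ?_ (hstb.conj q hq _ hw)
      exact (zpowers_le.2 hstb.z_mem) hζ
    · rintro ⟨⟨h, hh, rfl⟩, -, r, hr, hw⟩
      have hfp := π.fixed_point t hh hr hw
      obtain ⟨s, hs⟩ := QuotientGroup.mk_out_eq_mul π.Stb (c.pr h)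
      obtain ⟨m, hm, em⟩ := π.mem_Stb.1 s.2
      obtain ⟨hm1, hm2⟩ := mem_inf.1 hm
      set τ : π.FixCos x := ⟨QuotientGroup.mk (c.pr h), π.fixCos_mk hfp⟩
      set h0 := L τ.1.out with hh0
      have hk : h * m * h0⁻¹ ∈ c.E ⊔ c.P := by
        refine (π.hc.pr_ker _ (mul_mem (mul_mem hh hm1) (inv_mem (hLH _)))).1 ?_
        rw [π.hc.pr_mul _ (mul_mem hh hm1) _ (inv_mem (hLH _)), π.hc.pr_mul _ hh _ hm1, π.hc.pr_inv (hLH _),
          em, hLp]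
        show c.pr h * (s : A) * ((QuotientGroup.mk (c.pr h) : A ⧸ π.Stb).out)⁻¹ = 1
        rw [hs, mul_inv_cancel]
      obtain ⟨v, hv, q, hq, e⟩ := exists_mul_of_mem_sup π.hc.P_norm hk
      have hmd : m * d.z * m⁻¹ = d.z := by rw [← d.mem_H.1 hm2]; group
      have hwe : h * d.z * h⁻¹ = v * (q * (h0 * d.z * h0⁻¹) * q⁻¹) * v⁻¹ := by
        rw [show v * (q * (h0 * d.z * h0⁻¹) * q⁻¹) * v⁻¹ = (v * q) * (h0 * d.z * h0⁻¹) * (v * q)⁻¹ by group,
          ← e, show h * m * h0⁻¹ * (h0 * d.z * h0⁻¹) * (h * m * h0⁻¹)⁻¹ = h * (m * d.z * m⁻¹) * h⁻¹ by group,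
          hmd]
      rcases π.hc.eqz_E_conj hv (π.hc.conjE (π.hc.P_le hq) (π.hc.conjE (hLH τ.1.out) π.mem)) with f | f
      · exact ⟨⟨τ, ⟨q, hq⟩, ⟨1, one_mem _⟩⟩, by show 1 * _ = _; rw [one_mul, hwe, f]⟩
      · exact ⟨⟨τ, ⟨q, hq⟩, ⟨c.z, mem_zpowers _⟩⟩, by show c.z * _ = _; rw [hwe, f]⟩
  rw [← hrange, ← Nat.card_coe_set_eq, Nat.card_range_of_injective hinj, Nat.card_prod, Nat.card_prod,
    π.hc.cardP, Nat.card_zpowers, π.hc.ord]
  ring

/-- The stabiliser is the full normaliser of its elementary group, and meets the pieces in 36 points. -/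
theorem main (hd : AutData A M) (t : c.Trip x p) :
    π.Stb = normalizer ((π.hc.img (Cs d c) : Subgroup A) : Set A) ∧
      Set.ncard (Orb c d ∩ c.PThree x) = 36 := by
  classical
  haveI := hd.finite
  set R := π.hc.img (Cs d c) with hRdef
  have hR : IsR R := (π.symm hd).isR hd
  set N := normalizer (R : Set A) with hN
  have hle : π.Stb ≤ N := π.Stb_le hd
  set k := π.Stb.relIndex N with hk
  have hidx : π.Stb.index = k * 231 := by
    rw [← Subgroup.relIndex_mul_index hle, hN, hd.R_index _ hR]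
  have horb := π.ncard_orb hd
  rw [hidx] at horb
  have hle4 := Set.ncard_le_ncard π.orb_sing (Set.toFinite _)
  rw [π.hc.ncard_sing, horb] at hle4
  have hk0 : k ≠ 0 := Subgroup.index_ne_zero_of_finite (H := π.Stb.subgroupOf N)
  have hk3 : k ≤ 3 := by omega
  have hxo := t.pr_x π.hc
  set ι := {R' : Subgroup A // IsR R' ∧ c.pr x ∈ normalizer (R' : Set A)}
  choose α hα using fun R' : ι => hd.R_conj R R'.1 hR R'.2.1
  have hαN : ∀ R' : ι, (α R')⁻¹ * c.pr x * α R' ∈ N := by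
    intro R'
    have h := R'.2.2
    rw [← hα R', ← Subgroup.map_equiv_normalizer_eq] at h
    rwa [Ctx.mem_conj_map] at h
  have hkey : k ≤ 2 → ∀ y ∈ N, orderOf y = 3 → y ∈ π.Stb := by
    intro h2 y hy ho
    have h3 : y ^ 3 = 1 := ho ▸ pow_orderOf_eq_one y
    rcases (by omega : k = 1 ∨ k = 2) with e | e
    · exact Subgroup.relIndex_eq_one.1 e hy
    · have h := Subgroup.sq_mem_of_index_two (H := π.Stb.subgroupOf N) e (⟨y, hy⟩ * ⟨y, hy⟩)
      rw [mem_subgroupOf] at h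
      simp only [SubmonoidClass.coe_pow, Subgroup.coe_mul] at h
      rwa [show (y * y) ^ 2 = y ^ 3 * y by simp [pow_succ, mul_assoc], h3, one_mul] at h
  have hlow : k ≤ 2 → 6 * k ≤ Nat.card (π.FixCos x) := by
    intro h2
    let φ : ι × (N ⧸ π.Stb.subgroupOf N) → π.FixCos x := fun u =>
      ⟨QuotientGroup.mk (α u.1 * (u.2.out : A)), π.fixCos_mk (hkey h2 _
        (by
          rw [show (α u.1 * (u.2.out : A))⁻¹ * c.pr x * (α u.1 * u.2.out) =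
            (u.2.out : A)⁻¹ * ((α u.1)⁻¹ * c.pr x * α u.1) * u.2.out by simp [mul_assoc]]
          exact mul_mem (mul_mem (inv_mem u.2.out.2) (hαN u.1)) u.2.out.2)
        (by
          rw [← hxo, show (α u.1 * (u.2.out : A))⁻¹ * c.pr x * (α u.1 * u.2.out) =
            MulAut.conj (α u.1 * (u.2.out : A))⁻¹ (c.pr x) by simp [mul_assoc]]
          exact MulEquiv.orderOf_eq _ _))⟩
    have hφ : Function.Injective φ := by
      rintro ⟨R₁, ν₁⟩ ⟨R₂, ν₂⟩ e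
      have h := QuotientGroup.eq.1 (congrArg Subtype.val e)
      have hN12 : (α R₁)⁻¹ * α R₂ ∈ N := by
        have h' := mul_mem (mul_mem ν₁.out.2 (hle h)) (inv_mem ν₂.out.2)
        rwa [show (ν₁.out : A) * ((α R₁ * (ν₁.out : A))⁻¹ * (α R₂ * ν₂.out)) * (ν₂.out : A)⁻¹ =
          (α R₁)⁻¹ * α R₂ by group] at h'
      have hRR : R₁ = R₂ := by
        refine Subtype.ext ?_
        rw [← hα R₁, ← hα R₂]
        ext b
        rw [Ctx.mem_conj_map, Ctx.mem_conj_map]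
        have := mem_normalizer_iff.1 hN12 ((α R₂)⁻¹ * b * α R₂)
        rw [show (α R₁)⁻¹ * α R₂ * ((α R₂)⁻¹ * b * α R₂) * ((α R₁)⁻¹ * α R₂)⁻¹ = (α R₁)⁻¹ * b * α R₁ by group] at this
        exact this.symm
      subst hRR
      congr 1
      rw [← QuotientGroup.out_eq' ν₁, ← QuotientGroup.out_eq' ν₂]
      refine QuotientGroup.eq.2 (mem_subgroupOf.2 ?_)
      rwa [show (α R₁ * (ν₁.out : A))⁻¹ * (α R₁ * ν₂.out) = (ν₁.out : A)⁻¹ * ν₂.out by group] at h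
    haveI : Finite (π.FixCos x) := Subtype.finite
    have := Nat.card_le_card_of_injective φ hφ
    rw [Nat.card_prod, hd.R_six _ hxo, show Nat.card (N ⧸ π.Stb.subgroupOf N) = k from rfl] at this
    exact this
  have h54 := t.ncard_pThree π.hc hd
  have hint := π.ncard_orb_pThree t
  have hsub := Set.ncard_le_ncard (Set.inter_subset_right : Orb c d ∩ c.PThree x ⊆ c.PThree x) (Set.toFinite _)
  rw [h54, hint] at hsub
  rcases (by omega : k = 1 ∨ k = 2 ∨ k = 3) with e | e | e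
  · have hSN : π.Stb = N := le_antisymm hle (Subgroup.relIndex_eq_one.1 e)
    refine ⟨hSN, ?_⟩
    haveI : Finite (π.FixCos x) := Subtype.finite
    let ψ : π.FixCos x → ι := fun τ => ⟨R.map (MulAut.conj τ.1.out).toMonoidHom, by
      refine ⟨⟨?_, ?_⟩, ?_⟩
      · refine ⟨⟨⟨?_⟩⟩, ?_⟩
        · rintro ⟨_, a, ha, rfl⟩ ⟨_, b, hb, rfl⟩
          apply Subtype.ext
          show MulAut.conj _ a * MulAut.conj _ b = MulAut.conj _ b * MulAut.conj _ a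
          rw [← map_mul, ← map_mul, show a * b = b * a from
            congrArg Subtype.val (hR.1.1.is_comm.comm ⟨a, ha⟩ ⟨b, hb⟩)]
        · rintro _ ⟨a, ha, rfl⟩
          rw [← map_pow, hR.1.2 a ha, map_one]
      · rw [Subgroup.card_map_of_injective (MulAut.conj _).injective]; exact hR.2
      · rw [← Subgroup.map_equiv_normalizer_eq, Ctx.mem_conj_map, ← hN, ← hSN]; exact τ.2⟩
    have hψ : Function.Injective ψ := by
      intro τ₁ τ₂ h
      have h' : R.map (MulAut.conj τ₁.1.out).toMonoidHom = R.map (MulAut.conj τ₂.1.out).toMonoidHom :=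
        congrArg Subtype.val h
      refine Subtype.ext ?_
      rw [← QuotientGroup.out_eq' τ₁.1, ← QuotientGroup.out_eq' τ₂.1]
      refine QuotientGroup.eq.2 ?_
      refine hSN.ge ?_
      rw [hN, mem_normalizer_iff]
      intro b
      have hb := SetLike.ext_iff.1 h' (τ₂.1.out * b * τ₂.1.out⁻¹)
      rw [Ctx.mem_conj_map, Ctx.mem_conj_map,
        show τ₂.1.out⁻¹ * (τ₂.1.out * b * τ₂.1.out⁻¹) * τ₂.1.out = b by group] at hb
      rw [← hb, show τ₁.1.out⁻¹ * τ₂.1.out * b * (τ₁.1.out⁻¹ * τ₂.1.out)⁻¹ =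
        τ₁.1.out⁻¹ * (τ₂.1.out * b * τ₂.1.out⁻¹) * τ₁.1.out by group]
    have hup := Nat.card_le_card_of_injective ψ hψ
    rw [hd.R_six _ hxo] at hup
    have := hlow (by omega)
    rw [hint]; omega
  · exfalso
    have := hlow (by omega)
    omega
  · exfalso
    rw [e] at horb
    have hall : Orb c d = c.Sing :=
      Set.eq_of_subset_of_ncard_le π.orb_sing (by rw [π.hc.ncard_sing, horb]) (Set.toFinite _)
    obtain ⟨w, hw⟩ : (c.PThree x).Nonempty := Set.nonempty_of_ncard_ne_zero (by rw [h54]; norm_num)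
    obtain ⟨r, hr, hwr⟩ := hw.2
    obtain ⟨h, hh, rfl⟩ : w ∈ Orb c d := hall ▸ hw.1
    have hfp := π.fixed_point t hh hr hwr
    have h3 := Subgroup.orderOf_dvd_natCard _ hfp
    rw [show (c.pr h)⁻¹ * c.pr x * c.pr h = MulAut.conj (c.pr h)⁻¹ (c.pr x) by simp [MulAut.conj_apply],
      MulEquiv.orderOf_eq, hxo] at h3
    have hS := π.Stb.card_mul_index
    rw [hidx, e, hd.card] at hS
    omega

end Duo

/-- Some involution of each piece other than `z` is not conjugate to `z`. -/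
theorem Trip.exists_nonfused (t : c.Trip x p) (hc : c.Ok) (hd : AutData A M) :
    ∃ w ∈ c.Piece x, w * w = 1 ∧ w ≠ 1 ∧ w ≠ c.z ∧ ¬ IsConj c.z w := by
  classical
  by_contra hno
  push Not at hno
  have hall : ∀ w ∈ c.PThree x, IsConj c.z w := by
    rintro w ⟨⟨hwE, hw2, hw1, hwz⟩, q, hq, hwq⟩
    obtain ⟨g, hg, e⟩ : ∃ g ∈ c.C, g * x * g⁻¹ = x * q := by
      have h3 : (x * q) ^ 3 = 1 := by
        rw [(show Commute x q from (hc.P_central hq t.xC).symm).mul_pow, pow_three', pow_three', t.x3,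
          hc.P_pow hq, one_mul]
      refine hc.three_conj hd t.xC (mul_mem t.xC (hc.P_le_C hq)) (by rw [pow_three']; exact t.x3) h3 t.xP ?_
      intro h
      exact t.xP (by simpa using mul_mem h (inv_mem hq))
    have hgH : g ∈ c.H := (mem_inf.1 hg).1
    have hu : g⁻¹ * w * g ∈ c.Piece x := by
      refine mem_piece.2 ⟨by simpa using hc.conjE (inv_mem hgH) hwE, ?_⟩
      have h1 := (mem_piece.1 hwq).2
      rw [← e] at h1
      calc x * (g⁻¹ * w * g) = g⁻¹ * (g * x * g⁻¹ * w) * g := by group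
        _ = g⁻¹ * w * g * x := by rw [h1]; group
    have h1 : g⁻¹ * w * g ≠ 1 := fun h => hw1 (by
      calc w = g * (g⁻¹ * w * g) * g⁻¹ := by group
        _ = 1 := by rw [h]; group)
    have h2 : g⁻¹ * w * g ≠ c.z := fun h => hwz (by
      calc w = g * (g⁻¹ * w * g) * g⁻¹ := by group
        _ = c.z := by rw [h, ← c.mem_H.1 hgH, mul_inv_cancel_right])
    have h3 := hno _ hu (by
      rw [show g⁻¹ * w * g * (g⁻¹ * w * g) = g⁻¹ * (w * w) * g by group, hw2]; group) h1 h2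
    exact h3.trans (isConj_iff.2 ⟨g, by group⟩)
  have mk : ∀ w ∈ c.PThree x, ∃ d : Ctx G A, Duo c d ∧ d.z = w := by
    intro w hw
    obtain ⟨g, e⟩ := isConj_iff.1 (hall w hw)
    refine ⟨c.conj g, ⟨hc, hc.conj g, ?_, ?_⟩, e⟩
    · show g * c.z * g⁻¹ ∈ c.E
      rw [e]; exact hw.1.1
    · show g * c.z * g⁻¹ ≠ c.z
      rw [e]; exact hw.1.2.2.2
  have h54 := t.ncard_pThree hc hd
  obtain ⟨w, hw⟩ : (c.PThree x).Nonempty := Set.nonempty_of_ncard_ne_zero (by rw [h54]; norm_num)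
  obtain ⟨d, π, -⟩ := mk w hw
  obtain ⟨-, h36⟩ := π.main hd t
  obtain ⟨w', hw', hnw'⟩ : ∃ w' ∈ c.PThree x, w' ∉ Duo.Orb c d := by
    by_contra h
    push Not at h
    rw [Set.inter_eq_right.2 h] at h36
    omega
  obtain ⟨d', π', hd'z⟩ := mk w' hw'
  obtain ⟨-, h36'⟩ := π'.main hd t
  have hdis : Disjoint (Duo.Orb c d ∩ c.PThree x) (Duo.Orb c d' ∩ c.PThree x) := by
    rw [Set.disjoint_left]
    rintro u ⟨⟨h, hh, hu⟩, -⟩ ⟨⟨h', hh', hu'⟩, -⟩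
    refine hnw' ⟨h'⁻¹ * h, mul_mem (inv_mem hh') hh, ?_⟩
    rw [show h'⁻¹ * h * d.z * (h'⁻¹ * h)⁻¹ = h'⁻¹ * (h * d.z * h⁻¹) * h' by group, hu, ← hu', hd'z]
    group
  have h := Set.ncard_union_eq hdis (Set.toFinite _) (Set.toFinite _)
  have hle := Set.ncard_le_ncard (show Duo.Orb c d ∩ c.PThree x ∪ Duo.Orb c d' ∩ c.PThree x ⊆ c.PThree x from
    Set.union_subset Set.inter_subset_right Set.inter_subset_right) (Set.toFinite _)
  rw [h, h36, h36', h54] at hle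
  omega

end Ctx

end Cfsg.Agent.H43.JFour
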