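import Cfsg.Agent.H43.J4.Orbit

/-!
# Odd normal subgroups of the centraliser of an element of order three of `C`

The centraliser in `A` of an element of order three has odd elements of order dividing three only, and an
odd subgroup it normalises lies in the group generated by that element; lifted to `H` this says that an odd
subgroup of `C_H(x)` normalised by `C_H(x)` lies in `⟨x⟩`.
-/

set_option autoImplicit false

namespace Cfsg.Agent.H43.JFour

open Subgroup
open scoped commutatorElement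

universe u v

variable {G : Type u} [Group G] [Finite G] {A : Type v} [Group A] {M : Subgroup A}

/-- Fixed points of a map of prime period. -/
theorem card_fixed_mod {α : Type*} [Finite α] {p : ℕ} (hp : p.Prime) (f : α → α)
    (hf : ∀ a, f^[p] a = a) : Nat.card {a // f a = a} % p = Nat.card α % p := by
  classical
  haveI := Fintype.ofFinite α
  haveI : Fact p.Prime := ⟨hp⟩
  have hbij : Function.Bijective f := by
    obtain ⟨k, hk⟩ := Nat.exists_eq_succ_of_ne_zero hp.ne_zero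
    have h1 : ∀ a, f (f^[k] a) = a := fun a => by
      rw [← Function.iterate_succ_apply' f k, ← hk]; exact hf a
    have h2 : ∀ a, f^[k] (f a) = a := fun a => by
      rw [← Function.iterate_succ_apply f k, ← hk]; exact hf a
    exact ⟨fun a b e => by rw [← h2 a, ← h2 b, e], fun a => ⟨_, h1 a⟩⟩
  set σ : Equiv.Perm α := Equiv.ofBijective f hbij
  have hpow : ∀ n : ℕ, ∀ a, (σ ^ n) a = f^[n] a := fun n => by
    induction n with
    | zero => simp
    | succ n ih => intro a; rw [pow_succ', Equiv.Perm.mul_apply, ih, Function.iterate_succ_apply']; rfl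
  have hσ : σ ^ p ^ 1 = 1 := Equiv.ext fun a => by rw [pow_one, hpow, hf]; rfl
  have h := Equiv.Perm.card_compl_support_modEq hσ
  have e : Nat.card {a // f a = a} = σ.supportᶜ.card := by
    rw [Nat.card_eq_fintype_card]
    refine Fintype.card_of_subtype _ fun a => ?_
    simp [σ]
  rw [e, Nat.card_eq_fintype_card]
  exact h

namespace Ctx

variable {c : Ctx G A} {x p : G}

/-- An element of `C` of prime order at least five commutes with `x` only trivially. -/
theorem Trip.piece_le_cent (t : c.Trip x p) (hc : c.Ok) (hd : AutData A M) {y : G} (hy : y ∈ c.C)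
    (hyx : y * x = x * y) (hℓ : (orderOf y).Prime) (h5 : 5 ≤ orderOf y) :
    ∀ v ∈ c.Piece x, y * v = v * y := by
  classical
  have hyH : y ∈ c.H := hy.1
  set X := c.Piece x ⊓ centralizer ({y} : Set G) with hXdef
  have hX : c.Stable X := by
    have hP := hc.piece_stable t.xC
    refine ⟨inf_le_left.trans hP.le, mem_inf.2 ⟨hP.z_mem, mem_centralizer_iff.2 fun u hu => ?_⟩,
      fun q hq u hu => mem_inf.2 ⟨hP.conj q hq u (mem_inf.1 hu).1, mem_centralizer_iff.2 fun w hw => ?_⟩⟩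
    · rw [Set.mem_singleton_iff.1 hu]; exact (c.mem_H.1 hyH).symm
    · rw [Set.mem_singleton_iff.1 hw]
      have h1 : y * q = q * y := (hc.P_central hq hy).symm
      have h2 : y * q⁻¹ = q⁻¹ * y := (hc.P_central (inv_mem hq) hy).symm
      have h3 : y * u = u * y := mem_centralizer_iff.1 (mem_inf.1 hu).2 y rfl
      calc y * (q * u * q⁻¹) = (y * q) * u * q⁻¹ := by group
        _ = q * (y * u) * q⁻¹ := by rw [h1]; group
        _ = q * u * (y * q⁻¹) := by rw [h3]; group
        _ = q * u * q⁻¹ * y := by rw [h2]; group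
  let S := {v : c.Piece x // (v : G) * v = 1}
  let S' := {v : X // (v : G) * v = 1}
  let f : S → S := fun v => ⟨⟨y * ((v.1 : G)) * y⁻¹, t.conj_piece hc hy hyx v.1.2⟩, by
    show y * (v.1 : G) * y⁻¹ * (y * (v.1 : G) * y⁻¹) = 1
    rw [show y * (v.1 : G) * y⁻¹ * (y * (v.1 : G) * y⁻¹) = y * ((v.1 : G) * v.1) * y⁻¹ by group, v.2]; group⟩
  have hf : ∀ n : ℕ, ∀ v : S, ((f^[n] v).1 : G) = y ^ n * (v.1 : G) * (y ^ n)⁻¹ := fun n => by
    induction n with
    | zero => intro v; simp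
    | succ n ih =>
      intro v
      rw [Function.iterate_succ_apply']
      show y * ((f^[n] v).1 : G) * y⁻¹ = _
      rw [ih, pow_succ']; group
  have hmod := card_fixed_mod hℓ f fun v => Subtype.ext (Subtype.ext (by
    rw [hf, pow_orderOf_eq_one]; group))
  have hfix : Nat.card {v // f v = v} = Nat.card S' := Nat.card_congr
    ⟨fun v => ⟨⟨v.1.1, mem_inf.2 ⟨v.1.1.2, mem_centralizer_iff.2 fun w hw => by
      rw [Set.mem_singleton_iff.1 hw]
      have h := congrArg (fun s : S => (s.1 : G)) v.2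
      calc y * (v.1.1 : G) = y * (v.1.1 : G) * y⁻¹ * y := by group
        _ = (v.1.1 : G) * y := by rw [show y * (v.1.1 : G) * y⁻¹ = v.1.1 from h]⟩⟩, v.1.2⟩,
      fun v => ⟨⟨⟨v.1, (mem_inf.1 v.1.2).1⟩, v.2⟩, Subtype.ext (Subtype.ext (by
        show y * (v.1 : G) * y⁻¹ = v.1
        rw [mem_centralizer_iff.1 (mem_inf.1 v.1.2).2 y rfl, mul_inv_cancel_right]))⟩,
      fun v => rfl, fun v => rfl⟩
  rw [hfix, show Nat.card S = 20 from t.count hc hd] at hmod
  have hs3 : Nat.card S' % 3 = 2 := hc.sq_one_mod_three hX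
  let g : S' → S' := fun v => ⟨⟨c.z * (v.1 : G), mul_mem hX.z_mem v.1.2⟩, by
    show c.z * (v.1 : G) * (c.z * (v.1 : G)) = 1
    have hv := v.2
    calc c.z * (v.1 : G) * (c.z * (v.1 : G)) = c.z * ((v.1 : G) * c.z) * (v.1 : G) := by group
      _ = c.z * (c.z * (v.1 : G)) * (v.1 : G) := by rw [hc.z_comm (hX.le v.1.2)]
      _ = (c.z * c.z) * ((v.1 : G) * (v.1 : G)) := by group
      _ = 1 := by rw [hc.z_sq, hv, one_mul]⟩
  have hs2 := card_fixed_mod Nat.prime_two g fun v => Subtype.ext (Subtype.ext (by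
    show c.z * (c.z * (v.1 : G)) = v.1
    rw [← mul_assoc, hc.z_sq, one_mul]))
  haveI : IsEmpty {v // g v = v} := ⟨fun v => hc.z_ne (mul_eq_right.1
    (show c.z * (v.1.1 : G) = v.1.1 from congrArg (fun s : S' => (s.1 : G)) v.2))⟩
  rw [Nat.card_of_isEmpty] at hs2
  obtain ⟨k, -, hk⟩ := hc.stable_pow hX
  have hk32 : 2 ^ k ∣ 32 := hk ▸ t.card_piece hc hd ▸ Subgroup.card_dvd_of_le inf_le_left
  have hk5 : k ≤ 5 := (Nat.pow_dvd_pow_iff_le_right (x := 2) (by norm_num)).1 (by norm_num; exact hk32)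
  have hle : Nat.card S' ≤ 2 ^ k := hk ▸ Finite.card_subtype_le _
  have hX3 := hc.stable_mod_three hX
  rw [hk] at hX3
  intro v hv
  have hcase : k = 5 := by
    by_contra hne
    have h8 : 2 ^ k ≤ 8 := by
      interval_cases k <;> omega
    set s := Nat.card S'
    have : s ≤ 8 := hle.trans h8
    have hℓ5 : orderOf y ∣ 20 - s := (Nat.modEq_iff_dvd' (by omega)).1 (show s ≡ 20 [MOD orderOf y] from hmod)
    have hℓle : orderOf y ≤ 20 - s := Nat.le_of_dvd (by omega) hℓ5
    have : s = 2 ∨ s = 8 := by omega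
    rcases this with e | e <;> rw [e] at hℓ5
    · have h18 : orderOf y ∣ 2 * 3 * 3 := hℓ5
      rcases hℓ.dvd_mul.1 h18 with h | h
      · rcases hℓ.dvd_mul.1 h with h | h <;> have := Nat.le_of_dvd (by norm_num) h <;> omega
      · have := Nat.le_of_dvd (by norm_num) h; omega
    · have h12 : orderOf y ∣ 4 * 3 := hℓ5
      rcases hℓ.dvd_mul.1 h12 with h | h <;> have := Nat.le_of_dvd (by norm_num) h <;> omega
  rw [hcase] at hk
  have hXeq : X = c.Piece x :=
    Subgroup.eq_of_le_of_card_ge inf_le_left (by rw [hk, t.card_piece hc hd]; norm_num)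
  exact mem_centralizer_iff.1 (mem_inf.1 (hXeq.symm ▸ hv : v ∈ X)).2 y rfl

theorem Trip.prime_cent_false (t : c.Trip x p) (hc : c.Ok) (hd : AutData A M) {y : G} (hy : y ∈ c.C)
    (hyx : y * x = x * y) (hℓ : (orderOf y).Prime) (h5 : 5 ≤ orderOf y) : False := by
  have t1 := t.mul hc
  have t2 := t1.mul hc
  have hyp : y * p = p * y := (hc.P_central t.pP hy).symm
  have h1 : y * (x * p) = x * p * y := by rw [← mul_assoc, hyx, mul_assoc, hyp, mul_assoc]
  have h2 : y * (x * p * p) = x * p * p * y := by rw [← mul_assoc, h1, mul_assoc, hyp, ← mul_assoc]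
  have hyE : y ∈ c.E := hc.cent y hy.1 fun v hv => t.commute_of_pieces hc hy.1
    (t.piece_le_cent hc hd hy hyx hℓ h5) (t1.piece_le_cent hc hd hy h1 hℓ h5)
    (t2.piece_le_cent hc hd hy h2 hℓ h5) hv
  haveI := hc.finite
  have h := Subgroup.orderOf_dvd_natCard c.E hyE
  rw [hc.cardE] at h
  have := (Nat.prime_dvd_prime_iff_eq hℓ Nat.prime_two).1 (hℓ.dvd_of_dvd_pow h)
  omega

/-- Odd-order elements commuting with the image of `x` have order dividing three. -/
theorem Trip.cent_odd (t : c.Trip x p) (hc : c.Ok) (hd : AutData A M) {γ : A}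
    (hγ : γ * c.pr x = c.pr x * γ) {n : ℕ} (hn : Odd n) (hγn : γ ^ n = 1) : γ ^ 3 = 1 := by
  classical
  haveI := hd.finite
  haveI : Fact (Nat.Prime 3) := ⟨Nat.prime_three⟩
  have hodd : Odd (orderOf γ) := hn.of_dvd_nat (orderOf_dvd_of_pow_eq_one hγn)
  have key : ∀ ℓ, ℓ.Prime → ℓ ∣ orderOf γ → ℓ = 3 := by
    intro ℓ hℓ hdvd
    by_contra hne
    have hℓ2 : ℓ ≠ 2 := fun e => Nat.not_even_iff_odd.2 hodd (even_iff_two_dvd.2 (e ▸ hdvd))
    have h5 : 5 ≤ ℓ := by
      have h2 := hℓ.two_le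
      by_contra h
      obtain rfl | rfl | rfl : ℓ = 2 ∨ ℓ = 3 ∨ ℓ = 4 := by omega
      · exact hℓ2 rfl
      · exact hne rfl
      · norm_num at hℓ
    set γ' := γ ^ (orderOf γ / ℓ) with hγ'
    have hord : orderOf γ' = ℓ := orderOf_pow_orderOf_div (orderOf_pos γ).ne' hdvd
    have hγ'x : γ' * c.pr x = c.pr x * γ' := ((show Commute γ (c.pr x) from hγ).pow_left _).eq
    have hγ'M : γ' ∈ M := hd.mem_of_odd (hℓ.odd_of_ne_two hℓ2) (hord ▸ pow_orderOf_eq_one γ')
    obtain ⟨m, hm, hmpr⟩ := hc.C_surj hd hγ'M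
    have hmH : m ∈ c.H := hm.1
    have hxH := t.xH
    have hk : m * x * m⁻¹ * x⁻¹ ∈ c.C := mul_mem (mul_mem (mul_mem hm t.xC) (inv_mem hm)) (inv_mem t.xC)
    have hk1 : c.pr (m * x * m⁻¹ * x⁻¹) = 1 := by
      rw [hc.pr_mul _ (mul_mem (mul_mem hmH hxH) (inv_mem hmH)) _ (inv_mem hxH), hc.pr_conj hmH hxH,
        hc.pr_inv hxH, hmpr, hγ'x]
      group
    obtain ⟨q, hq, hqe⟩ := hc.Nh_ker (c.C_le_Nh hk) hk1
    have hxq : x * q = q * x := (hc.P_central hq t.xC).symm
    have hqx : m * x * m⁻¹ = q * x := by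
      rcases hqe with e | e
      · calc m * x * m⁻¹ = m * x * m⁻¹ * x⁻¹ * x := by group
          _ = q * x := by rw [e]
      · exfalso
        apply hc.z_ne
        have h : m * x * m⁻¹ = c.z * q * x := by
          calc m * x * m⁻¹ = m * x * m⁻¹ * x⁻¹ * x := by group
            _ = c.z * q * x := by rw [e]
        have hzqx : Commute c.z (q * x) := c.mem_H.1 (mul_mem (hc.P_le hq) hxH)
        have h3 : (m * x * m⁻¹) ^ 3 = 1 := by
          rw [← MulAut.conj_apply, ← map_pow, pow_three', t.x3, map_one]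
        rw [h, mul_assoc, hzqx.mul_pow, (show Commute q x from hxq.symm).mul_pow, pow_three' q,
          pow_three' x, pow_three' c.z, hc.P_pow hq, t.x3, hc.z_sq] at h3
        simpa using h3
    have hpow : ∀ k : ℕ, m ^ k * x * (m ^ k)⁻¹ = q ^ k * x := by
      intro k
      induction k with
      | zero => simp
      | succ k ih =>
        have hmq : Commute m (q ^ k) := (show Commute m q from (hc.P_central hq hm).symm).pow_right k
        rw [pow_succ' m, show m * m ^ k * x * (m * m ^ k)⁻¹ = m * (m ^ k * x * (m ^ k)⁻¹) * m⁻¹ by group, ih,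
          show m * (q ^ k * x) * m⁻¹ = (m * q ^ k) * (x * m⁻¹) by group, hmq.eq,
          show q ^ k * m * (x * m⁻¹) = q ^ k * (m * x * m⁻¹) by group, hqx, pow_succ, mul_assoc]
    have hprpow : ∀ k, c.pr (m ^ k) = γ' ^ k := fun k => by
      rw [← hmpr]; exact map_pow hc.prHom ⟨m, hmH⟩ k
    obtain ⟨r, hr, hre⟩ := hc.Nh_ker (c.C_le_Nh (pow_mem hm ℓ))
      (by rw [hprpow, ← hord, pow_orderOf_eq_one])
    have hr6 : (m ^ ℓ) ^ 6 = 1 := by
      have h6 : r ^ 6 = 1 := by
        rw [show 6 = 3 * 2 from rfl, pow_mul, pow_three', hc.P_pow hr, one_pow]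
      rcases hre with e | e <;> rw [e]
      · exact h6
      · rw [(show Commute c.z r from c.mem_H.1 (hc.P_le hr)).mul_pow, h6, mul_one,
          show 6 = 2 * 3 from rfl, pow_mul, sq, hc.z_sq, one_pow]
    have hm6 : (m ^ 6) * x = x * m ^ 6 := by
      have h := hpow 6
      rw [show q ^ 6 = 1 by rw [show 6 = 3 * 2 from rfl, pow_mul, pow_three', hc.P_pow hq, one_pow],
        one_mul] at h
      calc m ^ 6 * x = m ^ 6 * x * (m ^ 6)⁻¹ * m ^ 6 := by group
        _ = x * m ^ 6 := by rw [h]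
    haveI : Fact ℓ.Prime := ⟨hℓ⟩
    have ho : orderOf (m ^ 6) = ℓ := by
      refine orderOf_eq_prime (by rw [← pow_mul, mul_comm, pow_mul, hr6]) fun h => ?_
      have h2 : γ' ^ 6 = 1 := by rw [← hprpow, h, hc.pr_one]
      have h3 : ℓ ∣ 2 * 3 := hord ▸ orderOf_dvd_of_pow_eq_one h2
      rcases hℓ.dvd_mul.1 h3 with h4 | h4
      · exact hℓ2 ((Nat.prime_dvd_prime_iff_eq hℓ Nat.prime_two).1 h4)
      · exact hne ((Nat.prime_dvd_prime_iff_eq hℓ Nat.prime_three).1 h4)
    exact t.prime_cent_false hc hd (pow_mem hm 6) hm6 (ho ▸ hℓ) (ho ▸ h5)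
  obtain ⟨k, hk⟩ : ∃ k, orderOf γ = 3 ^ k := ⟨_, Nat.eq_prime_pow_of_unique_prime_dvd (orderOf_pos γ).ne'
    fun {d} hd' hdvd => key d hd' hdvd⟩
  obtain ⟨T, hT⟩ := (IsPGroup.of_card (G := zpowers γ) (by rw [Nat.card_zpowers, hk])).exists_le_sylow
  exact hd.syl_exp T γ (hT (mem_zpowers γ))

end Ctx

/-- Elements of order three of `A` are conjugate. -/
theorem AutData.three_conjA (hd : AutData A M) {a b : A} (ha : orderOf a = 3) (hb : orderOf b = 3) :
    ∃ g : A, g * a * g⁻¹ = b := by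
  haveI := hd.finite
  haveI : Fact (Nat.Prime 3) := ⟨Nat.prime_three⟩
  obtain ⟨T, hT⟩ := (IsPGroup.of_card (G := zpowers a) (n := 1)
    (by rw [Nat.card_zpowers, ha, pow_one])).exists_le_sylow
  obtain ⟨U, hU⟩ := (IsPGroup.of_card (G := zpowers b) (n := 1)
    (by rw [Nat.card_zpowers, hb, pow_one])).exists_le_sylow
  obtain ⟨g, rfl⟩ := MulAction.exists_smul_eq A T U
  have hb' : g⁻¹ * b * g ∈ T := by
    have h : b ∈ ((g • T : Sylow 3 A) : Subgroup A) := hU (mem_zpowers b)
    rw [Sylow.coe_subgroup_smul, Subgroup.mem_pointwise_smul_iff_inv_smul_mem] at h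
    have h2 : g⁻¹ * b * g ∈ (T : Subgroup A) := by simpa using h
    exact h2
  have hb1 : g⁻¹ * b * g ≠ 1 := fun h => by
    have : b = 1 := by
      calc b = g * (g⁻¹ * b * g) * g⁻¹ := by group
        _ = 1 := by rw [h]; group
    rw [this, orderOf_one] at hb; omega
  obtain ⟨h, -, e⟩ := hd.syl_trans T a (hT (mem_zpowers a)) _ hb'
    (fun h => by rw [h, orderOf_one] at ha; omega) hb1
  refine ⟨g * h, ?_⟩
  rw [show g * h * a * (g * h)⁻¹ = g * (h * a * h⁻¹) * g⁻¹ by group, e]; group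

/-- An involution of `M` normalising a Sylow three-subgroup centralises none of its elements `≠ 1`. -/
theorem AutData.syl_stab (hd : AutData A M) (T : Sylow 3 A) {x a : A} (hx : x ∈ T) (hx1 : x ≠ 1)
    (ha : a ∈ M) (hao : orderOf a = 2) (hax : a * x = x * a)
    (haT : a ∈ normalizer ((T : Subgroup A) : Set A)) : False := by
  classical
  haveI := hd.finite
  haveI := hd.normal
  haveI : Fact (Nat.Prime 3) := ⟨Nat.prime_three⟩
  set N := normalizer ((T : Subgroup A) : Set A) with hN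
  set J := M ⊓ N with hJ
  have hTM : (T : Subgroup A) ≤ M := fun b hb => hd.mem_of_odd (n := 3) (by decide) (hd.syl_exp T b hb)
  have hrel : M.relIndex N = 2 := by
    have hdvd : M.relIndex N ∣ 2 := hd.index ▸ Subgroup.relIndex_dvd_index_of_normal M N
    rcases (Nat.dvd_prime Nat.prime_two).1 hdvd with e | e
    · exfalso
      have h : N ⊔ M = ⊤ := Sylow.normalizer_sup_eq_top' T hTM
      rw [sup_eq_right.2 (Subgroup.relIndex_eq_one.1 e)] at h
      have := hd.index
      rw [h, Subgroup.index_top] at this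
      omega
    · exact e
  have hJcard : Nat.card J = 72 := by
    have h := (M.subgroupOf N).card_mul_index
    rw [← inf_subgroupOf_right M N, Nat.card_congr (subgroupOfEquivOfLe (inf_le_right : M ⊓ N ≤ N)).toEquiv,
      inf_subgroupOf_right, show (M.subgroupOf N).index = 2 from hrel, hd.syl_norm T] at h
    rw [hJ]; omega
  let K : Subgroup J := (centralizer ({x} : Set A)).subgroupOf J
  have hKmem : ∀ g : J, g ∈ K ↔ (g : A) * x = x * g := fun g => by
    simp [K, mem_subgroupOf, mem_centralizer_iff, eq_comm]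
  have hf : ∀ g h : J, (g : A) * x * (g : A)⁻¹ = (h : A) * x * (h : A)⁻¹ ↔ g⁻¹ * h ∈ K := by
    intro g h
    rw [hKmem, Subgroup.coe_mul, Subgroup.coe_inv]
    constructor
    · intro e
      calc (g : A)⁻¹ * h * x = (g : A)⁻¹ * ((h : A) * x * (h : A)⁻¹) * h := by group
        _ = x * ((g : A)⁻¹ * h) := by rw [← e]; group
    · intro e
      calc (g : A) * x * (g : A)⁻¹ = (g : A) * (x * ((g : A)⁻¹ * h)) * (h : A)⁻¹ := by group
        _ = (h : A) * x * (h : A)⁻¹ := by rw [← e]; group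
  let F : J ⧸ K → {b : T // b ≠ 1} := Quotient.lift
    (fun g => ⟨⟨(g : A) * x * (g : A)⁻¹, (mem_normalizer_iff.1 (mem_inf.1 g.2).2 x).1 hx⟩, fun h => hx1 (by
      have h' : (g : A) * x * (g : A)⁻¹ = 1 := congrArg Subtype.val h
      calc x = (g : A)⁻¹ * ((g : A) * x * (g : A)⁻¹) * g := by group
        _ = 1 := by rw [h']; group)⟩)
    (fun g h hab => Subtype.ext (Subtype.ext ((hf g h).2 (QuotientGroup.leftRel_apply.1 hab))))
  have hF : Function.Bijective F := by
    refine ⟨?_, ?_⟩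
    · rintro ⟨g⟩ ⟨h⟩ e
      exact QuotientGroup.eq.2 ((hf g h).1 (congrArg (fun s => ((s.1 : T) : A)) e))
    · rintro ⟨⟨b, hb⟩, hb1⟩
      obtain ⟨g, hg, e⟩ := hd.syl_trans T x hx b hb hx1 fun h => hb1 (Subtype.ext h)
      exact ⟨QuotientGroup.mk ⟨g, hg⟩, Subtype.ext (Subtype.ext e)⟩
  have hidx : K.index = 8 := by
    have h := Nat.card_eq_of_bijective F hF
    haveI := Fintype.ofFinite (T : Subgroup A)
    rw [show Nat.card (J ⧸ K) = K.index from rfl] at h
    rw [h, Nat.card_eq_fintype_card, Fintype.card_subtype_compl, Fintype.card_subtype_eq,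
      ← Nat.card_eq_fintype_card]
    have h9 := hd.card_syl T
    show Nat.card ↥(T : Subgroup A) - 1 = 8
    change Nat.card ↥(T : Subgroup A) = 9 at h9
    omega
  have hK : Nat.card K = 9 := by
    have h := K.card_mul_index
    rw [hidx, hJcard] at h
    omega
  have haJ : (⟨a, mem_inf.2 ⟨ha, haT⟩⟩ : J) ∈ K := (hKmem _).2 hax
  have h := Subgroup.orderOf_dvd_natCard K haJ
  rw [Subgroup.orderOf_mk, hao, hK] at h
  omega

namespace Ctx

variable {c : Ctx G A} {x p : G}

/-- An involution of `M` commuting with the image of `x`, lifted to commute with `x`. -/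
theorem Trip.exists_cent_invol (t : c.Trip x p) (hc : c.Ok) (hd : AutData A M) :
    ∃ n ∈ c.C, n * x = x * n ∧ orderOf (c.pr n) = 2 := by
  obtain ⟨x0, y0, a0, b0, hx0, -, ha0, -, hx0o, -, ha0o, -, -, -, -, hxa, -, -, -⟩ := hd.three_four
  obtain ⟨g, hg⟩ := hd.three_conjA hx0o (t.pr_x hc)
  haveI := hd.normal
  obtain ⟨m, hm, hmp⟩ := hc.C_surj hd ((inferInstance : M.Normal).conj_mem a0 ha0 g)
  have hmH : m ∈ c.H := hm.1
  have hxH := t.xH
  have hk : m * x * m⁻¹ * x⁻¹ ∈ c.C := mul_mem (mul_mem (mul_mem hm t.xC) (inv_mem hm)) (inv_mem t.xC)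
  have hcm : Commute (g * a0 * g⁻¹) (c.pr x) := by
    rw [← hg]
    exact (hxa.symm).map (MulAut.conj g).toMonoidHom
  obtain ⟨q, hq, hqe⟩ := hc.Nh_ker (c.C_le_Nh hk) (by
    rw [hc.pr_mul _ (mul_mem (mul_mem hmH hxH) (inv_mem hmH)) _ (inv_mem hxH), hc.pr_conj hmH hxH,
      hc.pr_inv hxH, hmp, hcm.eq]
    group)
  have hxq : x * q = q * x := (hc.P_central hq t.xC).symm
  have hqx : m * x * m⁻¹ = q * x := by
    rcases hqe with e | e
    · calc m * x * m⁻¹ = m * x * m⁻¹ * x⁻¹ * x := by group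
        _ = q * x := by rw [e]
    · exfalso
      apply hc.z_ne
      have h : m * x * m⁻¹ = c.z * q * x := by
        calc m * x * m⁻¹ = m * x * m⁻¹ * x⁻¹ * x := by group
          _ = c.z * q * x := by rw [e]
      have hzqx : Commute c.z (q * x) := c.mem_H.1 (mul_mem (hc.P_le hq) hxH)
      have h3 : (m * x * m⁻¹) ^ 3 = 1 := by
        rw [← MulAut.conj_apply, ← map_pow, pow_three', t.x3, map_one]
      rw [h, mul_assoc, hzqx.mul_pow, (show Commute q x from hxq.symm).mul_pow, pow_three' q,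
        pow_three' x, pow_three' c.z, hc.P_pow hq, t.x3, hc.z_sq] at h3
      simpa using h3
  refine ⟨m * m * m, mul_mem (mul_mem hm hm) hm, ?_, ?_⟩
  · have hmq : m * q = q * m := (hc.P_central hq hm).symm
    have h1 : m * m * m * x * (m * m * m)⁻¹ = x := by
      calc m * m * m * x * (m * m * m)⁻¹ = m * (m * (m * x * m⁻¹) * m⁻¹) * m⁻¹ := by group
        _ = m * ((m * q) * (x * m⁻¹)) * m⁻¹ := by rw [hqx]; group
        _ = m * (q * (m * x * m⁻¹)) * m⁻¹ := by rw [hmq]; group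
        _ = (m * (q * q)) * (x * m⁻¹) := by rw [hqx]; group
        _ = q * q * (m * x * m⁻¹) := by
          rw [show m * (q * q) = q * q * m by rw [← mul_assoc, hmq, mul_assoc, hmq, ← mul_assoc]]; group
        _ = q * q * q * x := by rw [hqx]; group
        _ = x := by rw [hc.P_pow hq, one_mul]
    calc m * m * m * x = m * m * m * x * (m * m * m)⁻¹ * (m * m * m) := by group
      _ = x * (m * m * m) := by rw [h1]
  · have h2 : orderOf (g * a0 * g⁻¹) = 2 := by rw [← MulAut.conj_apply, MulEquiv.orderOf_eq, ha0o]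
    rw [hc.pr_mul _ (mul_mem hmH hmH) _ hmH, hc.pr_mul _ hmH _ hmH, hmp]
    rw [show g * a0 * g⁻¹ * (g * a0 * g⁻¹) = 1 by rw [← sq, ← h2, pow_orderOf_eq_one], one_mul]
    exact h2

/-- **An odd subgroup of `C_H(x)` normalised by `C_H(x)` lies in `⟨x⟩`.** -/
theorem Trip.odd_le (t : c.Trip x p) (hc : c.Ok) (hd : AutData A M) {Q : Subgroup G}
    (hQH : Q ≤ c.H) (hQx : ∀ u ∈ Q, u * x = x * u) (hQodd : Odd (Nat.card Q))
    (hQn : ∀ h ∈ c.H, h * x = x * h → ∀ u ∈ Q, h * u * h⁻¹ ∈ Q) : Q ≤ zpowers x := by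
  classical
  haveI := hd.finite
  haveI : Fact (Nat.Prime 3) := ⟨Nat.prime_three⟩
  obtain ⟨n, hn, hnx, hno⟩ := t.exists_cent_invol hc hd
  have hnM : c.pr n ∈ M := (hc.mem_C_iff hd (c.C_le_Nh hn)).1 hn
  -- the image
  have hpow : ∀ u ∈ Q, u ^ Nat.card Q = 1 := fun u hu => by
    exact congrArg Subtype.val (pow_card_eq_one' (x := (⟨u, hu⟩ : Q)))
  have himgc : ∀ α ∈ hc.img Q, α * c.pr x = c.pr x * α := by
    intro α hα
    obtain ⟨u, hu, rfl⟩ := (hc.mem_img hQH).1 hα
    rw [← hc.pr_mul _ (hQH hu) _ t.xH, hQx u hu, hc.pr_mul _ t.xH _ (hQH hu)]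
  have himg3 : ∀ α ∈ hc.img Q, α ^ 3 = 1 := by
    intro α hα
    refine t.cent_odd hc hd (himgc α hα) hQodd ?_
    obtain ⟨u, hu, rfl⟩ := (hc.mem_img hQH).1 hα
    rw [show c.pr u ^ Nat.card Q = c.pr (u ^ Nat.card Q) from (map_pow hc.prHom ⟨u, hQH hu⟩ _).symm,
      hpow u hu, hc.pr_one]
  have himg : hc.img Q ≤ zpowers (c.pr x) := by
    intro α hα
    by_contra hne
    set T := hc.img Q ⊔ zpowers (c.pr x) with hT
    have hcm : ∀ a ∈ hc.img Q, ∀ b ∈ zpowers (c.pr x), a * b = b * a := by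
      intro a ha b hb
      obtain ⟨k, rfl⟩ := mem_zpowers_iff.1 hb
      exact ((show Commute a (c.pr x) from himgc a ha).zpow_right k).eq
    have hPQ : IsPGroup 3 (hc.img Q) := fun a => ⟨1, Subtype.ext (by simpa using himg3 a a.2)⟩
    have hP : IsPGroup 3 ↥T := hPQ.to_sup_of_normal_right' (IsPGroup.of_card (n := 1)
      (by rw [Nat.card_zpowers, t.pr_x hc, pow_one])) (fun g hg => by
        refine mem_normalizer_iff.2 fun b => ?_
        have key : ∀ g ∈ hc.img Q, ∀ b ∈ zpowers (c.pr x), g * b * g⁻¹ = b := fun g hg b hb => by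
          rw [hcm g hg b hb, mul_inv_cancel_right]
        refine ⟨fun hb => by rw [key g hg b hb]; exact hb, fun hb => ?_⟩
        have h := key g⁻¹ (inv_mem hg) _ hb
        rw [show g⁻¹ * (g * b * g⁻¹) * g⁻¹⁻¹ = b by group] at h
        rw [h]; exact hb)
    obtain ⟨S, hS⟩ := hP.exists_le_sylow
    have hTS : T = S := by
      refine Subgroup.eq_of_le_of_card_ge hS ?_
      rw [hd.card_syl S]
      have hlt : zpowers (c.pr x) < T := lt_of_le_of_ne le_sup_right fun h => hne (by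
        rw [h]; exact mem_sup_left hα)
      obtain ⟨k, hk⟩ := IsPGroup.iff_card.1 hP
      have hd3 := Subgroup.card_dvd_of_le hlt.le
      have hne3 : Nat.card ↥T ≠ 3 := fun h => hlt.ne (Subgroup.eq_of_le_of_card_ge hlt.le
        (by rw [h, Nat.card_zpowers, t.pr_x hc]))
      rw [hk] at hd3 hne3 ⊢
      rw [Nat.card_zpowers, t.pr_x hc] at hd3
      rcases k with _ | _ | k
      · norm_num at hd3
      · norm_num at hne3
      · calc 9 = 3 ^ 2 := by norm_num
          _ ≤ 3 ^ (k + 1 + 1) := Nat.pow_le_pow_right (by norm_num) (by omega)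
    refine hd.syl_stab S (hTS ▸ mem_sup_right (mem_zpowers _) : c.pr x ∈ (S : Subgroup A))
      (fun h => by have := t.pr_x hc; rw [h, orderOf_one] at this; omega) hnM hno ?_ ?_
    · rw [← hc.pr_mul _ hn.1 _ t.xH, hnx, hc.pr_mul _ t.xH _ hn.1]
    · rw [← hTS]
      refine mem_inf.1 (show c.pr n ∈ normalizer ((hc.img Q : Subgroup A) : Set A) ⊓
        normalizer ((T : Subgroup A) : Set A) from ?_) |>.2
      have h1 := hc.mem_normalizer_img hQH hn.1 (hQn n hn.1 hnx)
      refine mem_inf.2 ⟨h1, ?_⟩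
      rw [mem_normalizer_iff_map_conj_eq, hT, Subgroup.map_sup,
        (mem_normalizer_iff_map_conj_eq.1 h1), MonoidHom.map_zpowers]
      congr 2
      show c.pr n * c.pr x * (c.pr n)⁻¹ = c.pr x
      rw [← hc.pr_conj hn.1 t.xH, hnx, mul_inv_cancel_right]
  -- back in `H`
  intro u hu
  obtain ⟨i, hi⟩ := mem_zpowers_iff.1 (himg (hc.pr_mem_img hQH hu))
  set w := u * (x ^ i)⁻¹ with hw
  have hxi : x ^ i ∈ c.H := zpow_mem t.xH i
  have hwk : w ∈ c.E ⊔ c.P := by
    refine (hc.pr_ker _ (mul_mem (hQH hu) (inv_mem hxi))).1 ?_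
    rw [hc.pr_mul _ (hQH hu) _ (inv_mem hxi), hc.pr_inv hxi,
      show c.pr (x ^ i) = c.pr x ^ i from map_zpow hc.prHom ⟨x, t.xH⟩ i, hi, mul_inv_cancel]
  have hwx : w * x = x * w :=
    ((show Commute u x from hQx u hu).mul_left ((Commute.refl x).zpow_left i).inv_left).eq
  have hwpiece : ∀ v ∈ c.Piece x, w * v = v * w := by
    intro v hv
    obtain ⟨hvE, hvx⟩ := mem_piece.1 hv
    have h1 : v * u * v⁻¹ * u⁻¹ ∈ Q := mul_mem (hQn v (hc.le_H hvE) hvx.symm u hu) (inv_mem hu)
    have h2 : v * u * v⁻¹ * u⁻¹ ∈ c.E := by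
      rw [show v * u * v⁻¹ * u⁻¹ = v * (u * v⁻¹ * u⁻¹) by group]
      exact mul_mem hvE (hc.conjE (hQH hu) (inv_mem hvE))
    haveI := hc.finite
    have ho : orderOf (v * u * v⁻¹ * u⁻¹) = 1 := by
      have d1 := Subgroup.orderOf_dvd_natCard Q h1
      have d2 := Subgroup.orderOf_dvd_natCard c.E h2
      rw [hc.cardE] at d2
      exact Nat.eq_one_of_dvd_coprimes ((Nat.coprime_two_right.2 hQodd).pow_right 13) d1 d2
    have huv : Commute u v := by
      rw [orderOf_eq_one_iff] at ho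
      calc u * v = (v * u * v⁻¹ * u⁻¹) * (u * v) := by rw [ho, one_mul]
        _ = v * u := by group
    exact (huv.mul_left ((show Commute x v from hvx).zpow_left i).inv_left).eq
  obtain ⟨v, hv, q, hq, hvq⟩ := exists_mul_of_mem_sup hc.P_norm hwk
  have hq1 : q = 1 := by
    by_contra hne
    obtain ⟨b, hb, hbz⟩ : ∃ b ∈ c.Piece x, b ∉ zpowers c.z := SetLike.not_le_iff_exists.1 fun hle => by
      have := Nat.le_of_dvd Nat.card_pos (Subgroup.card_dvd_of_le hle)
      rw [t.card_piece hc hd, Nat.card_zpowers, hc.ord] at this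
      omega
    have hbE := (mem_piece.1 hb).1
    apply hbz
    refine hc.fpf hq hne hbE ?_
    have h1 : w * b * w⁻¹ = b := by rw [hwpiece b hb, mul_inv_cancel_right]
    have h2 := hc.eqz_E_conj hv (hc.conjE (hc.P_le hq) hbE)
    rw [show v * (q * b * q⁻¹) * v⁻¹ = (v * q) * b * (v * q)⁻¹ by group, ← hvq, h1] at h2
    exact hc.eqz_symm h2
  rw [hq1, mul_one] at hvq
  have hw1 : w = 1 := by
    have hodd : Odd (3 * Nat.card Q) := Odd.mul (by decide) hQodd
    have h1 : w ^ (3 * Nat.card Q) = 1 := by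
      rw [hw, (show Commute u (x ^ i)⁻¹ from ((show Commute u x from hQx u hu).zpow_right i).inv_right).mul_pow,
        inv_pow]
      rw [show (x ^ i) ^ (3 * Nat.card Q) = 1 by
        rw [← zpow_natCast, ← zpow_mul, mul_comm i, zpow_mul, zpow_natCast, pow_mul, pow_three', t.x3,
          one_pow, one_zpow]]
      rw [mul_comm 3, pow_mul, hpow u hu, one_pow, one_mul, inv_one]
    have h2 : orderOf w ∣ 2 ^ 13 := by
      haveI := hc.finite
      exact hc.cardE ▸ Subgroup.orderOf_dvd_natCard c.E (hvq ▸ hv)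
    exact orderOf_eq_one_iff.1 (Nat.eq_one_of_dvd_coprimes ((Nat.coprime_two_right.2 hodd).pow_right 13)
      (orderOf_dvd_of_pow_eq_one h1) h2)
  rw [show u = w * x ^ i by rw [hw]; group, hw1, one_mul]
  exact zpow_mem (mem_zpowers x) i

end Ctx

end Cfsg.Agent.H43.JFour
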