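import Cfsg.Agent.H43.J4.Fusion
import Cfsg.Agent.H43.J4.CentPrep
import Cfsg.Agent.H38.Isolated

/-!
# The centraliser of `P` in the whole group

`z` is isolated in `C_G(P)`; Glauberman's theorem and the involution of `C` fused to `z` show that
`C_G(P) = C_H(P)` is perfect with centre `⟨z⟩ × P`, so that the normaliser of `P` lies in `H`.
-/

set_option autoImplicit false

namespace Cfsg.Agent.H43.JFour

open Subgroup
open scoped commutatorElement

universe u v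

variable {G : Type u} [Group G] [Finite G] {A : Type v} [Group A] {M : Subgroup A}

namespace Ctx

variable {c d : Ctx G A}

theorem mem_C' (c : Ctx G A) {g : G} : g ∈ c.C ↔ g ∈ c.H ∧ g ∈ centralizer (c.P : Set G) := mem_inf

theorem Ok.C_ker (hc : c.Ok) {g : G} (hg : g ∈ c.C) (h : c.pr g = 1) :
    ∃ q ∈ c.P, g = q ∨ g = c.z * q := hc.Nh_ker (c.C_le_Nh hg) h

theorem Ok.pr_invol_ne (hc : c.Ok) {t : G} (ht : t ∈ c.C) (ht2 : t * t = 1) (h1 : t ≠ 1) (hz : t ≠ c.z) :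
    c.pr t ≠ 1 := by
  intro h
  obtain ⟨q, hq, e⟩ := hc.C_ker ht h
  have hq2 : q * q = 1 := by
    rcases e with e | e
    · rw [← e]; exact ht2
    · have hzq : c.z * q = q * c.z := c.mem_H.1 (hc.P_le hq)
      calc q * q = (c.z * c.z) * (q * q) := by rw [hc.z_sq, one_mul]
        _ = c.z * (c.z * q) * q := by group
        _ = c.z * (q * c.z) * q := by rw [hzq]
        _ = c.z * q * (c.z * q) := by group
        _ = 1 := by rw [← e]; exact ht2
  have hq1 : q = 1 := by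
    have h3 := hc.P_pow hq
    rwa [hq2, one_mul] at h3
  subst hq1
  rcases e with e | e
  · exact h1 e
  · exact hz (e.trans (mul_one _))

/-- Two commuting `z`-conjugates with the same subgroup of order three coincide. -/
theorem Ok.same_P_false (hc : c.Ok) (hd : AutData A M) (hd' : d.Ok) (hP : d.P = c.P) (ht : d.z ∈ c.C)
    (hne : d.z ≠ c.z) : False := by
  have htH : d.z ∈ c.H := ht.1
  have hpr := hc.pr_invol_ne ht hd'.z_sq hd'.z_ne hne
  have hM : c.pr d.z ∈ M := (hc.mem_C_iff hd (c.C_le_Nh ht)).1 ht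
  obtain ⟨hcard, -⟩ := hc.card_fix_inner hd htH hM hpr (Or.inl hd'.z_sq)
  have hst : c.Stable (hc.fixMod d.z) := by
    refine ⟨hc.fixMod_le _, hc.z_mem_fixMod htH, fun q hq x hx => ⟨hc.conjE (hc.P_le hq) hx.1, ?_⟩⟩
    have h1 := hc.eqz_conj (hc.P_le hq) hx.2
    rwa [show q * (d.z * x * d.z⁻¹) * q⁻¹ = (q * d.z) * x * (q * d.z)⁻¹ by group, hc.P_central hq ht,
      show d.z * q * x * (d.z * q)⁻¹ = d.z * (q * x * q⁻¹) * d.z⁻¹ by group] at h1
  have htr : ∀ u ∈ hc.fixMod d.z, d.z * u = u * d.z := fun u hu =>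
    hc.ptrick hst ht (fun x hx => hx.2) hu
  obtain ⟨p, hp, hp1⟩ := hc.exists_p
  have hpd : p ∈ d.P := hP ▸ hp
  set A0 := c.E ⊓ d.E with hA0
  have hkey : ∀ u ∈ hc.fixMod d.z, u⁻¹ * (p * u * p⁻¹) ∈ A0 := by
    intro u hu
    have hu' := hst.conj p hp u hu
    have hmem := mul_mem (inv_mem hu) hu'
    have hdH : u⁻¹ * (p * u * p⁻¹) ∈ d.H := d.mem_H.2 (htr _ hmem)
    refine mem_inf.2 ⟨hmem.1, (hd'.ker_two hdH (hc.sq_sq hmem.1)).1 ?_⟩
    have huH : u ∈ d.H := d.mem_H.2 (htr u hu)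
    have hpH := hd'.P_le hpd
    rw [hd'.pr_mul _ (inv_mem huH) _ (mul_mem (mul_mem hpH huH) (inv_mem hpH)),
      hd'.pr_conj hpH huH, hd'.pr_inv huH, hd'.pr_P hpd]
    group
  have hdec : ∀ u ∈ hc.fixMod d.z, ∃ a ∈ A0, c.Eqz a u := by
    intro u hu
    set uq := p * u * p⁻¹ with huq
    set uqq := p * uq * p⁻¹ with huqq
    have hq := hst.conj p hp u hu
    refine ⟨(uq⁻¹ * uqq)⁻¹, inv_mem (hkey uq hq), ?_⟩
    have horb := hc.orbit_prod hp hp1 hu.1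
    have h1 : c.Eqz (u * uq * uqq) (u * uq⁻¹ * uqq) :=
      hc.eqz_mul (hc.le_H (mul_mem hu.1 hq.1))
        (hc.eqz_mul (hc.le_H hu.1) (Eqz.refl c u) (hc.eqz_inv_self hq.1)) (Eqz.refl c uqq)
    have h2 : c.Eqz 1 (u * (uq⁻¹ * uqq)) := by
      rw [← mul_assoc]; exact hc.eqz_trans horb h1
    rcases hc.eqz_cases h2 with e | e
    · exact Or.inl (eq_inv_of_mul_eq_one_left e)
    · refine Or.inr ?_
      calc u = u * (uq⁻¹ * uqq) * (uq⁻¹ * uqq)⁻¹ := by group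
        _ = c.z * (uq⁻¹ * uqq)⁻¹ := by rw [e]
  have hab : ∀ u ∈ hc.fixMod d.z, ∀ w ∈ hc.fixMod d.z, u * w = w * u := by
    intro u hu w hw
    obtain ⟨a, ha, ea⟩ := hdec u hu
    obtain ⟨b, hb, eb⟩ := hdec w hw
    refine commutatorElement_eq_one_iff_mul_comm.1 ?_
    rw [hc.bz_congr_left (mem_inf.1 ha).1 hw.1 ea, hc.bz_congr_right (mem_inf.1 ha).1 (mem_inf.1 hb).1 eb]
    rcases hc.bz_one_or (mem_inf.1 ha).1 (mem_inf.1 hb).1 with f | f
    · exact f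
    · exfalso
      rcases hd'.bz_one_or (mem_inf.1 ha).2 (mem_inf.1 hb).2 with g | g
      · exact hc.z_ne (f.symm.trans g)
      · exact hne (g.symm.trans f)
  have hle : hc.fixMod d.z ≤ c.E ⊓ centralizer (hc.fixMod d.z : Set G) := fun u hu =>
    mem_inf.2 ⟨hu.1, mem_centralizer_iff.2 fun w hw => hab w hw u hu⟩
  have h1 := Nat.le_of_dvd Nat.card_pos (Subgroup.card_dvd_of_le hle)
  have h2 := hc.card_cent _ (hc.fixMod_le d.z) (hc.z_mem_fixMod htH)
  rw [hcard] at h1 h2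
  omega

/-- A subgroup of `C` normalised by `C` is trivial in `A` or covers `M`. -/
theorem Ok.C_normal (hc : c.Ok) (hd : AutData A M) {N : Subgroup G} (hN : N ≤ c.C)
    (hn : ∀ h ∈ c.C, ∀ u ∈ N, h * u * h⁻¹ ∈ N) :
    (∀ u ∈ N, c.pr u = 1) ∨ ∀ α ∈ M, ∃ u ∈ N, c.pr u = α := by
  have hNH : N ≤ c.H := hN.trans inf_le_left
  haveI hnor : ((hc.img N).subgroupOf M).Normal := ⟨fun α hα β => by
    rw [mem_subgroupOf] at hα ⊢
    obtain ⟨u, hu, e⟩ := (hc.mem_img hNH).1 hα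
    obtain ⟨h, hh, f⟩ := hc.C_surj hd β.2
    rw [Subgroup.coe_mul, Subgroup.coe_mul, Subgroup.coe_inv, ← e, ← f, ← hc.pr_conj hh.1 (hNH hu)]
    exact hc.pr_mem_img hNH (hn h hh u hu)⟩
  haveI := hd.simple
  rcases hnor.eq_bot_or_eq_top with h | h
  · left
    intro u hu
    have hm : c.pr u ∈ M := (hc.mem_C_iff hd (c.C_le_Nh (hN hu))).1 (hN hu)
    have h1 : (⟨c.pr u, hm⟩ : M) ∈ (hc.img N).subgroupOf M := mem_subgroupOf.2 (hc.pr_mem_img hNH hu)
    rw [h, Subgroup.mem_bot] at h1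
    exact congrArg Subtype.val h1
  · right
    intro α hα
    exact (hc.mem_img hNH).1 (Subgroup.subgroupOf_eq_top.1 h hα)

theorem Ok.odd_C (hc : c.Ok) (hd : AutData A M) {N : Subgroup G} (hN : N ≤ c.C)
    (hn : ∀ h ∈ c.C, ∀ u ∈ N, h * u * h⁻¹ ∈ N) (hodd : Odd (Nat.card N)) : N ≤ c.P := by
  haveI := hd.finite
  have hpr : ∀ u ∈ N, c.pr u = 1 := by
    rcases hc.C_normal hd hN hn with h | h
    · exact h
    exfalso
    obtain ⟨α, hα⟩ := exists_prime_orderOf_dvd_card' (G := M) 2 (by rw [hd.card_M]; norm_num)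
    obtain ⟨u, hu, e⟩ := h α α.2
    have h2 : orderOf (c.pr u) = 2 := by rw [e, Subgroup.orderOf_coe]; exact hα
    have h3 : orderOf (c.pr u) ∣ orderOf u := by
      have := orderOf_map_dvd hc.prHom (⟨u, (hN hu).1⟩ : c.H)
      rwa [Subgroup.orderOf_mk] at this
    rw [h2] at h3
    exact Nat.not_even_iff_odd.2 hodd
      (even_iff_two_dvd.2 (h3.trans (Subgroup.orderOf_dvd_natCard N hu)))
  intro u hu
  obtain ⟨q, hq, e | e⟩ := hc.C_ker (hN hu) (hpr u hu)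
  · exact e ▸ hq
  · exfalso
    have h1 : u ^ Nat.card N = 1 := H38.pow_natCard_eq_one hu
    obtain ⟨k, hk⟩ := hodd
    rw [e, (show Commute c.z q from c.mem_H.1 (hc.P_le hq)).mul_pow, hk, pow_succ c.z, pow_mul, sq,
      hc.z_sq, one_pow, one_mul] at h1
    have h2 : c.z ∈ c.P := by
      rw [eq_inv_of_mul_eq_one_left h1]
      exact inv_mem (pow_mem hq _)
    have h3 := Subgroup.orderOf_dvd_natCard c.P h2
    rw [hc.ord, hc.cardP] at h3
    omega

/-- `z` is isolated in the centraliser of `P`. -/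
theorem Ok.iso_K (hc : c.Ok) (hd : AutData A M) :
    Cfsg.IsIsolatedInvolution
      (⟨c.z, hc.z_mem_C.2⟩ : ↥(centralizer (c.P : Set G))) := by
  refine ⟨by rw [Subgroup.orderOf_mk]; exact hc.ord, fun g hg => Subtype.ext ?_⟩
  by_contra hne
  have hP : (c.conj g).P = c.P := by
    show c.P.map (MulAut.conj (g : G)).toMonoidHom = c.P
    refine Subgroup.eq_of_le_of_card_ge ?_
      (le_of_eq (Subgroup.card_map_of_injective (MulAut.conj (g : G)).injective).symm)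
    rintro _ ⟨q, hq, rfl⟩
    show (g : G) * q * (g : G)⁻¹ ∈ c.P
    rw [← mem_centralizer_iff.1 g.2 q hq, mul_inv_cancel_right]
    exact hq
  have hzg : c.z * ((g : G) * c.z * (g : G)⁻¹) = (g : G) * c.z * (g : G)⁻¹ * c.z :=
    congrArg Subtype.val hg
  refine hc.same_P_false hd (hc.conj g) hP ((c.mem_C').2 ⟨c.mem_H.2 hzg, ?_⟩) hne
  exact mul_mem (mul_mem g.2 hc.z_mem_C.2) (inv_mem g.2)

/-- Facts on the odd core of `C_G(P)`. -/
structure CoreData (c : Ctx G A) (O : Subgroup G) : Prop where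
  le : O ≤ centralizer (c.P : Set G)
  odd : Odd (Nat.card O)
  norm : ∀ k ∈ centralizer (c.P : Set G), ∀ o ∈ O, k * o * k⁻¹ ∈ O
  P_le : c.P ≤ O
  zk : ∀ k ∈ centralizer (c.P : Set G), c.z * k * c.z⁻¹ * k⁻¹ ∈ O
  inf_C : ∀ o ∈ O, o ∈ c.C → o ∈ c.P

theorem Ok.exists_core (hc : c.Ok) (hd : AutData A M) : ∃ O, c.CoreData O := by
  classical
  set K := centralizer (c.P : Set G) with hK
  set O := (Cfsg.oddCore ↥K).map K.subtype with hO
  have hle : O ≤ K := Subgroup.map_subtype_le _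
  have hodd : Odd (Nat.card O) := by
    rw [hO, Subgroup.card_map_of_injective K.subtype_injective]; exact Cores.odd_card_oddCore
  have hnorm : ∀ k ∈ K, ∀ o ∈ O, k * o * k⁻¹ ∈ O := by
    rintro k hk _ ⟨o, ho, rfl⟩
    exact ⟨⟨k, hk⟩ * o * ⟨k, hk⟩⁻¹, (inferInstance : (Cfsg.oddCore ↥K).Normal).conj_mem o ho _, rfl⟩
  have hPK : c.P ≤ K := hc.P_le_C.trans inf_le_right
  have hP : c.P ≤ O := by
    haveI : (c.P.subgroupOf K).Normal := ⟨fun q hq k => by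
      rw [mem_subgroupOf] at hq ⊢
      rw [Subgroup.coe_mul, Subgroup.coe_mul, Subgroup.coe_inv, ← mem_centralizer_iff.1 k.2 (q : G) hq,
        mul_inv_cancel_right]
      exact hq⟩
    have h := Cores.le_oddCore (N := c.P.subgroupOf K) (by
      rw [Nat.card_congr (subgroupOfEquivOfLe hPK).toEquiv, hc.cardP]; decide)
    intro q hq
    exact ⟨⟨q, hPK hq⟩, h (mem_subgroupOf.2 hq), rfl⟩
  refine ⟨O, hle, hodd, hnorm, hP, fun k hk => ?_, fun o ho hoC => ?_⟩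
  · exact ⟨_, Cores.zStarProp (Cores.uniqueInvolutionCase Cores.quaternionCase) _ _ (hc.iso_K hd) ⟨k, hk⟩, rfl⟩
  · refine hc.odd_C hd (N := O ⊓ c.C) inf_le_right (fun h hh u hu => mem_inf.2
      ⟨hnorm h hh.2 u (mem_inf.1 hu).1, mul_mem (mul_mem hh (mem_inf.1 hu).2) (inv_mem hh)⟩) ?_
      (mem_inf.2 ⟨ho, hoC⟩)
    exact hodd.of_dvd_nat (Subgroup.card_dvd_of_le inf_le_left)

/-- `C_G(P) = O C`. -/
theorem CoreData.decomp {O : Subgroup G} (D : c.CoreData O) (hc : c.Ok) {k : G}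
    (hk : k ∈ centralizer (c.P : Set G)) : ∃ o ∈ O, ∃ h ∈ c.C, k = o * h := by
  set t := k * c.z * k⁻¹ with ht
  have ht2 : t * t = 1 := by
    rw [ht, show k * c.z * k⁻¹ * (k * c.z * k⁻¹) = k * (c.z * c.z) * k⁻¹ by group, hc.z_sq]; group
  have hzt : c.z * t ∈ O := by
    rw [ht, show c.z * (k * c.z * k⁻¹) = c.z * k * c.z * k⁻¹ by group]
    nth_rewrite 2 [← hc.z_inv]
    exact D.zk k hk
  have hodd : Odd (orderOf (c.z * t)) := D.odd.of_dvd_nat (Subgroup.orderOf_dvd_natCard O hzt)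
  obtain ⟨j, hj⟩ := H38.exists_conj_of_odd hc.z_sq ht2 hodd
  set o := (c.z * t) ^ j with ho
  have hoO : o ∈ O := pow_mem hzt j
  refine ⟨o, hoO, o⁻¹ * k, (c.mem_C').2 ⟨c.mem_H.2 ?_, mul_mem (inv_mem (D.le hoO)) hk⟩, by group⟩
  calc c.z * (o⁻¹ * k) = o⁻¹ * (o * c.z * o⁻¹) * k := by group
    _ = o⁻¹ * k * c.z := by rw [hj, ht]; group

/-- A derived element of `C_G(P)` in `C` is a derived element of `C`. -/
theorem CoreData.derived_inf {O : Subgroup G} (D : c.CoreData O) (hc : c.Ok) {w : G}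
    (hw : w ∈ ⁅centralizer (c.P : Set G), centralizer (c.P : Set G)⁆) (hwC : w ∈ c.C) :
    w ∈ ⁅c.C, c.C⁆ := by
  set DD := ⁅c.C, c.C⁆ with hDD
  have hDC : DD ≤ c.C := commutator_le.2 fun a ha b hb => by
    rw [commutatorElement_def]; exact mul_mem (mul_mem (mul_mem ha hb) (inv_mem ha)) (inv_mem hb)
  have hDK : DD ≤ centralizer (c.P : Set G) := hDC.trans inf_le_right
  have hle : ⁅centralizer (c.P : Set G), centralizer (c.P : Set G)⁆ ≤ O ⊔ DD := by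
    refine commutator_le.2 fun k hk k' hk' => ?_
    obtain ⟨o, ho, h, hh, rfl⟩ := D.decomp hc hk
    obtain ⟨o', ho', h', hh', rfl⟩ := D.decomp hc hk'
    have e : ⁅o * h, o' * h'⁆ = o * (h * o' * h⁻¹) * ⁅h, h'⁆ * (h' * o⁻¹ * h'⁻¹) * o'⁻¹ := by
      simp only [commutatorElement_def]; group
    rw [e]
    refine mul_mem (mul_mem (mul_mem (mul_mem ?_ ?_) ?_) ?_) ?_
    · exact mem_sup_left ho
    · exact mem_sup_left (D.norm h hh.2 o' ho')
    · exact mem_sup_right (commutator_mem_commutator hh hh')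
    · exact mem_sup_left (D.norm h' hh'.2 _ (inv_mem ho))
    · exact mem_sup_left (inv_mem ho')
  have hnorm : DD ≤ normalizer (O : Set G) := fun h hh => mem_normalizer_iff.2 fun o =>
    ⟨fun ho => D.norm h (hDK hh) o ho, fun ho => by
      simpa [mul_assoc] using D.norm h⁻¹ (inv_mem (hDK hh)) _ ho⟩
  obtain ⟨o, ho, h, hh, rfl⟩ := exists_mul_of_mem_sup hnorm (hle hw)
  have hoC : o ∈ c.C := by simpa [mul_assoc] using mul_mem hwC (inv_mem (hDC hh))
  exact mul_mem (hc.P_comm (D.inf_C o ho hoC)) hh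

/-- Order-three elements of `H` are conjugate in `H` into `C`. -/
theorem Ok.exists_into_C (hc : c.Ok) (hd : AutData A M) {u : G} (hu : u ∈ c.H) (hu3 : u ^ 3 = 1) :
    ∃ h ∈ c.H, h * u * h⁻¹ ∈ c.C := by
  classical
  haveI : Fact (Nat.Prime 3) := ⟨Nat.prime_three⟩
  obtain ⟨S⟩ : Nonempty (Sylow 3 c.C) := inferInstance
  have hR := hc.rThree_of_sylow hd S
  set R := (S : Subgroup c.C).map c.C.subtype
  have hRH : R ≤ c.H := hR.1.trans inf_le_left
  let T : Sylow 3 c.H := Sylow.ofCard (R.subgroupOf c.H) (by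
    rw [Nat.card_congr (subgroupOfEquivOfLe hRH).toEquiv, hR.2, hc.card_H, hd.card,
      show 3 * 2 ^ 13 * 887040 = 3 ^ 3 * 807403520 by norm_num,
      Nat.factorization_mul (by norm_num) (by norm_num), Nat.factorization_pow]
    simp [Nat.prime_three.factorization, Nat.factorization_eq_zero_of_not_dvd])
  have hP3 : IsPGroup 3 (zpowers (⟨u, hu⟩ : c.H)) := by
    intro g
    obtain ⟨i, hi⟩ := mem_zpowers_iff.1 g.2
    refine ⟨1, Subtype.ext ?_⟩
    show (g : c.H) ^ 3 ^ 1 = 1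
    rw [← hi, pow_one, ← zpow_natCast, ← zpow_mul, mul_comm, zpow_mul, zpow_natCast,
      show (⟨u, hu⟩ : c.H) ^ 3 = 1 from Subtype.ext hu3, one_zpow]
  obtain ⟨U, hU⟩ := hP3.exists_le_sylow
  obtain ⟨h, hh⟩ := MulAction.exists_smul_eq c.H U T
  refine ⟨h, h.2, hR.1 ?_⟩
  have h1 : MulAut.conj h ⟨u, hu⟩ ∈ (T : Subgroup c.H) := by
    rw [← hh, Sylow.coe_subgroup_smul]
    exact Subgroup.smul_mem_pointwise_smul _ (MulAut.conj h) _ (hU (mem_zpowers _))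
  exact h1

/-- Data carrying an involution of `C` fused to `z` together with the element of order three. -/
theorem Ok.exists_fuse_three (hc : c.Ok) (hd : AutData A M) [IsSimpleGroup G] (hG : ¬ IsMulCommutative G) :
    ∃ g x p : G, g * c.z * g⁻¹ ∈ c.C ∧ g * c.z * g⁻¹ ≠ c.z ∧ c.Trip x p ∧ g * x * g⁻¹ = p := by
  obtain ⟨r, hr, hrz, hcj⟩ := hc.exists_invol_C hd hG
  obtain ⟨g₀, rfl⟩ := isConj_iff.1 hcj
  set d := c.conj g₀ with hddef
  have hd' := hc.conj g₀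
  obtain ⟨p, hp, hp1⟩ := hc.exists_p
  have hp3 : p ^ 3 = 1 := by rw [pow_three']; exact hc.P_pow hp
  have hpH : p ∈ d.H := d.mem_H.2 (hc.P_central hp hr).symm
  have hpn : d.pr p ≠ 1 := by
    intro h1
    have hPle : c.P ≤ d.E ⊔ d.P := by
      intro q hq
      rcases hc.P_cases hp hp1 hq with rfl | rfl | rfl
      · exact one_mem _
      · exact (hd'.pr_ker _ hpH).1 h1
      · exact mul_mem ((hd'.pr_ker _ hpH).1 h1) ((hd'.pr_ker _ hpH).1 h1)
    obtain ⟨e, he, hmap⟩ := hd'.conj_P_of_le hPle hc.cardP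
    have hz : (d.conj e).z = d.z := by
      show e * d.z * e⁻¹ = d.z
      rw [← hd'.z_comm he, mul_inv_cancel_right]
    exact hc.same_P_false hd (hd'.conj e) hmap (hz.symm ▸ hr) (hz.symm ▸ hrz)
  obtain ⟨h, hh, hhp⟩ := hd'.exists_into_C hd hpH hp3
  have hnP : h * p * h⁻¹ ∉ d.P := fun h1 => hpn (by
    have h2 := hd'.pr_P h1
    rw [hd'.pr_conj hh hpH] at h2
    exact conj_eq_one_iff.1 h2)
  have hz : h⁻¹ * g₀ * c.z * (h⁻¹ * g₀)⁻¹ = g₀ * c.z * g₀⁻¹ := by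
    rw [show h⁻¹ * g₀ * c.z * (h⁻¹ * g₀)⁻¹ = h⁻¹ * (d.z * h) by
      show _ = h⁻¹ * (g₀ * c.z * g₀⁻¹ * h); group, d.mem_H.1 hh]
    show h⁻¹ * (h * (g₀ * c.z * g₀⁻¹)) = _
    group
  refine ⟨h⁻¹ * g₀, g₀⁻¹ * (h * p * h⁻¹) * g₀, p, hz.symm ▸ hr, hz.symm ▸ hrz,
    ⟨?_, ?_, ?_, hp, hp1⟩, by group⟩
  · rw [conj_C, mem_conj_map] at hhp; exact hhp
  · calc g₀⁻¹ * (h * p * h⁻¹) * g₀ * (g₀⁻¹ * (h * p * h⁻¹) * g₀) * (g₀⁻¹ * (h * p * h⁻¹) * g₀)
        = g₀⁻¹ * (h * (p * p * p) * h⁻¹) * g₀ := by group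
      _ = 1 := by rw [hc.P_pow hp]; group
  · exact fun h1 => hnP ((mem_conj_map c.P g₀ _).2 h1)

/-- Elements centralised by `x` in `H` go to `C_G(P)`. -/
theorem Trip.map_cent {x p g u : G} (t : c.Trip x p) (hc : c.Ok) (hgx : g * x * g⁻¹ = p)
    (hux : u * x = x * u) : g * u * g⁻¹ ∈ centralizer (c.P : Set G) := by
  refine mem_centralizer_iff.2 fun q hq => ?_
  have h1 : Commute p (g * u * g⁻¹) := by
    rw [← hgx]; exact (show Commute x u from hux.symm).map (MulAut.conj g).toMonoidHom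
  rcases hc.P_cases t.pP t.p1 hq with rfl | rfl | rfl
  · simp
  · exact h1.eq
  · exact (h1.mul_left h1).eq

/-- Conversely. -/
theorem Trip.map_cent' {x p g u : G} (t : c.Trip x p) (hgx : g * x * g⁻¹ = p)
    (hu : u ∈ centralizer (c.P : Set G)) : (g⁻¹ * u * g) * x = x * (g⁻¹ * u * g) := by
  have h1 : Commute p u := mem_centralizer_iff.1 hu p t.pP
  rw [show x = g⁻¹ * p * g by rw [← hgx]; group]
  calc g⁻¹ * u * g * (g⁻¹ * p * g) = g⁻¹ * (u * p) * g := by group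
    _ = g⁻¹ * p * g * (g⁻¹ * u * g) := by rw [← h1.eq]; group

theorem Ok.C_perfect (hc : c.Ok) (hd : AutData A M) [IsSimpleGroup G] (hG : ¬ IsMulCommutative G) :
    ⁅c.C, c.C⁆ = c.C := by
  classical
  haveI := hd.finite
  obtain ⟨O, D⟩ := hc.exists_core hd
  obtain ⟨g, x, p, hrC, hrz, t, hgx⟩ := hc.exists_fuse_three hd hG
  set K := centralizer (c.P : Set G) with hK
  set J := c.H ⊓ centralizer ({x} : Set G) with hJdef
  set DD := ⁅c.C, c.C⁆ with hDD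
  have hDC : DD ≤ c.C := commutator_le.2 fun a ha b hb => by
    rw [commutatorElement_def]; exact mul_mem (mul_mem (mul_mem ha hb) (inv_mem ha)) (inv_mem hb)
  have hJx : ∀ {u : G}, u ∈ J → u * x = x * u := fun h => (mem_centralizer_iff.1 (mem_inf.1 h).2 x rfl).symm
  have hJmem : ∀ {u : G}, u ∈ c.H → u * x = x * u → u ∈ J := fun h h' =>
    mem_inf.2 ⟨h, mem_centralizer_iff.2 fun y hy => by rw [Set.mem_singleton_iff.1 hy]; exact h'.symm⟩
  have hK' : ∀ {u : G}, u ∈ ⁅J, J⁆ → g * u * g⁻¹ ∈ ⁅K, K⁆ := by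
    intro u hu
    have hle : J.map (MulAut.conj g).toMonoidHom ≤ K := by
      rintro _ ⟨w, hw, rfl⟩
      exact t.map_cent hc hgx (hJx hw)
    have h1 : g * u * g⁻¹ ∈ (⁅J, J⁆).map (MulAut.conj g).toMonoidHom := Subgroup.mem_map_of_mem _ hu
    rw [Subgroup.map_commutator] at h1
    exact commutator_mono hle hle h1
  have hpJ : p ∈ J := hJmem (hc.P_le t.pP) (t.comm hc)
  have hpieceJ : ∀ {u : G}, u ∈ c.Piece x → u ∈ J := fun hu =>
    hJmem (hc.le_H (mem_piece.1 hu).1) (mem_piece.1 hu).2.symm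
  have hzJ : c.z ∈ ⁅J, J⁆ := by
    obtain ⟨b, hb, hbz⟩ : ∃ b ∈ c.Piece x, b ∉ zpowers c.z := SetLike.not_le_iff_exists.1 fun hle => by
      have := Nat.le_of_dvd Nat.card_pos (Subgroup.card_dvd_of_le hle)
      rw [t.card_piece hc hd, Nat.card_zpowers, hc.ord] at this
      omega
    obtain ⟨a, ha, hab⟩ : ∃ a ∈ c.Piece x, b * a ≠ a * b := by
      by_contra h
      push Not at h
      exact hbz (t.nondeg hc b hb h)
    have e : ⁅b, a⁆ = c.z := (hc.bz_one_or (mem_piece.1 hb).1 (mem_piece.1 ha).1).resolve_left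
      fun h => hab (commutatorElement_eq_one_iff_mul_comm.1 h)
    rw [← e]
    exact commutator_mem_commutator (hpieceJ hb) (hpieceJ ha)
  have hpiece : ∀ {u : G}, u ∈ c.Piece x → u ∈ ⁅J, J⁆ := by
    intro u hu
    have hst := hc.piece_stable t.xC
    set uq := p * u * p⁻¹ with huq
    set uqq := p * uq * p⁻¹ with huqq
    have hq : uq ∈ c.Piece x := hst.conj p t.pP u hu
    have ha : uq⁻¹ * uqq ∈ ⁅J, J⁆ := by
      rw [show uq⁻¹ * uqq = ⁅uq⁻¹, p⁆ by rw [huqq, commutatorElement_def]; group]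
      exact commutator_mem_commutator (inv_mem (hpieceJ hq)) hpJ
    have horb := hc.orbit_prod t.pP t.p1 (mem_piece.1 hu).1
    have h1 : c.Eqz (u * uq * uqq) (u * uq⁻¹ * uqq) :=
      hc.eqz_mul (hc.le_H (mul_mem (mem_piece.1 hu).1 (mem_piece.1 hq).1))
        (hc.eqz_mul (hc.le_H (mem_piece.1 hu).1) (Eqz.refl c u) (hc.eqz_inv_self (mem_piece.1 hq).1))
        (Eqz.refl c uqq)
    have h2 : c.Eqz 1 (u * (uq⁻¹ * uqq)) := by
      rw [← mul_assoc]; exact hc.eqz_trans horb h1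
    rcases hc.eqz_cases h2 with e | e
    · rw [eq_inv_of_mul_eq_one_left e]; exact inv_mem ha
    · have : u = c.z * (uq⁻¹ * uqq)⁻¹ := by
        calc u = u * (uq⁻¹ * uqq) * (uq⁻¹ * uqq)⁻¹ := by group
          _ = c.z * (uq⁻¹ * uqq)⁻¹ := by rw [e]
      rw [this]; exact mul_mem hzJ (inv_mem ha)
  have hrD : g * c.z * g⁻¹ ∈ DD := D.derived_inf hc (hK' hzJ) hrC
  have hr2 : g * c.z * g⁻¹ * (g * c.z * g⁻¹) = 1 := by
    rw [show g * c.z * g⁻¹ * (g * c.z * g⁻¹) = g * (c.z * c.z) * g⁻¹ by group, hc.z_sq]; group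
  have hr1 : g * c.z * g⁻¹ ≠ 1 := fun h => hc.z_ne (conj_eq_one_iff.1 h)
  have hDn : ∀ h ∈ c.C, ∀ u ∈ DD, h * u * h⁻¹ ∈ DD := by
    intro h hh u hu
    have e : h * u * h⁻¹ = ⁅h, u⁆ * u := by rw [commutatorElement_def]; group
    rw [e]; exact mul_mem (commutator_mem_commutator hh (hDC hu)) hu
  have hcover : ∀ α ∈ M, ∃ u ∈ DD, c.pr u = α := by
    rcases hc.C_normal hd hDC hDn with h | h
    · exact absurd (h _ hrD) (hc.pr_invol_ne hrC hr2 hr1 hrz)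
    · exact h
  have hzD : c.z ∈ DD := by
    by_contra hzD
    have hcl : ∀ u ∈ DD, u * u = 1 → u ≠ 1 → IsConj c.z u := by
      intro u hu hu2 hu1
      have huz : u ≠ c.z := fun h => hzD (h ▸ hu)
      have hrp : c.pr (g * c.z * g⁻¹) ≠ 1 := hc.pr_invol_ne hrC hr2 hr1 hrz
      have hup : c.pr u ≠ 1 := hc.pr_invol_ne (hDC hu) hu2 hu1 huz
      have ho : ∀ {w : G}, w ∈ c.C → w * w = 1 → c.pr w ≠ 1 → orderOf (c.pr w) = 2 := fun {w} hw h2 h1 =>
        orderOf_eq_prime (by rw [sq, ← hc.pr_mul _ hw.1 _ hw.1, h2, hc.pr_one]) h1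
      obtain ⟨α, hα, e⟩ := hd.invol _ ((hc.mem_C_iff hd (c.C_le_Nh hrC)).1 hrC) _
        ((hc.mem_C_iff hd (c.C_le_Nh (hDC hu))).1 (hDC hu)) (ho hrC hr2 hrp) (ho (hDC hu) hu2 hup)
      obtain ⟨h, hh, rfl⟩ := hc.C_surj hd hα
      set w := h * (g * c.z * g⁻¹) * h⁻¹ with hwdef
      have hw : w ∈ DD := hDn h hh _ hrD
      have hwC : w ∈ c.C := hDC hw
      have hk : c.pr (w * u⁻¹) = 1 := by
        rw [hc.pr_mul _ hwC.1 _ (inv_mem (hDC hu).1), hc.pr_inv (hDC hu).1, hwdef,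
          hc.pr_conj hh.1 hrC.1, e, mul_inv_cancel]
      obtain ⟨q, hq, eq | eq⟩ := hc.C_ker (mul_mem hwC (inv_mem (hDC hu))) hk
      · have hw2 : w * w = 1 := by
          rw [hwdef, show h * (g * c.z * g⁻¹) * h⁻¹ * (h * (g * c.z * g⁻¹) * h⁻¹) =
            h * (g * c.z * g⁻¹ * (g * c.z * g⁻¹)) * h⁻¹ by group, hr2]; group
        have hwq : w = q * u := by rw [← eq]; group
        have hq2 : q * q = 1 := by
          have hqu : q * u = u * q := hc.P_central hq (hDC hu)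
          calc q * q = q * q * (u * u) := by rw [hu2, mul_one]
            _ = q * (q * u) * u := by group
            _ = q * (u * q) * u := by rw [hqu]
            _ = (q * u) * (q * u) := by group
            _ = 1 := by rw [← hwq]; exact hw2
        have hq1 : q = 1 := by
          have h3 := hc.P_pow hq
          rwa [hq2, one_mul] at h3
        rw [hq1, one_mul] at hwq
        exact isConj_iff.2 ⟨h * g, by rw [← hwq, hwdef]; group⟩
      · exfalso; apply hzD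
        have h1 := mul_mem (mul_mem hw (inv_mem hu)) (inv_mem (hc.P_comm hq))
        rwa [eq, mul_inv_cancel_right] at h1
    obtain ⟨w, hw, hw2, hw1, hwz, hnf⟩ := t.exists_nonfused hc hd
    set s := g * w * g⁻¹ with hs
    have hsK' : s ∈ ⁅K, K⁆ := hK' (hpiece hw)
    have hsK : s ∈ K := t.map_cent hc hgx (mem_piece.1 hw).2.symm
    have hs2 : s * s = 1 := by
      rw [hs, show g * w * g⁻¹ * (g * w * g⁻¹) = g * (w * w) * g⁻¹ by group, hw2]; group
    obtain ⟨o, ho, h, hh, e⟩ := D.decomp hc hsK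
    have hq : h * h ∈ c.P := by
      refine D.inf_C _ ?_ (mul_mem hh hh)
      have h1 : h * h = (h * o⁻¹ * h⁻¹) * o⁻¹ := by
        calc h * h = (h * o⁻¹ * h⁻¹) * o⁻¹ * (o * h * (o * h)) := by group
          _ = (h * o⁻¹ * h⁻¹) * o⁻¹ := by rw [← e, hs2, mul_one]
      rw [h1]
      exact mul_mem (D.norm h hh.2 _ (inv_mem ho)) (inv_mem ho)
    set c' := h * (h * h) with hc'
    have hc'C : c' ∈ c.C := mul_mem hh (mul_mem hh hh)
    have hc'2 : c' * c' = 1 := by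
      rw [hc', show h * (h * h) * (h * (h * h)) = h * h * (h * h) * (h * h) by group]; exact hc.P_pow hq
    have hodd : Odd (orderOf (s * c')) := by
      refine D.odd.of_dvd_nat (Subgroup.orderOf_dvd_natCard O ?_)
      rw [e, hc', show o * h * (h * (h * h)) = o * (h * h * (h * h)) by group]
      exact mul_mem ho (D.P_le (mul_mem hq hq))
    obtain ⟨j, hj⟩ := H38.exists_conj_of_odd hs2 hc'2 hodd
    have hkK : (s * c') ^ j ∈ K := pow_mem (mul_mem hsK hc'C.2) j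
    have hc'K' : c' ∈ ⁅K, K⁆ := by
      rw [← hj, show (s * c') ^ j * s * ((s * c') ^ j)⁻¹ = ⁅(s * c') ^ j, s⁆ * s by
        rw [commutatorElement_def]; group]
      exact mul_mem (commutator_mem_commutator hkK hsK) hsK'
    have hc'1 : c' ≠ 1 := fun h1 => hw1 (by
      rw [← hj] at h1
      exact conj_eq_one_iff.1 (conj_eq_one_iff.1 h1))
    refine hnf ((hcl c' (D.derived_inf hc hc'K' hc'C) hc'2 hc'1).trans ?_)
    set kk := (s * c') ^ j
    exact isConj_iff.2 ⟨g⁻¹ * kk⁻¹, by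
      calc g⁻¹ * kk⁻¹ * c' * (g⁻¹ * kk⁻¹)⁻¹ = g⁻¹ * kk⁻¹ * (kk * s * kk⁻¹) * (g⁻¹ * kk⁻¹)⁻¹ := by rw [hj]
        _ = g⁻¹ * s * g := by group
        _ = w := by rw [hs]; group⟩
  refine le_antisymm hDC fun h hh => ?_
  obtain ⟨u, hu, e⟩ := hcover _ ((hc.mem_C_iff hd (c.C_le_Nh hh)).1 hh)
  have hk : c.pr (h * u⁻¹) = 1 := by
    rw [hc.pr_mul _ hh.1 _ (inv_mem (hDC hu).1), hc.pr_inv (hDC hu).1, e, mul_inv_cancel]
  obtain ⟨q, hq, eq | eq⟩ := hc.C_ker (mul_mem hh (inv_mem (hDC hu))) hk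
  · rw [show h = h * u⁻¹ * u by group, eq]; exact mul_mem (hc.P_comm hq) hu
  · rw [show h = h * u⁻¹ * u by group, eq]; exact mul_mem (mul_mem hzD (hc.P_comm hq)) hu

/-- An involution of `C` with fixed points only `P` on `O` inverts `O` modulo `P`. -/
theorem CoreData.inverts {O : Subgroup G} (D : c.CoreData O) (hc : c.Ok) {s : G}
    (hsK : s ∈ centralizer (c.P : Set G)) (hs2 : s * s = 1)
    (hfix : ∀ o ∈ O, s * o = o * s → o ∈ c.P) : ∀ o ∈ O, s * o * s⁻¹ * o ∈ c.P := by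
  classical
  have hsi : s⁻¹ = s := inv_eq_of_mul_eq_one_left hs2
  have hsq : ∀ {q : G}, q ∈ c.P → s * q = q * s := fun hq => (mem_centralizer_iff.1 hsK _ hq).symm
  let φ : O → O := fun o => ⟨(o : G)⁻¹ * (s * o * s⁻¹), mul_mem (inv_mem o.2) (D.norm s hsK o o.2)⟩
  have hφ : ∀ o : O, s * (φ o : G) * s⁻¹ = (φ o : G)⁻¹ := by
    intro o
    show s * ((o : G)⁻¹ * (s * o * s⁻¹)) * s⁻¹ = ((o : G)⁻¹ * (s * o * s⁻¹))⁻¹
    calc s * ((o : G)⁻¹ * (s * o * s⁻¹)) * s⁻¹ = s * (o : G)⁻¹ * s * o * (s * s)⁻¹ := by group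
      _ = s * (o : G)⁻¹ * s * o := by rw [hs2, inv_one, mul_one]
      _ = s * (o : G)⁻¹ * s⁻¹ * o := by rw [hsi]
      _ = ((o : G)⁻¹ * (s * o * s⁻¹))⁻¹ := by group
  have hfib : ∀ a b : O, φ a = φ b → (b : G) * (a : G)⁻¹ ∈ c.P := by
    intro a b e
    refine hfix _ (mul_mem b.2 (inv_mem a.2)) ?_
    have e' : (a : G)⁻¹ * (s * a * s⁻¹) = (b : G)⁻¹ * (s * b * s⁻¹) := congrArg Subtype.val e
    calc s * ((b : G) * (a : G)⁻¹) = b * ((b : G)⁻¹ * (s * b * s⁻¹)) * (s * (a : G)⁻¹) := by group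
      _ = b * (a : G)⁻¹ * s := by rw [← e']; group
  let Φ : Set.range φ × c.P → O := fun u => ⟨(u.1.1 : G) * u.2, mul_mem u.1.1.2 (D.P_le u.2.2)⟩
  have hΦ : Function.Injective Φ := by
    rintro ⟨⟨_, a, rfl⟩, ⟨q, hq⟩⟩ ⟨⟨_, b, rfl⟩, ⟨q', hq'⟩⟩ e
    replace e : (φ a : G) * q = (φ b : G) * q' := congrArg Subtype.val e
    set r := q * q'⁻¹ with hr
    have hrP : r ∈ c.P := mul_mem hq (inv_mem hq')
    have hb : (φ b : G) = φ a * r := by
      rw [hr, ← mul_assoc, e]; group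
    have h1 := hφ b
    rw [hb, show s * ((φ a : G) * r) * s⁻¹ = s * (φ a : G) * s⁻¹ * (s * r * s⁻¹) by group, hφ, hsq hrP,
      mul_inv_cancel_right] at h1
    have hra : r * (φ a : G) = (φ a : G) * r :=
      mem_centralizer_iff.1 (D.le (φ a).2) r hrP
    rw [← hra] at h1
    have hr2 : r * r = 1 := by
      have h2 : r = r⁻¹ := mul_left_cancel (h1.trans (_root_.mul_inv_rev r _))
      nth_rewrite 2 [h2]; exact mul_inv_cancel r
    have hr1 : r = 1 := by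
      have h3 := hc.P_pow hrP
      rwa [hr2, one_mul] at h3
    rw [hr1, mul_one] at hb
    have hqq : q = q' := by
      rw [← mul_inv_eq_one, ← hr]; exact hr1
    subst hqq
    exact Prod.ext (Subtype.ext (Subtype.ext hb.symm)) rfl
  haveI : Nonempty O := ⟨1⟩
  let sec : O → O := Function.invFun φ
  let Ψ : O → Set.range φ × c.P := fun o => (⟨φ o, o, rfl⟩,
    ⟨(o : G) * ((sec (φ o) : O) : G)⁻¹, hfib _ _ (Function.invFun_eq ⟨o, rfl⟩)⟩)
  have hΨ : Function.Injective Ψ := by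
    intro a b e
    simp only [Ψ, Prod.mk.injEq, Subtype.mk.injEq] at e
    obtain ⟨e1, e2⟩ := e
    rw [show φ a = φ b from congrArg Subtype.val e1] at e2
    exact Subtype.ext (mul_right_cancel e2)
  have hbij : Function.Bijective Φ :=
    hΦ.bijective_of_nat_card_le (Nat.card_le_card_of_injective Ψ hΨ)
  intro o ho
  obtain ⟨⟨⟨_, a, rfl⟩, ⟨q, hq⟩⟩, e⟩ := hbij.2 ⟨o, ho⟩
  replace e : (φ a : G) * q = o := congrArg Subtype.val e
  have hqa : q * (φ a : G) = (φ a : G) * q := mem_centralizer_iff.1 (D.le (φ a).2) q hq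
  rw [← e, show s * ((φ a : G) * q) * s⁻¹ = s * (φ a : G) * s⁻¹ * (s * q * s⁻¹) by group, hφ, hsq hq,
    mul_inv_cancel_right, ← hqa, show (φ a : G)⁻¹ * q * (q * (φ a : G)) = (φ a : G)⁻¹ * (q * q) * φ a by group]
  have hqq : (q * q) * (φ a : G) = (φ a : G) * (q * q) :=
    mem_centralizer_iff.1 (D.le (φ a).2) _ (mul_mem hq hq)
  rw [mul_assoc, hqq, inv_mul_cancel_left]
  exact mul_mem hq hq

/-- **The centraliser of `P` is `C_H(P)`.** -/
theorem Ok.cent_P (hc : c.Ok) (hd : AutData A M) [IsSimpleGroup G] (hG : ¬ IsMulCommutative G) :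
    centralizer (c.P : Set G) = c.C := by
  classical
  refine le_antisymm ?_ inf_le_right
  obtain ⟨O, D⟩ := hc.exists_core hd
  obtain ⟨g, x, p, hrC, hrz, t, hgx⟩ := hc.exists_fuse_three hd hG
  set K := centralizer (c.P : Set G) with hK
  set r := g * c.z * g⁻¹ with hrdef
  have hr2 : r * r = 1 := by
    rw [hrdef, show g * c.z * g⁻¹ * (g * c.z * g⁻¹) = g * (c.z * c.z) * g⁻¹ by group, hc.z_sq]; group
  have hr1 : r ≠ 1 := fun h => hc.z_ne (conj_eq_one_iff.1 h)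
  have hfr : ∀ o ∈ O, r * o = o * r → o ∈ c.P := by
    intro o ho hor
    set Q := (O ⊓ centralizer ({r} : Set G)).map (MulAut.conj g⁻¹).toMonoidHom with hQ
    have hmem : ∀ {u : G}, u ∈ Q ↔ g * u * g⁻¹ ∈ O ∧ r * (g * u * g⁻¹) = g * u * g⁻¹ * r := by
      intro u
      rw [hQ, mem_conj_map, inv_inv, mem_inf, mem_centralizer_iff]
      simp
    have hQH : Q ≤ c.H := by
      intro u hu
      obtain ⟨-, h2⟩ := hmem.1 hu
      refine c.mem_H.2 ?_
      calc c.z * u = g⁻¹ * (r * (g * u * g⁻¹)) * g := by rw [hrdef]; group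
        _ = u * c.z := by rw [h2, hrdef]; group
    have hQx : ∀ u ∈ Q, u * x = x * u := by
      intro u hu
      have h1 := t.map_cent' hgx (D.le (hmem.1 hu).1)
      rwa [show g⁻¹ * (g * u * g⁻¹) * g = u by group] at h1
    have hQn : ∀ h ∈ c.H, h * x = x * h → ∀ u ∈ Q, h * u * h⁻¹ ∈ Q := by
      intro h hh hhx u hu
      obtain ⟨h1, h2⟩ := hmem.1 hu
      have hgK := t.map_cent hc hgx hhx
      refine hmem.2 ⟨?_, ?_⟩
      · rw [show g * (h * u * h⁻¹) * g⁻¹ = (g * h * g⁻¹) * (g * u * g⁻¹) * (g * h * g⁻¹)⁻¹ by group]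
        exact D.norm _ hgK _ h1
      · have h3 : r * (g * h * g⁻¹) = g * h * g⁻¹ * r := by
          calc r * (g * h * g⁻¹) = g * (c.z * h) * g⁻¹ := by rw [hrdef]; group
            _ = g * h * g⁻¹ * r := by rw [c.mem_H.1 hh, hrdef]; group
        calc r * (g * (h * u * h⁻¹) * g⁻¹)
            = (r * (g * h * g⁻¹)) * (g * u * g⁻¹) * (g * h * g⁻¹)⁻¹ := by group
          _ = (g * h * g⁻¹) * (r * (g * u * g⁻¹)) * (g * h * g⁻¹)⁻¹ := by rw [h3]; group
          _ = (g * h * g⁻¹) * (g * u * g⁻¹) * ((g * h * g⁻¹) * r⁻¹)⁻¹ := by rw [h2]; group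
          _ = (g * h * g⁻¹) * (g * u * g⁻¹) * (r⁻¹ * (g * h * g⁻¹))⁻¹ := by
            rw [inv_eq_of_mul_eq_one_left hr2, h3]
          _ = g * (h * u * h⁻¹) * g⁻¹ * r := by group
    have hodd : Odd (Nat.card Q) := by
      rw [hQ, Subgroup.card_map_of_injective (MulAut.conj g⁻¹).injective]
      exact D.odd.of_dvd_nat (Subgroup.card_dvd_of_le inf_le_left)
    have hle := t.odd_le hc hd hQH hQx hodd hQn
    have h1 : g⁻¹ * o * g ∈ Q := hmem.2 (by
      rw [show g * (g⁻¹ * o * g) * g⁻¹ = o by group]; exact ⟨ho, hor⟩)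
    obtain ⟨i, hi⟩ := mem_zpowers_iff.1 (hle h1)
    have : o = p ^ i := by
      rw [← hgx, ← MulAut.conj_apply, ← map_zpow, hi, MulAut.conj_apply]; group
    rw [this]; exact zpow_mem t.pP i
  have hfz : ∀ o ∈ O, c.z * o = o * c.z → o ∈ c.P := fun o ho h =>
    D.inf_C o ho ((c.mem_C').2 ⟨c.mem_H.2 h, D.le ho⟩)
  have invz := D.inverts hc hc.z_mem_C.2 hc.z_sq hfz
  have invr := D.inverts hc hrC.2 hr2 hfr
  let N : Subgroup G :=
    { carrier := {h | h ∈ c.C ∧ ∀ o ∈ O, h * o * h⁻¹ * o⁻¹ ∈ c.P}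
      one_mem' := ⟨one_mem _, fun o _ => by simp⟩
      mul_mem' := by
        rintro a b ⟨ha, ha'⟩ ⟨hb, hb'⟩
        refine ⟨mul_mem ha hb, fun o ho => ?_⟩
        rw [show a * b * o * (a * b)⁻¹ * o⁻¹ =
          a * (b * o * b⁻¹ * o⁻¹) * a⁻¹ * (a * o * a⁻¹ * o⁻¹) by group,
          ← hc.P_central (hb' o ho) ha, mul_inv_cancel_right]
        exact mul_mem (hb' o ho) (ha' o ho)
      inv_mem' := by
        rintro a ⟨ha, ha'⟩
        refine ⟨inv_mem ha, fun o ho => ?_⟩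
        have h1 := inv_mem (ha' o ho)
        rw [show a⁻¹ * o * a⁻¹⁻¹ * o⁻¹ = a⁻¹ * (a * o * a⁻¹ * o⁻¹)⁻¹ * a⁻¹⁻¹ by group,
          ← hc.P_central h1 (inv_mem ha), mul_inv_cancel_right]
        exact h1 }
  have hNn : ∀ h ∈ c.C, ∀ u ∈ N, h * u * h⁻¹ ∈ N := by
    rintro h hh u ⟨hu, hu'⟩
    refine ⟨mul_mem (mul_mem hh hu) (inv_mem hh), fun o ho => ?_⟩
    have h1 := hu' (h⁻¹ * o * h) (by simpa using D.norm h⁻¹ (inv_mem hh.2) o ho)
    rw [show h * u * h⁻¹ * o * (h * u * h⁻¹)⁻¹ * o⁻¹ =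
      h * (u * (h⁻¹ * o * h) * u⁻¹ * (h⁻¹ * o * h)⁻¹) * h⁻¹ by group,
      ← hc.P_central h1 hh, mul_inv_cancel_right]
    exact h1
  have hzr : c.z * r ∈ N := by
    refine ⟨mul_mem hc.z_mem_C hrC, fun o ho => ?_⟩
    have h1 := invr o ho
    have h2 := invz o⁻¹ (inv_mem ho)
    have hzq : c.z * (r * o * r⁻¹ * o) = r * o * r⁻¹ * o * c.z :=
      c.mem_H.1 (hc.P_le h1)
    rw [show c.z * r * o * (c.z * r)⁻¹ * o⁻¹ =
      c.z * (r * o * r⁻¹ * o) * (o⁻¹ * c.z⁻¹ * o⁻¹) by group, hzq,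
      show r * o * r⁻¹ * o * c.z * (o⁻¹ * c.z⁻¹ * o⁻¹) =
        (r * o * r⁻¹ * o) * (c.z * o⁻¹ * c.z⁻¹ * o⁻¹) by group]
    exact mul_mem h1 h2
  have hprzr : c.pr (c.z * r) ≠ 1 := by
    rw [hc.pr_mul _ hc.z_mem_H _ hrC.1, hc.pr_E hc.z_mem, one_mul]
    exact hc.pr_invol_ne hrC hr2 hr1 hrz
  have hcover : ∀ α ∈ M, ∃ u ∈ N, c.pr u = α := by
    rcases hc.C_normal hd (fun u hu => (hu : u ∈ c.C ∧ _).1) hNn with h | h
    · exact absurd (h _ hzr) hprzr
    · exact h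
  have hPN : c.P ≤ N := fun q hq => ⟨hc.P_le_C hq, fun o ho => by
    rw [mem_centralizer_iff.1 (D.le ho) q hq, mul_inv_cancel_right, mul_inv_cancel]; exact one_mem _⟩
  have hdec : ∀ a ∈ c.C, ∃ n ∈ N, a = n ∨ a = c.z * n := by
    intro a ha
    obtain ⟨u, hu, e⟩ := hcover _ ((hc.mem_C_iff hd (c.C_le_Nh ha)).1 ha)
    have hk : c.pr (a * u⁻¹) = 1 := by
      rw [hc.pr_mul _ ha.1 _ (inv_mem hu.1.1), hc.pr_inv hu.1.1, e, mul_inv_cancel]
    obtain ⟨q, hq, eq | eq⟩ := hc.C_ker (mul_mem ha (inv_mem hu.1)) hk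
    · exact ⟨q * u, mul_mem (hPN hq) hu, Or.inl (by rw [← eq]; group)⟩
    · exact ⟨q * u, mul_mem (hPN hq) hu, Or.inr (by rw [← mul_assoc, ← eq]; group)⟩
  have hDN : ⁅c.C, c.C⁆ ≤ N := by
    refine commutator_le.2 fun a ha b hb => ?_
    obtain ⟨n, hn, en⟩ := hdec a ha
    obtain ⟨m, hm, em⟩ := hdec b hb
    have hcz : ∀ {u : G}, u ∈ c.C → c.z * u = u * c.z := fun hu => c.mem_H.1 hu.1
    have e1 : ⁅a, b⁆ = ⁅n, b⁆ := by
      rcases en with rfl | rfl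
      · rfl
      · rw [commutatorElement_def, commutatorElement_def,
          show c.z * n * b * (c.z * n)⁻¹ * b⁻¹ = c.z * (n * b * n⁻¹) * c.z⁻¹ * b⁻¹ by group,
          hcz (mul_mem (mul_mem hn.1 hb) (inv_mem hn.1)), mul_inv_cancel_right]
    have e2 : ⁅n, b⁆ = ⁅n, m⁆ := by
      rcases em with rfl | rfl
      · rfl
      · rw [commutatorElement_def, commutatorElement_def,
          show n * (c.z * m) * n⁻¹ * (c.z * m)⁻¹ = (n * c.z) * (m * n⁻¹ * m⁻¹ * c.z⁻¹) by group,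
          ← hcz hn.1,
          show c.z * n * (m * n⁻¹ * m⁻¹ * c.z⁻¹) = c.z * (n * m * n⁻¹ * m⁻¹) * c.z⁻¹ by group,
          hcz (mul_mem (mul_mem (mul_mem hn.1 hm.1) (inv_mem hn.1)) (inv_mem hm.1)), mul_inv_cancel_right]
    rw [e1, e2, commutatorElement_def]
    exact mul_mem (mul_mem (mul_mem hn hm) (inv_mem hn)) (inv_mem hm)
  have hzN : c.z ∈ N := hDN ((hc.C_perfect hd hG).symm ▸ hc.z_mem_C)
  have hOP : ∀ o ∈ O, o ∈ c.P := by
    intro o ho
    have h1 := mul_mem (inv_mem (hzN.2 o ho)) (invz o ho)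
    rw [show (c.z * o * c.z⁻¹ * o⁻¹)⁻¹ * (c.z * o * c.z⁻¹ * o) = o * o by group] at h1
    obtain ⟨k, hk⟩ := D.odd
    have h2 := H38.pow_natCard_eq_one ho
    rw [hk, pow_succ, pow_mul, sq] at h2
    rw [eq_inv_of_mul_eq_one_right h2]
    exact inv_mem (pow_mem h1 k)
  intro k hk
  obtain ⟨o, ho, h, hh, rfl⟩ := D.decomp hc hk
  exact mul_mem (hc.P_le_C (hOP o ho)) hh

end Ctx

end Cfsg.Agent.H43.JFour
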