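import Cfsg.Agent.H43.J4.Forms

/-!
# Counting elements of square 1 in `P`-stable extraspecial subgroups of `E`
-/

set_option autoImplicit false

namespace Cfsg.Agent.H43.JFour

open Subgroup
open scoped commutatorElement

universe u v

variable {G : Type u} [Group G] [Finite G] {A : Type v} [Group A] {c : Ctx G A}

namespace Ctx

/-- A nondegenerate subgroup. -/
def Nondeg (c : Ctx G A) (X : Subgroup G) : Prop :=
  ∀ a ∈ X, (∀ b ∈ X, a * b = b * a) → a ∈ zpowers c.z

theorem Ok.gauss (hc : c.Ok) {X : Subgroup G} (hX : c.Stable X) (hn : c.Nondeg X) :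
    (2 * (Nat.card {x : X // (x : G) * x = 1} : ℤ) - Nat.card X) ^ 2 = 2 * Nat.card X := by
  classical
  haveI : Fintype X := Fintype.ofFinite X
  let χ : G → ℤ := fun g => if g = 1 then 1 else -1
  have hχ1 : χ 1 = 1 := if_pos rfl
  have hχz : χ c.z = -1 := if_neg hc.z_ne
  have hval : ∀ {a : G}, (a = 1 ∨ a = c.z) → ∀ {b : G}, (b = 1 ∨ b = c.z) → χ (a * b) = χ a * χ b := by
    intro a ha b hb
    rcases ha with rfl | rfl <;> rcases hb with rfl | rfl <;> simp [hχ1, hχz, hc.z_sq]
  let S : ℤ := ∑ x : X, χ ((x : G) * x)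
  have hS : S = 2 * (Nat.card {x : X // (x : G) * x = 1} : ℤ) - Nat.card X := by
    rw [Nat.card_eq_fintype_card, Nat.card_eq_fintype_card, Fintype.card_subtype]
    have h1 : ∀ x : X, χ ((x : G) * x) = 2 * (if (x : G) * x = 1 then (1 : ℤ) else 0) - 1 := by
      intro x; by_cases h : (x : G) * x = 1 <;> simp [χ, h]
    show ∑ x : X, χ ((x : G) * x) = _
    rw [Finset.sum_congr rfl (fun x _ => h1 x), Finset.sum_sub_distrib, ← Finset.mul_sum,
      Finset.sum_boole, Finset.sum_const, Finset.card_univ, nsmul_eq_mul, mul_one]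
  have hmem : ∀ x : X, (x : G) ∈ c.E := fun x => hX.le x.2
  have hprod : ∀ x w : X, χ ((x : G) * x) * χ ((x * w : X) * (x * w : X)) =
      χ ((w : G) * w) * χ ⁅(x : G), (w : G)⁆ := by
    intro x w
    have e : ((x * w : X) : G) * (x * w : X) = (x : G) * x * (⁅(x : G)⁻¹, (w : G)⁆ * ((w : G) * w)) := by
      simp only [Subgroup.coe_mul, commutatorElement_def]; group
    rw [e, hc.bz_congr_left (hmem x) (hmem w) (hc.eqz_inv_self (hmem x))]
    have h2 := hc.bz_one_or (hmem x) (hmem w)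
    have h3 := hc.sq_mem (hmem w)
    have h4 : ⁅(x : G), (w : G)⁆ * ((w : G) * w) = 1 ∨ ⁅(x : G), (w : G)⁆ * ((w : G) * w) = c.z := by
      rcases h2 with e | e <;> rcases h3 with f | f <;> rw [e, f] <;> simp [hc.z_sq]
    rw [hval (hc.sq_mem (hmem x)) h4, hval h2 h3]
    rcases hc.sq_mem (hmem x) with f | f <;> rw [f] <;> simp [hχ1, hχz] <;> ring
  have hin : ∀ w : X, χ ((w : G) * w) * ∑ x : X, χ ⁅(x : G), (w : G)⁆ =
      if (w : G) ∈ zpowers c.z then (Fintype.card X : ℤ) else 0 := by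
    intro w
    by_cases hw : (w : G) ∈ zpowers c.z
    · rw [if_pos hw]
      have e1 : (w : G) * w = 1 := by
        rcases hc.mem_zp.1 hw with e | e <;> rw [e]
        exacts [one_mul _, hc.z_sq]
      have e2 : ∀ x : X, χ ⁅(x : G), (w : G)⁆ = 1 := by
        intro x
        rw [commutatorElement_eq_one_iff_mul_comm.2, hχ1]
        rcases hc.mem_zp.1 hw with e | e <;> rw [e]
        · simp
        · exact (hc.z_comm (hmem x)).symm
      simp [e1, e2, hχ1]
    · rw [if_neg hw]
      obtain ⟨b, hb, hbw⟩ : ∃ b ∈ X, (w : G) * b ≠ b * w := by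
        by_contra h
        push Not at h
        exact hw (hn w w.2 h)
      have hz : ⁅b, (w : G)⁆ = c.z :=
        (hc.bz_one_or (hX.le hb) (hmem w)).resolve_left
          fun h => hbw (commutatorElement_eq_one_iff_mul_comm.1 h).symm
      have h := Equiv.sum_comp (Equiv.mulLeft (⟨b, hb⟩ : X)) (fun x : X => χ ⁅(x : G), (w : G)⁆)
      have h' : ∀ x : X, χ ⁅((⟨b, hb⟩ * x : X) : G), (w : G)⁆ = - χ ⁅(x : G), (w : G)⁆ := by
        intro x
        rw [Subgroup.coe_mul, hc.bz_mul_left (hX.le hb) (hmem x) (hmem w), hz,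
          hval (Or.inr rfl) (hc.bz_one_or (hmem x) (hmem w)), hχz]
        ring
      simp only [Equiv.coe_mulLeft] at h
      rw [Finset.sum_congr rfl (fun x _ => h' x), Finset.sum_neg_distrib] at h
      have : ∑ x : X, χ ⁅(x : G), (w : G)⁆ = 0 := by linarith
      rw [this, mul_zero]
  have hSS : S * S = 2 * Fintype.card X := by
    calc S * S = ∑ x : X, ∑ y : X, χ ((x : G) * x) * χ ((y : G) * y) := Finset.sum_mul_sum _ _ _ _
      _ = ∑ x : X, ∑ w : X, χ ((w : G) * w) * χ ⁅(x : G), (w : G)⁆ := by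
          refine Finset.sum_congr rfl fun x _ => ?_
          rw [← Equiv.sum_comp (Equiv.mulLeft x)]
          exact Finset.sum_congr rfl fun w _ => hprod x w
      _ = ∑ w : X, χ ((w : G) * w) * ∑ x : X, χ ⁅(x : G), (w : G)⁆ := by
          rw [Finset.sum_comm]; exact Finset.sum_congr rfl fun w _ => (Finset.mul_sum _ _ _).symm
      _ = ∑ w : X, (if (w : G) ∈ zpowers c.z then (Fintype.card X : ℤ) else 0) :=
          Finset.sum_congr rfl fun w _ => hin w
      _ = 2 * Fintype.card X := by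
          rw [← Finset.sum_filter, Finset.sum_const, nsmul_eq_mul]
          congr 1
          have h2 : Nat.card {w : X // (w : G) ∈ zpowers c.z} = 2 := by
            rw [← hc.ord, ← Nat.card_zpowers]
            exact Nat.card_congr
              { toFun := fun w => ⟨(w.1 : G), w.2⟩
                invFun := fun g => ⟨⟨g, (zpowers_le.2 hX.z_mem) g.2⟩, g.2⟩
                left_inv := fun _ => rfl
                right_inv := fun _ => rfl }
          rw [Nat.card_eq_fintype_card, Fintype.card_subtype] at h2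
          exact_mod_cast h2
  rw [← hS, sq, hSS, Nat.card_eq_fintype_card]

/-- A finite `P`-invariant subset of `E` containing `1` and `z` has size `2` modulo 3. -/
theorem Ok.card_mod_three (hc : c.Ok) (S : Set G) (hS : S ⊆ c.E) (h1 : (1 : G) ∈ S) (hz : c.z ∈ S)
    (hP : ∀ p ∈ c.P, ∀ x ∈ S, p * x * p⁻¹ ∈ S) : Nat.card S % 3 = 2 := by
  classical
  haveI : Fact (Nat.Prime 3) := ⟨Nat.prime_three⟩
  obtain ⟨p₀, hp, hp1⟩ : ∃ p ∈ c.P, p ≠ 1 := by
    refine (Subgroup.bot_or_exists_ne_one c.P).resolve_left fun e => ?_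
    have := hc.cardP; rw [e, Subgroup.card_bot] at this; omega
  letI : MulAction c.P S :=
    { smul := fun q x => ⟨(q : G) * x * (q : G)⁻¹, hP q q.2 x x.2⟩
      one_smul := fun x => Subtype.ext (by show (1 : G) * x * (1 : G)⁻¹ = x; simp)
      mul_smul := fun a b x => Subtype.ext (by
        show ((a : G) * b) * x * ((a : G) * b)⁻¹ = (a : G) * ((b : G) * x * (b : G)⁻¹) * (a : G)⁻¹
        group) }
  have hmod := (IsPGroup.of_card (n := 1) (by rw [hc.cardP, pow_one]) : IsPGroup 3 c.P)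
    |>.card_modEq_card_fixedPoints S
  have hfix : Nat.card (MulAction.fixedPoints c.P S) = 2 := by
    rw [← hc.ord, ← Nat.card_zpowers]
    refine Nat.card_congr
      { toFun := fun x => ⟨(x.1 : G), ?_⟩
        invFun := fun g => ⟨⟨g.1, ?_⟩, ?_⟩
        left_inv := fun _ => rfl
        right_inv := fun _ => rfl }
    · have h := congrArg Subtype.val (x.2 ⟨p₀, hp⟩)
      change p₀ * (x.1 : G) * p₀⁻¹ = (x.1 : G) at h
      exact hc.fpf hp hp1 (hS x.1.2) (Or.inl h)
    · rcases hc.mem_zp.1 g.2 with e | e <;> rw [e]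
      exacts [h1, hz]
    · intro q
      refine Subtype.ext ?_
      show (q : G) * (g : G) * (q : G)⁻¹ = g
      rcases hc.mem_zp.1 g.2 with e | e <;> rw [e]
      · simp
      · rw [← c.mem_H.1 (hc.P_le q.2), mul_inv_cancel_right]
  rw [hfix] at hmod
  exact hmod

theorem Ok.stable_mod_three (hc : c.Ok) {X : Subgroup G} (hX : c.Stable X) : Nat.card X % 3 = 2 :=
  hc.card_mod_three (X : Set G) (fun _ h => hX.le h) (one_mem X) hX.z_mem hX.conj

theorem Ok.stable_pow (hc : c.Ok) {X : Subgroup G} (hX : c.Stable X) :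
    ∃ k ≤ 13, Nat.card X = 2 ^ k :=
  (Nat.dvd_prime_pow Nat.prime_two).1 (hc.cardE ▸ Subgroup.card_dvd_of_le hX.le)

theorem Ok.sq_one_mod_three (hc : c.Ok) {X : Subgroup G} (hX : c.Stable X) :
    Nat.card {x : X // (x : G) * x = 1} % 3 = 2 := by
  have h := hc.card_mod_three {x | x ∈ X ∧ x * x = 1} (fun _ h => hX.le h.1)
    ⟨one_mem X, one_mul _⟩ ⟨hX.z_mem, hc.z_sq⟩ (by
      rintro p hp x ⟨hx, hx2⟩
      refine ⟨hX.conj p hp x hx, ?_⟩
      rw [show p * x * p⁻¹ * (p * x * p⁻¹) = p * (x * x) * p⁻¹ by group, hx2]; group)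
  rw [← h]
  exact congrArg (· % 3) (Nat.card_congr (Equiv.subtypeSubtypeEquivSubtypeInter
    (fun x : G => x ∈ X) fun x => x * x = 1))

theorem Ok.count32 (hc : c.Ok) {X : Subgroup G} (hX : c.Stable X) (hn : c.Nondeg X)
    (h : Nat.card X = 32) : Nat.card {x : X // (x : G) * x = 1} = 20 := by
  have h1 := hc.gauss hX hn
  have h2 := hc.sq_one_mod_three hX
  rw [h] at h1
  generalize Nat.card {x : X // (x : G) * x = 1} = N at h1 h2 ⊢
  have h3 : (2 * (N : ℤ) - 40) * (2 * N - 24) = 0 := by push_cast at h1; nlinarith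
  rcases mul_eq_zero.1 h3 with h4 | h4 <;> omega

theorem Ok.count_all (hc : c.Ok) (hX : c.Stable c.E) (hn : c.Nondeg c.E) :
    Nat.card {x : c.E // (x : G) * x = 1} = 4160 := by
  have h1 := hc.gauss hX hn
  have h2 := hc.sq_one_mod_three hX
  rw [hc.cardE] at h1
  generalize Nat.card {x : c.E // (x : G) * x = 1} = N at h1 h2 ⊢
  have h3 : (2 * (N : ℤ) - 8320) * (2 * N - 8064) = 0 := by push_cast at h1; nlinarith
  rcases mul_eq_zero.1 h3 with h4 | h4 <;> omega

theorem Ok.stable_E (hc : c.Ok) : c.Stable c.E :=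
  ⟨le_rfl, hc.z_mem, fun _ hp _ hx => hc.conjE (hc.P_le hp) hx⟩

theorem Ok.nondeg_E (hc : c.Ok) : c.Nondeg c.E := fun _ ha h => hc.mem_zp.2 (hc.mem_of_center ha h)

end Ctx

end Cfsg.Agent.H43.JFour
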