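import Mathlib
import Cfsg.Prelude.Def_Transfer

/-!
# The facts about `Aut M22` used in the local analysis of groups of Janko-four type

`AutData A M` lists them for an abstract group `A` with a subgroup `M`.
-/

set_option autoImplicit false

namespace Cfsg.Agent.H43.JFour

variable {A : Type*} [Group A]

/-- Elementary abelian subgroups of order 32. -/
def IsR (R : Subgroup A) : Prop := IsElementaryAbelian 2 R ∧ Nat.card R = 32

/-- Facts about `A = Aut M22` with `M` its inner automorphism group. -/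
structure AutData (A : Type*) [Group A] (M : Subgroup A) : Prop where
  card : Nat.card A = 887040
  index : M.index = 2
  unique_index : ∀ K : Subgroup A, K.index = 2 → K = M
  simple : IsSimpleGroup M
  noncomm : ¬ IsMulCommutative M
  elem_le : ∀ B : Subgroup A, IsElementaryAbelian 2 B → Nat.card B ≤ 32
  cent_R : ∀ R : Subgroup A, IsR R → Subgroup.centralizer (R : Set A) = R
  invol : ∀ a ∈ M, ∀ b ∈ M, orderOf a = 2 → orderOf b = 2 → ∃ g ∈ M, g * a * g⁻¹ = b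
  syl_exp : ∀ (P : Sylow 3 A), ∀ a ∈ P, a ^ 3 = 1
  syl_norm : ∀ (P : Sylow 3 A), Nat.card (Subgroup.normalizer ((P : Subgroup A) : Set A)) = 144
  syl_trans : ∀ (P : Sylow 3 A), ∀ a ∈ P, ∀ b ∈ P, a ≠ 1 → b ≠ 1 →
    ∃ g ∈ M ⊓ Subgroup.normalizer ((P : Subgroup A) : Set A), g * a * g⁻¹ = b
  three_four : ∃ x y a b : A, x ∈ M ∧ y ∈ M ∧ a ∈ M ∧ b ∈ M ∧ orderOf x = 3 ∧ orderOf y = 3 ∧
    orderOf a = 2 ∧ orderOf b = 2 ∧ a ≠ b ∧ Commute a b ∧ Commute x y ∧ Commute x a ∧ Commute x b ∧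
    y * a * y⁻¹ = b ∧ y * b * y⁻¹ = a * b
  R_exists : ∃ R : Subgroup A, IsR R
  R_conj : ∀ R R' : Subgroup A, IsR R → IsR R' → ∃ g : A, R.map (MulAut.conj g).toMonoidHom = R'
  R_index : ∀ R : Subgroup A, IsR R → (Subgroup.normalizer (R : Set A)).index = 231
  R_fix : ∀ R : Subgroup A, IsR R → ∀ r ∈ R,
    (∀ g ∈ Subgroup.normalizer (R : Set A), g * r * g⁻¹ = r) → r = 1
  R_six : ∀ x : A, orderOf x = 3 →
    Nat.card {R : Subgroup A // IsR R ∧ x ∈ Subgroup.normalizer (R : Set A)} = 6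
  R_six_trans : ∀ x : A, orderOf x = 3 → ∀ R R' : Subgroup A, IsR R → IsR R' →
    x ∈ Subgroup.normalizer (R : Set A) → x ∈ Subgroup.normalizer (R' : Set A) →
    ∃ g : A, Commute g x ∧ R.map (MulAut.conj g).toMonoidHom = R'
  R_three : ∀ R : Subgroup A, IsR R → ∀ x : A, orderOf x = 3 → x ∈ Subgroup.normalizer (R : Set A) →
    ∀ r ∈ R ⊓ M, Commute x r → r = 1
  outer_three : ∀ u : A, u ∉ M → orderOf u = 2 →
    3 ∣ Nat.card (Subgroup.centralizer ({u} : Set A)) →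
    7 ∣ Nat.card (Subgroup.centralizer ({u} : Set A))
  R_pair : ∀ R : Subgroup A, IsR R → ∃ R' : Subgroup A, IsR R' ∧ R' ≠ R ∧
    Nat.card ↥(R ⊓ Subgroup.normalizer (R' : Set A)) = 16 ∧
    Nat.card ↥(R ⊓ M ⊓ Subgroup.normalizer (R' : Set A)) = 8

end Cfsg.Agent.H43.JFour
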