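import Cfsg.Agent.H43.J4.WeakClosure

/-!
# Two contexts with the second involution in the first extraspecial subgroup

If `e = d.z` lies in `c.E` then `c.z` lies in `d.E`, the two extraspecial subgroups meet in an elementary
group of order 128, and the image in `A` of the centraliser of `z` in `d.E` is elementary of order 32.
-/

set_option autoImplicit false

namespace Cfsg.Agent.H43.JFour

open Subgroup
open scoped commutatorElement

universe u v

variable {G : Type u} [Group G] [Finite G] {A : Type v} [Group A] {M : Subgroup A}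

namespace Ctx

variable {c d : Ctx G A}

theorem Ok.zpowers_pair (hc : c.Ok) {e : G} (he : e ∈ c.E) (he2 : e * e = 1) (h1 : e ≠ 1) (hz : e ≠ c.z) :
    Nat.card ↥(zpowers c.z ⊔ zpowers e) = 4 := by
  have hoe : orderOf e = 2 := orderOf_eq_prime (by rw [sq]; exact he2) h1
  have h := card_sup_of_commute (zpowers c.z) (zpowers e) fun a ha b hb => by
    obtain ⟨i, rfl⟩ := mem_zpowers_iff.1 ha
    obtain ⟨j, rfl⟩ := mem_zpowers_iff.1 hb
    exact (((show Commute c.z e from hc.z_comm he).zpow_left i).zpow_right j).eq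
  have hinf : zpowers c.z ⊓ zpowers e = ⊥ := by
    rw [eq_bot_iff]
    rintro u ⟨hu1, hu2⟩
    rcases hc.mem_zp.1 hu1 with rfl | rfl
    · exact one_mem _
    · exact absurd (eq_of_card_two (by rw [Nat.card_zpowers]; exact hoe) hu2 (mem_zpowers e) hc.z_ne h1)
        hz.symm
  rw [hinf, Subgroup.card_bot, mul_one, Nat.card_zpowers, Nat.card_zpowers, hc.ord, hoe] at h
  exact h

theorem Ok.cent_singleton (hc : c.Ok) {e : G} :
    c.E ⊓ centralizer ((zpowers c.z ⊔ zpowers e : Subgroup G) : Set G) = c.E ⊓ centralizer ({e} : Set G) := by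
  refine le_antisymm (inf_le_inf le_rfl (centralizer_le (Set.singleton_subset_iff.2 (mem_sup_right (mem_zpowers e))))) ?_
  intro u hu
  obtain ⟨huE, hue⟩ := mem_inf.1 hu
  refine mem_inf.2 ⟨huE, mem_centralizer_iff.2 fun k hk => ?_⟩
  have hle : zpowers c.z ⊔ zpowers e ≤ centralizer ({u} : Set G) := sup_le
    (zpowers_le.2 (mem_centralizer_iff.2 fun x hx => by
      rw [Set.mem_singleton_iff.1 hx]; exact (hc.z_comm huE).symm))
    (zpowers_le.2 (mem_centralizer_iff.2 fun x hx => by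
      rw [Set.mem_singleton_iff.1 hx]; exact (mem_centralizer_iff.1 hue e rfl).symm))
  exact (mem_centralizer_iff.1 (hle hk) u rfl).symm

theorem Ok.card_cent_one (hc : c.Ok) {e : G} (he : e ∈ c.E) (he2 : e * e = 1) (h1 : e ≠ 1) (hz : e ≠ c.z) :
    Nat.card ↥(c.E ⊓ centralizer ({e} : Set G)) = 2 ^ 12 := by
  have h := hc.card_cent (zpowers c.z ⊔ zpowers e) (sup_le (zpowers_le.2 hc.z_mem) (zpowers_le.2 he))
    (mem_sup_left (mem_zpowers _))
  rw [hc.cent_singleton, hc.zpowers_pair he he2 h1 hz] at h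
  omega

/-- The configuration. -/
structure Duo (c d : Ctx G A) : Prop where
  hc : c.Ok
  hd' : d.Ok
  mem : d.z ∈ c.E
  ne : d.z ≠ c.z

namespace Duo

variable (π : Duo c d)
include π

theorem cH : c.z ∈ d.H := d.mem_H.2 (π.hc.z_comm π.mem).symm

theorem dH : d.z ∈ c.H := π.hc.le_H π.mem

theorem mem_Cs {u : G} : u ∈ Cs c d ↔ u ∈ c.E ∧ d.z * u = u * d.z := by
  simp [Cs, mem_centralizer_iff, eq_comm]

theorem Cs_le_H : Cs c d ≤ d.H := fun _ hu => d.mem_H.2 (π.mem_Cs.1 hu).2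

theorem card_Cs : Nat.card ↥(Cs c d) = 2 ^ 12 :=
  π.hc.card_cent_one π.mem π.hd'.z_sq π.hd'.z_ne π.ne

theorem cent_Cs : Nat.card ↥(c.E ⊓ centralizer (Cs c d : Set G)) = 4 := by
  have h := π.hc.card_cent (Cs c d) inf_le_left (π.mem_Cs.2 ⟨π.hc.z_mem, (π.hc.z_comm π.mem).symm⟩)
  rw [π.card_Cs] at h
  omega

theorem inf_le_Cs : c.E ⊓ d.E ≤ Cs c d := fun _ ha =>
  π.mem_Cs.2 ⟨(mem_inf.1 ha).1, π.hd'.z_comm (mem_inf.1 ha).2⟩

theorem card_Cs_img : Nat.card (π.hd'.img (Cs c d)) * Nat.card ↥(c.E ⊓ d.E) = 2 ^ 12 := by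
  have h := π.hd'.card_img π.Cs_le_H fun x hx => π.hc.sq_sq (π.mem_Cs.1 hx).1
  rw [π.card_Cs, show Cs c d ⊓ d.E = c.E ⊓ d.E from
    le_antisymm (fun u hu => mem_inf.2 ⟨(π.mem_Cs.1 (mem_inf.1 hu).1).1, (mem_inf.1 hu).2⟩)
      (le_inf π.inf_le_Cs inf_le_right)] at h
  exact h

/-- `z` lies in the extraspecial subgroup of `e`. -/
theorem z_mem (hd : AutData A M) : c.z ∈ d.E := by
  by_contra hcE
  have hle : c.E ⊓ d.E ≤ c.E ⊓ centralizer (Cs c d : Set G) := by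
    intro a ha
    refine mem_inf.2 ⟨(mem_inf.1 ha).1, mem_centralizer_iff.2 fun u hu => ?_⟩
    have h1 : a * u * a⁻¹ * u⁻¹ ∈ d.E := by
      have := mul_mem (mem_inf.1 ha).2 (π.hd'.conjE (π.Cs_le_H hu) (inv_mem (mem_inf.1 ha).2))
      simpa [mul_assoc] using this
    rcases π.hc.comm_mem (mem_inf.1 ha).1 (π.mem_Cs.1 hu).1 with e | e
    · symm
      calc a * u = a * u * a⁻¹ * u⁻¹ * (u * a) := by group
        _ = u * a := by rw [e, one_mul]
    · exact absurd (e ▸ h1) hcE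
  have hne : Nat.card ↥(c.E ⊓ d.E) ≠ 4 := by
    intro h4
    have h := Subgroup.eq_of_le_of_card_ge hle (by rw [h4, π.cent_Cs])
    exact hcE (mem_inf.1 (h.ge (mem_inf.2 ⟨π.hc.z_mem, mem_centralizer_iff.2 fun u hu =>
      (π.hc.z_comm (π.mem_Cs.1 hu).1).symm⟩))).2
  have hdvd : Nat.card ↥(c.E ⊓ d.E) ∣ 4 := π.cent_Cs ▸ Subgroup.card_dvd_of_le hle
  haveI := hd.finite
  have hA := Subgroup.card_subgroup_dvd_card (π.hd'.img (Cs c d))
  rw [hd.card] at hA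
  have hi := π.card_Cs_img
  obtain ⟨k, hk, e⟩ := (Nat.dvd_prime_pow Nat.prime_two).1 (show Nat.card ↥(c.E ⊓ d.E) ∣ 2 ^ 2 from hdvd)
  rw [e] at hne hi
  interval_cases k
  · norm_num at hi; rw [hi] at hA; omega
  · have : Nat.card (π.hd'.img (Cs c d)) = 2048 := by norm_num at hi; omega
    rw [this] at hA; omega
  · norm_num at hne

theorem symm (hd : AutData A M) : Duo d c := ⟨π.hd', π.hc, π.z_mem hd, π.ne.symm⟩

/-- The meet is elementary abelian. -/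
theorem inf_elem : (∀ a ∈ c.E ⊓ d.E, a * a = 1) ∧
    ∀ a ∈ c.E ⊓ d.E, ∀ b ∈ c.E ⊓ d.E, a * b = b * a := by
  have key : ∀ {u : G}, (u = 1 ∨ u = c.z) → (u = 1 ∨ u = d.z) → u = 1 := by
    rintro u (h | h) (h' | h')
    · exact h
    · exact h
    · exact h'
    · exact absurd (h'.symm.trans h) π.ne
  refine ⟨fun a ha => key (π.hc.sq_mem (mem_inf.1 ha).1) (π.hd'.sq_mem (mem_inf.1 ha).2), fun a ha b hb => ?_⟩
  have h := key (π.hc.comm_mem (mem_inf.1 ha).1 (mem_inf.1 hb).1)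
    (π.hd'.comm_mem (mem_inf.1 ha).2 (mem_inf.1 hb).2)
  calc a * b = a * b * a⁻¹ * b⁻¹ * (b * a) := by group
    _ = b * a := by rw [h, one_mul]

theorem img_elem (hd : AutData A M) : IsElementaryAbelian 2 (π.hd'.img (Cs c d)) := by
  have hzd := π.z_mem hd
  have hle := π.Cs_le_H
  refine ⟨⟨⟨?_⟩⟩, ?_⟩
  · rintro ⟨a, ha⟩ ⟨b, hb⟩
    obtain ⟨x, hx, rfl⟩ := (π.hd'.mem_img hle).1 ha
    obtain ⟨y, hy, rfl⟩ := (π.hd'.mem_img hle).1 hb
    apply Subtype.ext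
    show d.pr x * d.pr y = d.pr y * d.pr x
    rw [← π.hd'.pr_mul _ (hle hx) _ (hle hy), ← π.hd'.pr_mul _ (hle hy) _ (hle hx)]
    rcases π.hc.swap (π.mem_Cs.1 hx).1 (π.mem_Cs.1 hy).1 with e | e
    · rw [e]
    · rw [e, π.hd'.pr_mul _ (π.hd'.le_H hzd) _ (mul_mem (hle hy) (hle hx)), π.hd'.pr_E hzd, one_mul]
  · intro α hα
    obtain ⟨x, hx, rfl⟩ := (π.hd'.mem_img hle).1 hα
    rw [sq, ← π.hd'.pr_mul _ (hle hx) _ (hle hx)]
    rcases π.hc.sq_mem (π.mem_Cs.1 hx).1 with e | e <;> rw [e]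
    exacts [π.hd'.pr_one, π.hd'.pr_E hzd]

theorem card_inf (hd : AutData A M) : Nat.card ↥(c.E ⊓ d.E) = 2 ^ 7 := by
  have hi := π.card_Cs_img
  have h32 := hd.elem_le _ (π.img_elem hd)
  have hzD : c.z ∈ c.E ⊓ d.E := mem_inf.2 ⟨π.hc.z_mem, π.z_mem hd⟩
  have h2 := π.hc.card_cent (c.E ⊓ d.E) inf_le_left hzD
  have h3 := Nat.le_of_dvd Nat.card_pos (Subgroup.card_dvd_of_le
    (show c.E ⊓ d.E ≤ c.E ⊓ centralizer ((c.E ⊓ d.E : Subgroup G) : Set G) from fun a ha =>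
      mem_inf.2 ⟨(mem_inf.1 ha).1, mem_centralizer_iff.2 fun b hb => π.inf_elem.2 b hb a ha⟩))
  obtain ⟨k, hk, e⟩ := (Nat.dvd_prime_pow Nat.prime_two).1
    (show Nat.card ↥(c.E ⊓ d.E) ∣ 2 ^ 13 from π.hc.cardE ▸ Subgroup.card_dvd_of_le inf_le_left)
  rw [e] at hi h2 h3 ⊢
  have h4 := Nat.mul_le_mul_right (2 ^ k) h3
  rw [h2, ← pow_add] at h4
  have k1 : k + k ≤ 14 := (Nat.pow_le_pow_iff_right (by norm_num)).1 h4
  have h5 : 2 ^ 12 ≤ 2 ^ 5 * 2 ^ k := by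
    rw [← hi]; exact Nat.mul_le_mul_right _ (h32.trans (by norm_num))
  rw [← pow_add] at h5
  have k2 : 12 ≤ 5 + k := (Nat.pow_le_pow_iff_right (by norm_num)).1 h5
  rw [show k = 7 by omega]

theorem isR (hd : AutData A M) : IsR (π.hd'.img (Cs c d)) := by
  refine ⟨π.img_elem hd, ?_⟩
  have hi := π.card_Cs_img
  rw [π.card_inf hd] at hi
  omega

end Duo

end Ctx

end Cfsg.Agent.H43.JFour
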