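import Cfsg.Agent.H43.J4.ThreeSylow

/-!
# The symplectic module `E/⟨z⟩` in group language

`Eqz` is congruence modulo `⟨z⟩`; `fixMod h` and `imMod h` are the preimages in `E` of the fixed space and of
the commutator space of `h` on `E/⟨z⟩`.
-/

set_option autoImplicit false

namespace Cfsg.Agent.H43.JFour

open scoped commutatorElement

open Subgroup

universe u v

variable {G : Type u} [Group G] [Finite G] {A : Type v} [Group A] {M : Subgroup A} {c : Ctx G A}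

namespace Ctx

/-- Equality modulo `z`. -/
def Eqz (c : Ctx G A) (a b : G) : Prop := b = a ∨ b = c.z * a

theorem Eqz.refl (c : Ctx G A) (a : G) : c.Eqz a a := Or.inl rfl

theorem Ok.eqz_symm (hc : c.Ok) {a b : G} (h : c.Eqz a b) : c.Eqz b a := by
  rcases h with h | h
  · exact Or.inl h.symm
  · exact Or.inr (by rw [h, ← mul_assoc, hc.z_sq, one_mul])

theorem Ok.eqz_trans (hc : c.Ok) {a b d : G} (h : c.Eqz a b) (h' : c.Eqz b d) : c.Eqz a d := by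
  rcases h with h | h <;> rcases h' with h' | h' <;> subst h h'
  · exact Or.inl rfl
  · exact Or.inr rfl
  · exact Or.inr rfl
  · exact Or.inl (by rw [← mul_assoc, hc.z_sq, one_mul])

theorem Ok.eqz_mul (hc : c.Ok) {a a' b b' : G} (ha : a ∈ c.H) (h : c.Eqz a a') (h' : c.Eqz b b') :
    c.Eqz (a * b) (a' * b') := by
  have hz := c.mem_H.1 ha
  rcases h with h | h <;> rcases h' with h' | h' <;> subst h h'
  · exact Or.inl rfl
  · exact Or.inr (by rw [← mul_assoc, ← hz, mul_assoc])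
  · exact Or.inr (by rw [mul_assoc])
  · refine Or.inl ?_
    rw [mul_assoc, ← mul_assoc a c.z b, ← hz, mul_assoc c.z a b, ← mul_assoc, hc.z_sq, one_mul]

theorem Ok.eqz_conj (hc : c.Ok) {a b h : G} (hh : h ∈ c.H) (e : c.Eqz a b) :
    c.Eqz (h * a * h⁻¹) (h * b * h⁻¹) := by
  rcases e with rfl | rfl
  · exact Or.inl rfl
  · exact Or.inr (by rw [← mul_assoc h c.z a, ← c.mem_H.1 hh]; group)

theorem Ok.eqz_mem (hc : c.Ok) {a b : G} (ha : a ∈ c.E) (e : c.Eqz a b) : b ∈ c.E := by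
  rcases e with rfl | rfl
  exacts [ha, mul_mem hc.z_mem ha]

theorem Ok.eqz_sq (hc : c.Ok) {a : G} (ha : a ∈ c.E) : c.Eqz 1 (a * a) := by
  rcases hc.sq_mem ha with h | h <;> rw [h]
  exacts [Or.inl rfl, Or.inr (mul_one _).symm]

theorem Ok.eqz_comm (hc : c.Ok) {a b : G} (ha : a ∈ c.E) (hb : b ∈ c.E) : c.Eqz (b * a) (a * b) :=
  hc.swap ha hb

theorem Ok.eqz_inv_self (hc : c.Ok) {a : G} (ha : a ∈ c.E) : c.Eqz a a⁻¹ := by
  rcases hc.sq_mem ha with h | h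
  · exact Or.inl (inv_eq_of_mul_eq_one_left h)
  · exact Or.inr (inv_eq_of_mul_eq_one_left (by rw [mul_assoc, h, hc.z_sq]))

theorem Ok.eqz_one_iff (hc : c.Ok) {a : G} : c.Eqz 1 a ↔ a ∈ zpowers c.z := by
  rw [hc.mem_zp, Eqz, mul_one]

theorem Ok.eqz_cases (hc : c.Ok) {a : G} (h : c.Eqz 1 a) : a = 1 ∨ a = c.z := by
  rcases h with h | h
  exacts [Or.inl h, Or.inr (by rw [h, mul_one])]

theorem Ok.eqz_right_cancel (hc : c.Ok) {a b : G} (h : c.Eqz a b) : c.Eqz 1 (b * a⁻¹) := by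
  rcases h with rfl | rfl
  exacts [Or.inl (mul_inv_cancel _), Or.inr (by group)]

/-! ### The commutator form -/

theorem Ok.comm_central (hc : c.Ok) {a b x : G} (ha : a ∈ c.E) (hb : b ∈ c.E) (hx : x ∈ c.H) :
    ⁅a, b⁆ * x = x * ⁅a, b⁆ := by
  rw [commutatorElement_def]
  rcases hc.comm_mem ha hb with h | h <;> rw [h]
  exacts [by simp, c.mem_H.1 hx]

theorem Ok.bz_mul_left (hc : c.Ok) {a b d : G} (ha : a ∈ c.E) (hb : b ∈ c.E) (hd : d ∈ c.E) :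
    ⁅a * b, d⁆ = ⁅a, d⁆ * ⁅b, d⁆ := by
  have h := hc.comm_central hb hd (hc.le_H ha)
  calc ⁅a * b, d⁆ = a * ⁅b, d⁆ * (d * a⁻¹ * d⁻¹) := by simp only [commutatorElement_def]; group
    _ = ⁅b, d⁆ * ⁅a, d⁆ := by rw [← h]; simp only [commutatorElement_def]; group
    _ = ⁅a, d⁆ * ⁅b, d⁆ := hc.comm_central hb hd (by
        rcases hc.comm_mem ha hd with e | e <;> rw [commutatorElement_def, e]
        exacts [one_mem _, hc.z_mem_H])

theorem Ok.bz_symm (hc : c.Ok) {a b : G} (ha : a ∈ c.E) (hb : b ∈ c.E) : ⁅b, a⁆ = ⁅a, b⁆ := by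
  rw [← commutatorElement_inv, commutatorElement_def]
  rcases hc.comm_mem ha hb with h | h <;> rw [h]
  exacts [inv_one, hc.z_inv]

theorem Ok.bz_mul_right (hc : c.Ok) {a b d : G} (ha : a ∈ c.E) (hb : b ∈ c.E) (hd : d ∈ c.E) :
    ⁅a, b * d⁆ = ⁅a, b⁆ * ⁅a, d⁆ := by
  rw [hc.bz_symm (mul_mem hb hd) ha, hc.bz_mul_left hb hd ha, hc.bz_symm ha hb, hc.bz_symm ha hd]

theorem Ok.bz_one_or (hc : c.Ok) {a b : G} (ha : a ∈ c.E) (hb : b ∈ c.E) :
    ⁅a, b⁆ = 1 ∨ ⁅a, b⁆ = c.z := by rw [commutatorElement_def]; exact hc.comm_mem ha hb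

theorem Ok.bz_sq (hc : c.Ok) {a b : G} (ha : a ∈ c.E) (hb : b ∈ c.E) : ⁅a, b⁆ * ⁅a, b⁆ = 1 := by
  rcases hc.bz_one_or ha hb with h | h <;> rw [h]
  exacts [one_mul _, hc.z_sq]

theorem Ok.bz_congr_left (hc : c.Ok) {a a' b : G} (ha : a ∈ c.E) (hb : b ∈ c.E) (e : c.Eqz a a') :
    ⁅a', b⁆ = ⁅a, b⁆ := by
  rcases e with rfl | rfl
  · rfl
  · rw [hc.bz_mul_left hc.z_mem ha hb, commutatorElement_eq_one_iff_mul_comm.2 (hc.z_comm hb), one_mul]

theorem Ok.bz_congr_right (hc : c.Ok) {a b b' : G} (ha : a ∈ c.E) (hb : b ∈ c.E) (e : c.Eqz b b') :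
    ⁅a, b'⁆ = ⁅a, b⁆ := by
  rw [hc.bz_symm (hc.eqz_mem hb e) ha, hc.bz_congr_left hb ha e, hc.bz_symm ha hb]

theorem Ok.bz_conj (hc : c.Ok) {a b h : G} (hh : h ∈ c.H) (ha : a ∈ c.E) (hb : b ∈ c.E) :
    ⁅h * a * h⁻¹, h * b * h⁻¹⁆ = ⁅a, b⁆ := by
  have : ⁅h * a * h⁻¹, h * b * h⁻¹⁆ = h * ⁅a, b⁆ * h⁻¹ := by simp only [commutatorElement_def]; group
  rw [this, ← hc.comm_central ha hb hh, mul_inv_cancel_right]

theorem Ok.bz_inv_right (hc : c.Ok) {a b : G} (ha : a ∈ c.E) (hb : b ∈ c.E) : ⁅a, b⁻¹⁆ = ⁅a, b⁆ :=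
  hc.bz_congr_right ha hb (hc.eqz_inv_self hb)

/-! ### Fixed and commutator spaces -/

/-- The preimage in `E` of the fixed space of `h` on `E/⟨z⟩`. -/
def Ok.fixMod (hc : c.Ok) (h : G) : Subgroup G where
  carrier := {v | v ∈ c.E ∧ c.Eqz v (h * v * h⁻¹)}
  one_mem' := ⟨one_mem _, Or.inl (by group)⟩
  mul_mem' := by
    rintro a b ⟨ha, ea⟩ ⟨hb, eb⟩
    refine ⟨mul_mem ha hb, ?_⟩
    rw [show h * (a * b) * h⁻¹ = (h * a * h⁻¹) * (h * b * h⁻¹) by group]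
    exact hc.eqz_mul (hc.le_H ha) ea eb
  inv_mem' := by
    rintro a ⟨ha, ea⟩
    refine ⟨inv_mem ha, ?_⟩
    have h1 := hc.eqz_mem ha ea
    rw [show h * a⁻¹ * h⁻¹ = (h * a * h⁻¹)⁻¹ by group]
    exact hc.eqz_trans (hc.eqz_symm (hc.eqz_inv_self ha)) (hc.eqz_trans ea (hc.eqz_inv_self h1))

theorem Ok.fixMod_le (hc : c.Ok) (h : G) : hc.fixMod h ≤ c.E := fun _ hv => hv.1

theorem Ok.cm_mem (hc : c.Ok) {h v : G} (hh : h ∈ c.H) (hv : v ∈ c.E) : v * (h * v⁻¹ * h⁻¹) ∈ c.E :=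
  mul_mem hv (hc.conjE hh (inv_mem hv))

/-- The preimage in `E` of the commutator space of `h` on `E/⟨z⟩`. -/
def Ok.imMod (hc : c.Ok) (h : G) (hh : h ∈ c.H) : Subgroup G where
  carrier := {w | ∃ v ∈ c.E, c.Eqz (v * (h * v⁻¹ * h⁻¹)) w}
  one_mem' := ⟨1, one_mem _, Or.inl (by group)⟩
  mul_mem' := by
    rintro _ _ ⟨a, ha, ea⟩ ⟨b, hb, eb⟩
    refine ⟨a * b, mul_mem ha hb, hc.eqz_trans ?_ (hc.eqz_mul (hc.le_H (hc.cm_mem hh ha)) ea eb)⟩
    have hA := hc.conjE hh (inv_mem ha)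
    have hB := hc.cm_mem hh hb
    have h1 := hc.eqz_comm hA hB
    rw [show a * b * (h * (a * b)⁻¹ * h⁻¹) = a * ((b * (h * b⁻¹ * h⁻¹)) * (h * a⁻¹ * h⁻¹)) by group,
      show a * (h * a⁻¹ * h⁻¹) * (b * (h * b⁻¹ * h⁻¹)) = a * ((h * a⁻¹ * h⁻¹) * (b * (h * b⁻¹ * h⁻¹))) by
        group]
    exact hc.eqz_mul (hc.le_H ha) (Eqz.refl c a) h1
  inv_mem' := by
    rintro w ⟨a, ha, ea⟩
    have h1 := hc.eqz_mem (hc.cm_mem hh ha) ea
    exact ⟨a, ha, hc.eqz_trans ea (hc.eqz_inv_self h1)⟩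

theorem Ok.imMod_le (hc : c.Ok) {h : G} (hh : h ∈ c.H) : hc.imMod h hh ≤ c.E := by
  rintro w ⟨v, hv, e⟩; exact hc.eqz_mem (hc.cm_mem hh hv) e

theorem Ok.z_mem_imMod (hc : c.Ok) {h : G} (hh : h ∈ c.H) : c.z ∈ hc.imMod h hh :=
  ⟨1, one_mem _, Or.inr (by simp)⟩

theorem Ok.z_mem_fixMod (hc : c.Ok) {h : G} (hh : h ∈ c.H) : c.z ∈ hc.fixMod h :=
  ⟨hc.z_mem, Or.inl (by rw [← c.mem_H.1 hh]; group)⟩

/-- `h` acts as an involution or trivially on `E/⟨z⟩`. -/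
def InvolMod (c : Ctx G A) (h : G) : Prop := ∀ v ∈ c.E, c.Eqz v (h * (h * v * h⁻¹) * h⁻¹)

theorem Ok.involMod_of_sq (hc : c.Ok) {h : G} (h2 : h * h = 1 ∨ h * h = c.z) : c.InvolMod h := by
  intro v hv
  refine Or.inl ?_
  rw [show h * (h * v * h⁻¹) * h⁻¹ = (h * h) * v * (h * h)⁻¹ by group]
  rcases h2 with e | e <;> rw [e]
  · group
  · rw [hc.z_comm hv, mul_inv_cancel_right]

theorem Ok.fixMod_eq (hc : c.Ok) {h : G} (hh : h ∈ c.H) (h2 : c.InvolMod h) :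
    hc.fixMod h = c.E ⊓ centralizer (hc.imMod h hh : Set G) := by
  ext k
  constructor
  · intro hk
    obtain ⟨hkE, hke⟩ := hk
    refine mem_inf.2 ⟨hkE, mem_centralizer_iff.2 ?_⟩
    rintro w ⟨v, hv, e⟩
    have hw := hc.eqz_mem (hc.cm_mem hh hv) e
    refine (commutatorElement_eq_one_iff_mul_comm.1 ?_).symm
    rw [hc.bz_congr_right hkE (hc.cm_mem hh hv) e,
      hc.bz_mul_right hkE hv (hc.conjE hh (inv_mem hv)),
      ← hc.bz_congr_left hkE (hc.conjE hh (inv_mem hv)) hke, hc.bz_conj hh hkE (inv_mem hv),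
      hc.bz_inv_right hkE hv]
    exact hc.bz_sq hkE hv
  · intro hk
    obtain ⟨hkE, hkc⟩ := mem_inf.1 hk
    refine ⟨hkE, ?_⟩
    set u := h * k * h⁻¹ * k⁻¹ with hu
    have hk' := hc.conjE hh hkE
    have huE : u ∈ c.E := mul_mem hk' (inv_mem hkE)
    have hcent : ∀ w ∈ c.E, u * w = w * u := by
      intro w hw
      have hA := hc.conjE hh (inv_mem hw)
      have hcm : ⁅k, w * (h * w⁻¹ * h⁻¹)⁆ = 1 := commutatorElement_eq_one_iff_mul_comm.2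
        (mem_centralizer_iff.1 hkc _ ⟨w, hw, Eqz.refl c _⟩).symm
      rw [hc.bz_mul_right hkE hw hA] at hcm
      have h3 : ⁅h * k * h⁻¹, w⁻¹⁆ = ⁅k, h * w⁻¹ * h⁻¹⁆ := by
        rw [← hc.bz_congr_right hk' (inv_mem hw) (h2 w⁻¹ (inv_mem hw)), hc.bz_conj hh hkE hA]
      refine commutatorElement_eq_one_iff_mul_comm.1 ?_
      rw [hu, hc.bz_mul_left hk' (inv_mem hkE) hw, ← hc.bz_inv_right hk' hw, h3,
        hc.bz_congr_left hkE hw (hc.eqz_inv_self hkE)]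
      rcases hc.bz_one_or hkE hA with e | e <;> rcases hc.bz_one_or hkE hw with f | f <;>
        rw [e, f] at hcm ⊢ <;> first
          | exact one_mul _
          | exact hc.z_sq
          | exact absurd (by simpa using hcm) hc.z_ne
    rcases hc.mem_of_center huE hcent with e | e
    · exact Or.inl (by rw [hu, mul_inv_eq_one] at e; exact e)
    · refine Or.inr ?_
      rw [← e, hu]; group

theorem Ok.card_fix_im (hc : c.Ok) {h : G} (hh : h ∈ c.H) (h2 : c.InvolMod h) :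
    Nat.card (hc.fixMod h) * Nat.card (hc.imMod h hh) = 2 ^ 14 := by
  rw [hc.fixMod_eq hh h2]
  exact hc.card_cent _ (hc.imMod_le hh) (hc.z_mem_imMod hh)

theorem Ok.imMod_le_fixMod (hc : c.Ok) {h : G} (hh : h ∈ c.H) (h2 : c.InvolMod h) :
    hc.imMod h hh ≤ hc.fixMod h := by
  rintro w ⟨v, hv, e⟩
  have hA := hc.conjE hh (inv_mem hv)
  refine ⟨hc.eqz_mem (hc.cm_mem hh hv) e, ?_⟩
  have h1 : c.Eqz (v * (h * v⁻¹ * h⁻¹)) (h * (v * (h * v⁻¹ * h⁻¹)) * h⁻¹) := by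
    rw [show h * (v * (h * v⁻¹ * h⁻¹)) * h⁻¹ = (h * v * h⁻¹) * (h * (h * v⁻¹ * h⁻¹) * h⁻¹) by group]
    have e1 : c.Eqz (h * v⁻¹ * h⁻¹) (h * v * h⁻¹) := by
      rw [show h * v⁻¹ * h⁻¹ = (h * v * h⁻¹)⁻¹ by group]
      exact hc.eqz_symm (hc.eqz_inv_self (hc.conjE hh hv))
    refine hc.eqz_trans (hc.eqz_comm hA hv) ?_
    exact hc.eqz_mul (hc.le_H hA) e1 (hc.eqz_trans (hc.eqz_inv_self hv) (h2 v⁻¹ (inv_mem hv)))
  exact hc.eqz_trans (hc.eqz_symm e) (hc.eqz_trans h1 (hc.eqz_conj hh e))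

/-! ### The action of `P` -/

theorem Ok.P_pow (hc : c.Ok) {p : G} (hp : p ∈ c.P) : p * p * p = 1 := by
  rw [← pow_three', ← orderOf_dvd_iff_pow_eq_one]
  exact hc.cardP ▸ Subgroup.orderOf_dvd_natCard c.P hp

/-- `P` acts without fixed points on `E/⟨z⟩`. -/
theorem Ok.fpf (hc : c.Ok) {p v : G} (hp : p ∈ c.P) (hp1 : p ≠ 1) (hv : v ∈ c.E)
    (e : c.Eqz v (p * v * p⁻¹)) : v ∈ zpowers c.z := by
  haveI : Fact (Nat.Prime 3) := ⟨Nat.prime_three⟩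
  have hpH := hc.P_le hp
  have h1 : p * v * p⁻¹ = v := by
    rcases e with e | e
    · exact e
    · exfalso
      have h2 : p * (p * v * p⁻¹) * p⁻¹ = v := by
        rw [e, show p * (c.z * v) * p⁻¹ = p * c.z * p⁻¹ * (p * v * p⁻¹) by group, e,
          ← c.mem_H.1 hpH, mul_inv_cancel_right, ← mul_assoc, hc.z_sq, one_mul]
      have h3 : p * (p * (p * v * p⁻¹) * p⁻¹) * p⁻¹ = v := by
        rw [show p * (p * (p * v * p⁻¹) * p⁻¹) * p⁻¹ = (p * p * p) * v * (p * p * p)⁻¹ by group,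
          hc.P_pow hp]
        group
      rw [h2, e] at h3
      exact hc.z_ne (mul_right_cancel (h3.trans (one_mul v).symm))
  refine hc.fixP v hv fun q hq => ?_
  rw [← PGroups.zpowers_eq_of_card_eq hc.cardP hp hp1, mem_zpowers_iff] at hq
  obtain ⟨k, rfl⟩ := hq
  have : Commute p v := by
    calc p * v = p * v * p⁻¹ * p := by group
      _ = v * p := by rw [h1]
  exact (this.zpow_left k).eq

theorem Ok.orbit_prod (hc : c.Ok) {p v : G} (hp : p ∈ c.P) (hp1 : p ≠ 1) (hv : v ∈ c.E) :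
    c.Eqz 1 (v * (p * v * p⁻¹) * (p * (p * v * p⁻¹) * p⁻¹)) := by
  set X := p * v * p⁻¹ with hX
  set Y := p * X * p⁻¹ with hY
  have hXE : X ∈ c.E := hc.conjE (hc.P_le hp) hv
  have hYE : Y ∈ c.E := hc.conjE (hc.P_le hp) hXE
  rw [hc.eqz_one_iff]
  refine hc.fpf hp hp1 (mul_mem (mul_mem hv hXE) hYE) ?_
  rw [show p * (v * X * Y) * p⁻¹ = (p * v * p⁻¹) * (p * X * p⁻¹) * (p * Y * p⁻¹) by group, ← hX, ← hY,
    show p * Y * p⁻¹ = v by
      rw [hY, hX, show p * (p * (p * v * p⁻¹) * p⁻¹) * p⁻¹ = (p * p * p) * v * (p * p * p)⁻¹ by group,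
        hc.P_pow hp]
      group]
  rw [mul_assoc v X Y]
  exact hc.eqz_comm (mul_mem hXE hYE) hv

/-- A subgroup of `E` containing `z` and normalised by `P`. -/
structure Stable (c : Ctx G A) (X : Subgroup G) : Prop where
  le : X ≤ c.E
  z_mem : c.z ∈ X
  conj : ∀ p ∈ c.P, ∀ x ∈ X, p * x * p⁻¹ ∈ X

/-- If `h` commutes with `P` and acts trivially modulo `z` on a stable subgroup, it centralises it. -/
theorem Ok.ptrick (hc : c.Ok) {X : Subgroup G} (hX : c.Stable X) {h : G} (hh : h ∈ c.C)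
    (ht : ∀ x ∈ X, c.Eqz x (h * x * h⁻¹)) {x : G} (hx : x ∈ X) : h * x = x * h := by
  obtain ⟨p, hp, hp1⟩ : ∃ p ∈ c.P, p ≠ 1 := by
    refine (Subgroup.bot_or_exists_ne_one c.P).resolve_left fun e => ?_
    have := hc.cardP; rw [e, Subgroup.card_bot] at this; omega
  have hhH := (mem_inf.1 hh).1
  have hx1 : p * x * p⁻¹ ∈ X := hX.conj p hp x hx
  have hx2 : p * (p * x * p⁻¹) * p⁻¹ ∈ X := hX.conj p hp _ hx1
  have hφ : ∀ y ∈ X, h * (p * y * p⁻¹) * h⁻¹ * (p * y * p⁻¹)⁻¹ = h * y * h⁻¹ * y⁻¹ := by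
    intro y hy
    have hpc := hc.P_central hp hh
    have e1 : h * (p * y * p⁻¹) * h⁻¹ = p * (h * y * h⁻¹) * p⁻¹ := by
      calc h * (p * y * p⁻¹) * h⁻¹ = (h * p) * y * (h * p)⁻¹ := by group
        _ = p * (h * y * h⁻¹) * p⁻¹ := by rw [← hpc]; group
    rw [e1]
    rcases ht y hy with e | e <;> rw [e]
    · group
    · rw [show p * (c.z * y) * p⁻¹ = p * c.z * p⁻¹ * (p * y * p⁻¹) by group, ← c.mem_H.1 (hc.P_le hp)]
      group
  set φx := h * x * h⁻¹ * x⁻¹ with hφx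
  have hφc : φx = 1 ∨ φx = c.z := hc.eqz_cases (hc.eqz_right_cancel (ht x hx))
  have hfix : h * c.z * h⁻¹ = c.z := by rw [← c.mem_H.1 hhH]; group
  have hw := hc.eqz_cases (hc.orbit_prod hp hp1 (hX.le hx))
  set X₁ := p * x * p⁻¹ with hX₁
  set X₂ := p * X₁ * p⁻¹ with hX₂
  have e0 : h * x * h⁻¹ = φx * x := by rw [hφx]; group
  have e1 : h * X₁ * h⁻¹ = φx * X₁ := by
    have h5 := hφ x hx
    rw [← hX₁, ← hφx] at h5
    rw [← h5]; group
  have e2 : h * X₂ * h⁻¹ = φx * X₂ := by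
    have h5 := hφ X₁ hx1
    have h6 := hφ x hx
    rw [← hX₁, ← hφx] at h6
    rw [← hX₂, h6] at h5
    rw [← h5]; group
  have hW : h * (x * X₁ * X₂) * h⁻¹ = x * X₁ * X₂ := by
    rcases hw with e | e <;> rw [e]
    · group
    · exact hfix
  have hφ1 : φx = 1 := by
    rcases hφc with e | e
    · exact e
    exfalso
    rw [show h * (x * X₁ * X₂) * h⁻¹ = (h * x * h⁻¹) * (h * X₁ * h⁻¹) * (h * X₂ * h⁻¹) by group,
      e0, e1, e2, e] at hW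
    have hzx := hc.z_comm (hX.le hx)
    have hz1 := hc.z_comm (hX.le hx1)
    have : c.z * (x * X₁ * X₂) = x * X₁ * X₂ := by
      refine Eq.trans ?_ hW
      calc c.z * (x * X₁ * X₂) = c.z * x * (c.z * c.z) * X₁ * X₂ := by rw [hc.z_sq]; group
        _ = c.z * x * c.z * (c.z * X₁) * X₂ := by group
        _ = c.z * x * c.z * (X₁ * c.z) * X₂ := by rw [hz1]
        _ = _ := by group
    exact hc.z_ne (mul_right_cancel (this.trans (one_mul _).symm))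
  rw [hφ1, one_mul] at e0
  calc h * x = h * x * h⁻¹ * h := by group
    _ = x * h := by rw [e0]

/-! ### Inner and outer elements -/

theorem Ok.eqz_E_conj (hc : c.Ok) {e x : G} (he : e ∈ c.E) (hx : x ∈ c.E) :
    c.Eqz x (e * x * e⁻¹) := by
  rcases hc.swap he hx with h | h <;> rw [h]
  exacts [Or.inl (by group), Or.inr (by group)]

theorem Ok.linear (hc : c.Ok) (hd : AutData A M) {h : G} (hh : h ∈ c.H) (hM : c.pr h ∈ M) {p v : G}
    (hp : p ∈ c.P) (hv : v ∈ c.E) :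
    c.Eqz (p * (h * v * h⁻¹) * p⁻¹) (h * (p * v * p⁻¹) * h⁻¹) := by
  obtain ⟨e, he, n, hn, rfl⟩ := hc.inner_split hd hh hM
  have hpH := hc.P_le hp
  have hnH := (mem_inf.1 hn).1
  have hnv := hc.conjE hnH hv
  have h1 : c.Eqz (p * (n * v * n⁻¹) * p⁻¹) (e * n * (p * v * p⁻¹) * (e * n)⁻¹) := by
    rw [show e * n * (p * v * p⁻¹) * (e * n)⁻¹ = e * ((n * p) * v * (n * p)⁻¹) * e⁻¹ by group,
      ← hc.P_central hp hn, show (p * n) * v * (p * n)⁻¹ = p * (n * v * n⁻¹) * p⁻¹ by group]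
    exact hc.eqz_E_conj he (hc.conjE hpH hnv)
  refine hc.eqz_trans (hc.eqz_symm (hc.eqz_conj hpH ?_)) h1
  rw [show e * n * v * (e * n)⁻¹ = e * (n * v * n⁻¹) * e⁻¹ by group]
  exact hc.eqz_E_conj he hnv

theorem Ok.semilinear (hc : c.Ok) (hd : AutData A M) {h : G} (hh : h ∈ c.H) (hM : c.pr h ∉ M)
    {p v : G} (hp : p ∈ c.P) (hv : v ∈ c.E) :
    c.Eqz (p⁻¹ * (h * v * h⁻¹) * p) (h * (p * v * p⁻¹) * h⁻¹) := by
  obtain ⟨e, he, n, hn, hnC, rfl⟩ := hc.outer_split hd hh hM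
  have hpH := hc.P_le hp
  have hnH := (mem_inf.1 hn).1
  have hinv := hc.inverts hn hnC hp
  have hnv := hc.conjE hnH hv
  have hnp : n * p = p⁻¹ * n := by rw [← hinv]; group
  have h1 : c.Eqz (p⁻¹ * (n * v * n⁻¹) * p) (e * n * (p * v * p⁻¹) * (e * n)⁻¹) := by
    rw [show e * n * (p * v * p⁻¹) * (e * n)⁻¹ = e * ((n * p) * v * (n * p)⁻¹) * e⁻¹ by group,
      hnp, show (p⁻¹ * n) * v * (p⁻¹ * n)⁻¹ = p⁻¹ * (n * v * n⁻¹) * p by group]
    exact hc.eqz_E_conj he (by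
      simpa using hc.conjE (inv_mem hpH) hnv)
  refine hc.eqz_trans (hc.eqz_symm ?_) h1
  have := hc.eqz_conj (inv_mem hpH) (hc.eqz_E_conj he hnv)
  rwa [inv_inv, show e * (n * v * n⁻¹) * e⁻¹ = e * n * v * (e * n)⁻¹ by group] at this

end Ctx

end Cfsg.Agent.H43.JFour
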