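import Cfsg.Agent.H43.J4.Fus

/-!
# `z` is conjugate to an involution of `C_H(P)` other than itself

The `P`-conjugates of a fused `e ∈ E` lie in `E_e`; a second elementary group of order 32 meeting the first
normaliser suitably yields an element of `E` which is inner and not full at `e`, hence conjugate into the
centraliser of the conjugate of `P`.
-/

set_option autoImplicit false

namespace Cfsg.Agent.H43.JFour

open Subgroup
open scoped commutatorElement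

universe u v

variable {G : Type u} [Group G] [Finite G] {A : Type v} [Group A] {M : Subgroup A}

namespace Ctx

variable {c d : Ctx G A}

/-- An inner involution fixing no more modulo `z` than it centralises is conjugate under `E` into `C`. -/
theorem Ok.inner_into_C (hc : c.Ok) (hd : AutData A M) {h : G} (hh : h ∈ c.H) (h2 : h * h = 1)
    (hM : c.pr h ∈ M) (hfix : hc.fixMod h ≤ c.E ⊓ centralizer ({h} : Set G)) :
    ∃ v ∈ c.E, v * h * v⁻¹ ∈ c.C := by
  obtain ⟨e, he, n, hn, hsn⟩ := hc.inner_split hd hh hM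
  have hnH : n ∈ c.H := hn.1
  have hinv := hc.involMod_of_sq (Or.inl h2)
  have hfn : hc.fixMod h = hc.fixMod n := by rw [hsn, hc.fixMod_mul_left he hnH]
  have hst : c.Stable (hc.fixMod n) := by
    refine ⟨hc.fixMod_le n, hc.z_mem_fixMod hnH, fun q hq x hx => ⟨hc.conjE (hc.P_le hq) hx.1, ?_⟩⟩
    have h1 := hc.eqz_conj (hc.P_le hq) hx.2
    rwa [show q * (n * x * n⁻¹) * q⁻¹ = (q * n) * x * (q * n)⁻¹ by group, hc.P_central hq hn,
      show n * q * x * (n * q)⁻¹ = n * (q * x * q⁻¹) * n⁻¹ by group] at h1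
  have hcent : c.E ⊓ centralizer (hc.fixMod h : Set G) = hc.imMod h hh := by
    symm
    refine Subgroup.eq_of_le_of_card_ge (fun w hw => mem_inf.2 ⟨hc.imMod_le hh hw,
      mem_centralizer_iff.2 fun u hu => ?_⟩) ?_
    · rw [SetLike.mem_coe, hc.fixMod_eq hh hinv] at hu
      exact (mem_centralizer_iff.1 (mem_inf.1 hu).2 w hw).symm
    · have h1 := hc.card_cent (hc.fixMod h) (hc.fixMod_le h) (hc.z_mem_fixMod hh)
      have h3 := hc.card_fix_im hh hinv
      rw [mul_comm] at h3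
      exact le_of_eq (Nat.eq_of_mul_eq_mul_right Nat.card_pos (h1.trans h3.symm))
  have hei : e ∈ hc.imMod h hh := by
    rw [← hcent]
    refine mem_inf.2 ⟨he, mem_centralizer_iff.2 fun u hu => ?_⟩
    have h1 : h * u = u * h := mem_centralizer_iff.1 (mem_inf.1 (hfix hu)).2 h rfl
    have h3 : n * u = u * n := hc.ptrick hst hn (fun x hx => hx.2) (hfn ▸ hu)
    calc u * e = u * (e * n) * n⁻¹ := by group
      _ = (e * n) * u * n⁻¹ := by rw [← hsn, h1]
      _ = e * (n * u) * n⁻¹ := by group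
      _ = e * u := by rw [h3]; group
  obtain ⟨v, hv, ev⟩ := hei
  refine ⟨v, hv, ?_⟩
  have he2 : e * e ∈ c.C := by
    rcases hc.sq_mem he with f | f <;> rw [f]
    exacts [one_mem _, hc.z_mem_C]
  rw [show v * h * v⁻¹ = v * (h * v⁻¹ * h⁻¹) * h by group]
  rcases ev with f | f
  · rw [← f, hsn, ← mul_assoc]; exact mul_mem he2 hn
  · rw [show v * (h * v⁻¹ * h⁻¹) = c.z * e by rw [f, ← mul_assoc c.z c.z, hc.z_sq, one_mul], hsn,
      show c.z * e * (e * n) = c.z * (e * e * n) by group]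
    exact mul_mem hc.z_mem_C (mul_mem he2 hn)

namespace Duo

variable (π : Duo c d)
include π

/-- The `P`-conjugates of `e` lie in `E_e`. -/
theorem conj_P_inf (hd : AutData A M) {q : G} (hq : q ∈ c.P) : q * d.z * q⁻¹ ∈ d.E := by
  rcases eq_or_ne q 1 with rfl | hq1
  · simpa using π.hd'.z_mem
  have hzd := π.z_mem hd
  have hqH := π.hc.P_le hq
  set u := q * d.z * q⁻¹ with hu
  have huE : u ∈ c.E := π.hc.conjE hqH π.mem
  have hu2 : u * u = 1 := by
    rw [hu, show q * d.z * q⁻¹ * (q * d.z * q⁻¹) = q * (d.z * d.z) * q⁻¹ by group, π.hd'.z_sq]; group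
  set t := q * u * q⁻¹ with ht
  have ht2 : t * t = 1 := by
    rw [ht, show q * u * q⁻¹ * (q * u * q⁻¹) = q * (u * u) * q⁻¹ by group, hu2]; group
  have horb : c.Eqz t (d.z * u) := by
    rcases π.hc.eqz_cases (π.hc.orbit_prod hq hq1 π.mem) with f | f
    · refine Or.inl ?_
      rw [← inv_eq_of_mul_eq_one_left ht2]; exact eq_inv_of_mul_eq_one_left f
    · refine Or.inr ?_
      calc d.z * u = d.z * u * t * t⁻¹ := by group
        _ = c.z * t := by rw [show d.z * u * t = c.z from f, inv_eq_of_mul_eq_one_left ht2]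
  have hdu : (d.z * u) * (d.z * u) = 1 := by
    rcases horb with f | f <;> rw [f]
    · exact ht2
    · calc c.z * t * (c.z * t) = c.z * (t * c.z) * t := by group
        _ = c.z * (c.z * t) * t := by rw [π.hc.z_comm (π.hc.conjE hqH huE)]
        _ = (c.z * c.z) * (t * t) := by group
        _ = 1 := by rw [π.hc.z_sq, ht2, one_mul]
  have hcomm : d.z * u = u * d.z := by
    rw [← inv_eq_of_mul_eq_one_right hdu, _root_.mul_inv_rev, π.hd'.z_inv, inv_eq_of_mul_eq_one_left hu2]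
  have huC : u ∈ Cs c d := π.mem_Cs.2 ⟨huE, hcomm⟩
  have huH := π.Cs_le_H huC
  have heqz : ∀ {a b : G}, a ∈ d.H → c.Eqz a b → d.pr b = d.pr a := by
    intro a b ha hab
    rcases hab with rfl | rfl
    · rfl
    · rw [π.hd'.pr_mul _ (π.hd'.le_H hzd) _ ha, π.hd'.pr_E hzd, one_mul]
  obtain ⟨x, p, tr⟩ := π.hd'.exists_trip hd
  obtain ⟨hS, -⟩ := (π.symm hd).main hd tr
  refine (π.hd'.ker_two huH (by rw [hu2, one_mul])).1 ?_
  refine hd.R_fix _ (π.isR hd) _ (π.hd'.pr_mem_img π.Cs_le_H huC) fun α hα => ?_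
  rw [← hS] at hα
  obtain ⟨n, hn, rfl⟩ := (π.symm hd).mem_Stb.1 hα
  obtain ⟨hnd, hnc⟩ := mem_inf.1 hn
  rw [← π.hd'.pr_conj hnd huH]
  obtain ⟨v, hv, m, hm, hnv⟩ := π.hc.frattini hnc
  have hmH : m ∈ c.H := hm.1
  have hne : n * d.z * n⁻¹ = d.z := by rw [← d.mem_H.1 hnd]; group
  have hme : c.Eqz (m * d.z * m⁻¹) d.z := by
    have h1 := π.hc.eqz_E_conj hv (π.hc.conjE hmH π.mem)
    rwa [show v * (m * d.z * m⁻¹) * v⁻¹ = (v * m) * d.z * (v * m)⁻¹ by group, ← hnv, hne] at h1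
  have hmu : c.Eqz (m * u * m⁻¹) (n * u * n⁻¹) := by
    have h1 := π.hc.eqz_E_conj hv (π.hc.conjE hmH huE)
    rwa [show v * (m * u * m⁻¹) * v⁻¹ = (v * m) * u * (v * m)⁻¹ by group, ← hnv] at h1
  have hmu' : ∀ {r : G}, r ∈ c.P → m * q * m⁻¹ = r → c.Eqz (r * d.z * r⁻¹) (n * u * n⁻¹) := by
    intro r hr e
    refine π.hc.eqz_trans (π.hc.eqz_symm ?_) hmu
    have h1 := π.hc.eqz_conj (π.hc.P_le hr) hme
    rwa [show r * (m * d.z * m⁻¹) * r⁻¹ = m * u * m⁻¹ by rw [hu, ← e]; group] at h1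
  by_cases hmC : m ∈ c.C
  · exact heqz huH (hmu' hq (by rw [← π.hc.P_central hq hmC]; group))
  · have h2 := hmu' (inv_mem hq) (π.hc.inverts hm hmC hq)
    have h3 : q⁻¹ * d.z * q⁻¹⁻¹ = t := by
      have e3 : q⁻¹ = q * q := inv_eq_of_mul_eq_one_left (π.hc.P_pow hq)
      rw [e3, ht, hu]; group
    rw [h3] at h2
    rw [heqz (mul_mem π.hd'.z_mem_H huH) (π.hc.eqz_trans (π.hc.eqz_symm horb) h2),
      π.hd'.pr_mul _ π.hd'.z_mem_H _ huH, π.hd'.pr_E π.hd'.z_mem, one_mul]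

/-- The elements of `C_{E_e}(z)` over a subgroup of `A`. -/
def Pre (S : Subgroup A) : Subgroup G :=
  Cs d c ⊓ (S.comap π.hc.prHom).map c.H.subtype

theorem mem_Pre {S : Subgroup A} {u : G} (hd : AutData A M) :
    u ∈ π.Pre S ↔ u ∈ Cs d c ∧ c.pr u ∈ S := by
  unfold Pre
  rw [mem_inf]
  constructor
  · rintro ⟨h1, ⟨v, hv⟩, hv', rfl⟩
    exact ⟨h1, hv'⟩
  · rintro ⟨h1, h2⟩
    exact ⟨h1, ⟨⟨u, (π.symm hd).Cs_le_H h1⟩, h2, rfl⟩⟩

theorem card_Pre (hd : AutData A M) (S : Subgroup A) :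
    Nat.card ↥(π.Pre S) = Nat.card ↥(π.hc.img (Cs d c) ⊓ S) * 2 ^ 7 := by
  have σ := π.symm hd
  have hle : π.Pre S ≤ c.H := inf_le_left.trans σ.Cs_le_H
  have h := π.hc.card_img hle fun x hx => π.hd'.sq_sq (σ.mem_Cs.1 (mem_inf.1 hx).1).1
  have h1 : π.hc.img (π.Pre S) = π.hc.img (Cs d c) ⊓ S := by
    ext α
    rw [π.hc.mem_img hle, mem_inf, π.hc.mem_img σ.Cs_le_H]
    constructor
    · rintro ⟨u, hu, rfl⟩
      exact ⟨⟨u, ((π.mem_Pre hd).1 hu).1, rfl⟩, ((π.mem_Pre hd).1 hu).2⟩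
    · rintro ⟨⟨u, hu, rfl⟩, hS⟩
      exact ⟨u, (π.mem_Pre hd).2 ⟨hu, hS⟩, rfl⟩
  have h2 : π.Pre S ⊓ c.E = c.E ⊓ d.E := by
    ext u
    rw [mem_inf, π.mem_Pre hd, σ.mem_Cs, mem_inf]
    refine ⟨fun h => ⟨h.2, h.1.1.1⟩, fun h => ⟨⟨⟨h.2, π.hc.z_comm h.1⟩, ?_⟩, h.1⟩⟩
    rw [π.hc.pr_E h.1]; exact one_mem _
  rw [h1, h2, π.card_inf hd] at h
  exact h.symm

end Duo

/-- **`z` is conjugate to an involution of `C` other than itself.** -/
theorem Ok.exists_invol_C (hc : c.Ok) (hd : AutData A M) [IsSimpleGroup G] (hG : ¬ IsMulCommutative G) :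
    ∃ r ∈ c.C, r ≠ c.z ∧ IsConj c.z r := by
  classical
  obtain ⟨e, he, hne, hcj⟩ := hc.exists_fused hd hG
  obtain ⟨g, hg⟩ := isConj_iff.1 hcj
  subst hg
  set d := c.conj g with hddef
  have π : Duo c d := ⟨hc, hc.conj g, he, hne⟩
  have hd' := π.hd'
  have hzd := π.z_mem hd
  have σ := π.symm hd
  obtain ⟨x, p, t⟩ := hc.exists_trip hd
  obtain ⟨hS, -⟩ := π.main hd t
  set R := hc.img (Cs d c) with hRdef
  have hR : IsR R := σ.isR hd
  obtain ⟨R', hR', hne', h16, h8⟩ := hd.R_pair R hR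
  obtain ⟨α, hα⟩ := hd.R_conj R R' hR hR'
  obtain ⟨h, hh, hhα⟩ := hc.pr_surj α
  set e' := h * d.z * h⁻¹ with he'
  have he'E : e' ∈ c.E := hc.conjE hh π.mem
  have he'S := π.orb_sing ⟨h, hh, rfl⟩
  -- elements over `N(R')` move `e'` within its point
  have hpoint : ∀ y ∈ c.H, c.pr y ∈ normalizer (R' : Set A) →
      ∃ r ∈ c.P, c.Eqz (r * e' * r⁻¹) (y * e' * y⁻¹) := by
    intro y hy hN
    rw [← hα, ← Subgroup.map_equiv_normalizer_eq, Ctx.mem_conj_map, ← hS] at hN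
    obtain ⟨m, hm, em⟩ := π.mem_Stb.1 hN
    obtain ⟨hm1, hm2⟩ := mem_inf.1 hm
    have hk : y * (h * m⁻¹ * h⁻¹) ∈ c.E ⊔ c.P := by
      refine (hc.pr_ker _ (mul_mem hy (mul_mem (mul_mem hh (inv_mem hm1)) (inv_mem hh)))).1 ?_
      rw [hc.pr_mul _ hy _ (mul_mem (mul_mem hh (inv_mem hm1)) (inv_mem hh)), hc.pr_conj hh (inv_mem hm1),
        hc.pr_inv hm1, em, hhα]
      group
    obtain ⟨v, hv, r, hr, e⟩ := exists_mul_of_mem_sup hc.P_norm hk
    refine ⟨r, hr, ?_⟩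
    have hy' : y = v * r * (h * m * h⁻¹) := by rw [← e]; group
    have hmd : m * d.z * m⁻¹ = d.z := by rw [← d.mem_H.1 hm2]; group
    have h1 := hc.eqz_E_conj hv (hc.conjE (hc.P_le hr) he'E)
    rwa [show v * (r * e' * r⁻¹) * v⁻¹ = y * e' * y⁻¹ by
      rw [hy', he', show v * r * (h * m * h⁻¹) * (h * d.z * h⁻¹) * (v * r * (h * m * h⁻¹))⁻¹ =
        v * (r * (h * (m * d.z * m⁻¹) * h⁻¹) * r⁻¹) * v⁻¹ by group, hmd]] at h1
  have hqq : ∀ {q : G}, q ∈ c.P → ∀ {w : G}, w ∈ c.E → w ∉ zpowers c.z → c.Eqz w (q * w * q⁻¹) → q = 1 := by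
    intro q hq w hw hnw h1
    by_contra hq1
    exact hnw (hc.fpf hq hq1 hw h1)
  have he'n : e' ∉ zpowers c.z := fun h1 => by
    rcases hc.mem_zp.1 h1 with f | f
    exacts [he'S.2.2.1 f, he'S.2.2.2 f]
  -- the elements over `M ⊓ N(R')` fix the whole point
  have hinner : ∀ y ∈ Cs d c, c.pr y ∈ M → c.pr y ∈ normalizer (R' : Set A) → ∀ q ∈ c.P,
      c.Eqz (q * e' * q⁻¹) (y * (q * e' * q⁻¹) * y⁻¹) := by
    intro y hy hM hN q hq
    have hyH := σ.Cs_le_H hy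
    obtain ⟨r, hr, hre⟩ := hpoint y hyH hN
    have hr1 : r = 1 := by
      have h2 : c.Eqz e' (y * (y * e' * y⁻¹) * y⁻¹) := by
        rw [show y * (y * e' * y⁻¹) * y⁻¹ = (y * y) * e' * (y * y)⁻¹ by group]
        rcases hd'.sq_mem (σ.mem_Cs.1 hy).1 with f | f <;> rw [f]
        · exact Or.inl (by group)
        · exact hc.eqz_E_conj π.mem he'E
      have h3 := hc.eqz_conj hyH hre
      have h4 := hc.linear hd hyH hM hr he'E
      have h5 := hc.eqz_conj (hc.P_le hr) hre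
      have h6 : c.Eqz e' (r * (r * e' * r⁻¹) * r⁻¹) :=
        hc.eqz_trans h2 (hc.eqz_trans (hc.eqz_symm h3) (hc.eqz_trans (hc.eqz_symm h4) (hc.eqz_symm h5)))
      rw [show r * (r * e' * r⁻¹) * r⁻¹ = (r * r) * e' * (r * r)⁻¹ by group] at h6
      have h7 := hqq (mul_mem hr hr) he'E he'n h6
      have h8 := hc.P_pow hr
      rwa [h7, one_mul] at h8
    subst hr1
    rw [show (1 : G) * e' * 1⁻¹ = e' by group] at hre
    exact hc.eqz_trans (hc.eqz_conj (hc.P_le hq) hre) (hc.linear hd hyH hM hq he'E)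
  -- an outer element
  obtain ⟨y₀, hy₀, hN₀, hM₀⟩ : ∃ y ∈ Cs d c, c.pr y ∈ normalizer (R' : Set A) ∧ c.pr y ∉ M := by
    by_contra hno
    push Not at hno
    have hle : R ⊓ normalizer (R' : Set A) ≤ R ⊓ M ⊓ normalizer (R' : Set A) := by
      intro β hβ
      obtain ⟨hβR, hβN⟩ := mem_inf.1 hβ
      obtain ⟨y, hy, rfl⟩ := (hc.mem_img σ.Cs_le_H).1 hβR
      exact mem_inf.2 ⟨mem_inf.2 ⟨hβR, hno y hy hβN⟩, hβN⟩
    haveI := hd.finite
    have := Nat.le_of_dvd Nat.card_pos (Subgroup.card_dvd_of_le hle)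
    rw [h16, h8] at this
    omega
  have hy₀H := σ.Cs_le_H hy₀
  obtain ⟨r₀, hr₀, hre₀⟩ := hpoint y₀ hy₀H hN₀
  set q₀ := r₀ * r₀ with hq₀def
  have hq₀ : q₀ ∈ c.P := mul_mem hr₀ hr₀
  have hq₀i : q₀⁻¹ = r₀ := inv_eq_of_mul_eq_one_right (hc.P_pow hr₀)
  set w₀ := q₀ * e' * q₀⁻¹ with hw₀def
  have hw₀E : w₀ ∈ c.E := hc.conjE (hc.P_le hq₀) he'E
  have hfix₀ : c.Eqz w₀ (y₀ * w₀ * y₀⁻¹) := by
    have h1 := hc.semilinear hd hy₀H hM₀ hq₀ he'E
    have h2 := hc.eqz_conj (inv_mem (hc.P_le hq₀)) hre₀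
    rw [inv_inv] at h2
    rw [show q₀⁻¹ * (r₀ * e' * r₀⁻¹) * q₀ = w₀ by
      rw [hw₀def, hq₀i]
      calc r₀ * (r₀ * e' * r₀⁻¹) * q₀ = q₀ * e' * (r₀⁻¹ * q₀) := by rw [hq₀def]; group
        _ = q₀ * e' * r₀ := by rw [hq₀def]; group] at h2
    exact hc.eqz_trans h2 h1
  set Y := π.Pre (normalizer (R' : Set A)) with hYdef
  have hY : ∀ y ∈ Y, c.Eqz w₀ (y * w₀ * y⁻¹) := by
    intro y hy
    obtain ⟨hyC, hyN⟩ := (π.mem_Pre hd).1 hy
    by_cases hM : c.pr y ∈ M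
    · exact hinner y hyC hM hyN q₀ hq₀
    · have hy' : y₀⁻¹ * y ∈ Cs d c := mul_mem (inv_mem hy₀) hyC
      have hpr : c.pr (y₀⁻¹ * y) = (c.pr y₀)⁻¹ * c.pr y := by
        rw [hc.pr_mul _ (inv_mem hy₀H) _ (σ.Cs_le_H hyC), hc.pr_inv hy₀H]
      have h1 := hinner (y₀⁻¹ * y) hy'
        (by rw [hpr, Subgroup.mul_mem_iff_of_index_two hd.index, inv_mem_iff]; tauto)
        (by rw [hpr]; exact mul_mem (inv_mem hN₀) hyN) q₀ hq₀
      have h2 := hc.eqz_conj hy₀H h1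
      rw [show y₀ * (y₀⁻¹ * y * (q₀ * e' * q₀⁻¹) * (y₀⁻¹ * y)⁻¹) * y₀⁻¹ = y * w₀ * y⁻¹ by
        rw [hw₀def]; group] at h2
      exact hc.eqz_trans hfix₀ h2
  -- exact centralisers
  have hexact : ∀ {w : G} (S : Subgroup A), w ∈ c.E → (∀ y ∈ π.Pre S, c.Eqz w (y * w * y⁻¹)) →
      Nat.card ↥(π.Pre S) ≤ 2 * Nat.card ↥(π.Pre S ⊓ centralizer ({w} : Set G)) := by
    intro w S hw hall
    refine card_le_two_mul_cent _ w fun u hu v hv hu' hv' => ?_
    have key : ∀ {u : G}, u ∈ π.Pre S → u * w ≠ w * u → u * w = c.z * (w * u) := by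
      intro u hu hn
      rcases hall u hu with f | f
      · exfalso; apply hn
        calc u * w = u * w * u⁻¹ * u := by group
          _ = w * u := by rw [f]
      · calc u * w = u * w * u⁻¹ * u := by group
          _ = c.z * (w * u) := by rw [f]; group
    have hzu : c.z * u = u * c.z := c.mem_H.1 (σ.Cs_le_H (mem_inf.1 hu).1)
    calc u * v * w = u * (v * w) := by group
      _ = (u * c.z) * w * v := by rw [key hv hv']; group
      _ = c.z * (u * w) * v := by rw [← hzu]; group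
      _ = (c.z * c.z) * (w * (u * v)) := by rw [key hu hu']; group
      _ = w * (u * v) := by rw [hc.z_sq, one_mul]
  have hYcard : Nat.card ↥Y = 2 ^ 11 := by rw [hYdef, π.card_Pre hd, h16]; norm_num
  have hY0 : 2 ^ 10 ≤ Nat.card ↥(Y ⊓ centralizer ({w₀} : Set G)) := by
    have := hexact (normalizer (R' : Set A)) hw₀E hY
    rw [← hYdef, hYcard] at this
    omega
  -- `w₀` centralises `e`
  have hw₀e : d.z * w₀ = w₀ * d.z := by
    rcases hc.swap hw₀E π.mem with f | f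
    · exact f.symm
    exfalso
    have hdz : (d.conj w₀).z = c.z * d.z := by
      show w₀ * d.z * w₀⁻¹ = _
      rw [f]; group
    have ρ : Duo d (d.conj w₀) := ⟨hd', hd'.conj w₀, hdz ▸ mul_mem hzd hd'.z_mem, fun h1 => by
      rw [hdz] at h1; exact hc.z_ne (mul_eq_right.1 h1)⟩
    have hle : Y ⊓ centralizer ({w₀} : Set G) ≤ d.E ⊓ (d.conj w₀).E := by
      intro u hu
      obtain ⟨hu1, hu2⟩ := mem_inf.1 hu
      have huE := (σ.mem_Cs.1 ((π.mem_Pre hd).1 hu1).1).1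
      refine mem_inf.2 ⟨huE, (mem_conj_map d.E w₀ u).2 ?_⟩
      rw [show w₀⁻¹ * u * w₀ = u by rw [mul_assoc, ← mem_centralizer_iff.1 hu2 w₀ rfl]; group]
      exact huE
    have := Nat.le_of_dvd Nat.card_pos (Subgroup.card_dvd_of_le hle)
    rw [ρ.card_inf hd] at this
    omega
  have hw₀H : w₀ ∈ d.H := d.mem_H.2 hw₀e
  have hw₀2 : w₀ * w₀ = 1 := by
    rw [hw₀def, show q₀ * e' * q₀⁻¹ * (q₀ * e' * q₀⁻¹) = q₀ * (e' * e') * q₀⁻¹ by group, he'S.2.1]; group
  have hfixle : ∀ {w : G} (S : Subgroup A), π.Pre S ⊓ centralizer ({w} : Set G) ≤ hd'.fixMod w := by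
    intro w S u hu
    obtain ⟨hu1, hu2⟩ := mem_inf.1 hu
    exact ⟨(σ.mem_Cs.1 ((π.mem_Pre hd).1 hu1).1).1, Or.inl (by rw [mem_centralizer_iff.1 hu2 w rfl]; group)⟩
  have hw₀d : w₀ ∈ d.E := by
    refine (hd'.ker_two hw₀H (by rw [hw₀2, one_mul])).1 ?_
    by_contra hn1
    have hle := hfixle (w := w₀) (normalizer (R' : Set A))
    have hcard := Nat.le_of_dvd Nat.card_pos (Subgroup.card_dvd_of_le hle)
    rw [hYdef] at hY0
    by_cases hM : d.pr w₀ ∈ M
    · rw [(hd'.card_fix_inner hd hw₀H hM hn1 (Or.inl hw₀2)).1] at hcard; omega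
    · rw [(hd'.card_fix_outer hd hw₀H hM (hd'.involMod_of_sq (Or.inl hw₀2))).1] at hcard; omega
  -- the whole point centralises `e`
  have hpe : ∀ q ∈ c.P, d.z * (q * e' * q⁻¹) = q * e' * q⁻¹ * d.z := by
    intro q hq
    set s := q * q₀⁻¹ with hs
    have hsP : s ∈ c.P := mul_mem hq (inv_mem hq₀)
    have h1 : w₀ * (s⁻¹ * d.z * s) = (s⁻¹ * d.z * s) * w₀ := by
      refine π.inf_elem.2 _ (mem_inf.2 ⟨hw₀E, hw₀d⟩) _ (mem_inf.2 ⟨?_, ?_⟩)
      · simpa using hc.conjE (inv_mem (hc.P_le hsP)) π.mem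
      · simpa using π.conj_P_inf hd (inv_mem hsP)
    calc d.z * (q * e' * q⁻¹) = s * ((s⁻¹ * d.z * s) * w₀) * s⁻¹ := by rw [hs, hw₀def]; group
      _ = s * (w₀ * (s⁻¹ * d.z * s)) * s⁻¹ := by rw [h1]
      _ = q * e' * q⁻¹ * d.z := by rw [hs, hw₀def]; group
  -- the point is not inside `E_e`
  obtain ⟨q, hq, hnin⟩ : ∃ q ∈ c.P, q * e' * q⁻¹ ∉ d.E := by
    by_contra hall
    push Not at hall
    have hfix : R ⊓ M ≤ R ⊓ M ⊓ normalizer (R' : Set A) := by
      intro β hβ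
      obtain ⟨hβR, hβM⟩ := mem_inf.1 hβ
      obtain ⟨y, hy, rfl⟩ := (hc.mem_img σ.Cs_le_H).1 hβR
      refine mem_inf.2 ⟨hβ, ?_⟩
      have hyH := σ.Cs_le_H hy
      have hyE := (σ.mem_Cs.1 hy).1
      obtain ⟨p, hp, hp1⟩ := hc.exists_p
      have he'd : e' ∈ d.E := by simpa using hall 1 (one_mem _)
      have hcases : ∀ {a : G}, a ∈ d.E → y * a * y⁻¹ = a ∨ y * a * y⁻¹ = d.z * a := by
        intro a ha
        rcases hd'.swap hyE ha with f | f
        · left; rw [f]; group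
        · right; rw [f]; group
      have hye : y * e' * y⁻¹ = e' := by
        rcases hcases he'd with f | f
        · exact f
        exfalso
        have h1 := hc.linear hd hyH hβM hp he'E
        rw [f, show p * (d.z * e') * p⁻¹ = (p * d.z * p⁻¹) * (p * e' * p⁻¹) by group] at h1
        have hpe'E := hc.conjE (hc.P_le hp) he'E
        have hnz : ∀ {a : G}, a ∈ zpowers c.z → a ≠ d.z := by
          intro a ha h2
          rcases hc.mem_zp.1 ha with g1 | g1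
          exacts [hd'.z_ne (h2.symm.trans g1), π.ne (h2.symm.trans g1)]
        rcases hcases (hall p hp) with g1 | g1 <;> rw [g1] at h1
        · have h2 : c.Eqz (p * d.z * p⁻¹) 1 := by
            rcases h1 with k | k
            · exact Or.inl (mul_eq_right.1 k.symm).symm
            · refine Or.inr (mul_right_cancel (b := p * e' * p⁻¹) ?_)
              rw [one_mul]; exact k.trans (mul_assoc _ _ _).symm
          rcases hc.eqz_cases (hc.eqz_symm h2) with k | k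
          · exact hd'.z_ne (by
              calc d.z = p⁻¹ * (p * d.z * p⁻¹) * p := by group
                _ = 1 := by rw [k]; group)
          · exact π.ne (by
              calc d.z = p⁻¹ * (p * d.z * p⁻¹) * p := by group
                _ = c.z := by rw [k, ← c.mem_H.1 (inv_mem (hc.P_le hp))]; group)
        · have h2 : c.Eqz (p * d.z * p⁻¹) d.z := by
            rcases h1 with k | k
            · exact Or.inl (mul_right_cancel k)
            · exact Or.inr (mul_right_cancel (b := p * e' * p⁻¹) (k.trans (mul_assoc _ _ _).symm))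
          exact hnz (hc.fpf hp hp1 π.mem (hc.eqz_symm h2)) rfl
      rw [← hα, ← Subgroup.map_equiv_normalizer_eq, Ctx.mem_conj_map, ← hS]
      have hm : h⁻¹ * y * h ∈ c.H := mul_mem (mul_mem (inv_mem hh) hyH) hh
      have h2 := π.stab_mem hm (Or.inl (by
        calc h⁻¹ * y * h * d.z * (h⁻¹ * y * h)⁻¹ = h⁻¹ * (y * e' * y⁻¹) * h := by rw [he']; group
          _ = d.z := by rw [hye, he']; group))
      rwa [hc.pr_mul _ (mul_mem (inv_mem hh) hyH) _ hh, hc.pr_mul _ (inv_mem hh) _ hyH, hc.pr_inv hh,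
        hhα] at h2
    haveI := hd.finite
    have := Nat.le_of_dvd Nat.card_pos (Subgroup.card_dvd_of_le hfix)
    rw [h8, R_inf_card hd hR] at this
    omega
  -- `w` is inner and not full at `e`
  set w := q * e' * q⁻¹ with hwdef
  have hwE : w ∈ c.E := hc.conjE (hc.P_le hq) he'E
  have hwH : w ∈ d.H := d.mem_H.2 (hpe q hq)
  have hw2 : w * w = 1 := by
    rw [hwdef, show q * e' * q⁻¹ * (q * e' * q⁻¹) = q * (e' * e') * q⁻¹ by group, he'S.2.1]; group
  have hn1 : d.pr w ≠ 1 := fun h1 => hnin ((hd'.ker_two hwH (by rw [hw2, one_mul])).1 h1)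
  set S8 := M ⊓ normalizer (R' : Set A) with hS8
  have hY8 : 2 ^ 9 ≤ Nat.card ↥(π.Pre S8 ⊓ centralizer ({w} : Set G)) := by
    have h1 := hexact S8 hwE fun y hy => by
      obtain ⟨hy1, hy2⟩ := (π.mem_Pre hd).1 hy
      exact hinner y hy1 (mem_inf.1 hy2).1 (mem_inf.1 hy2).2 q hq
    rw [π.card_Pre hd, hS8, ← hRdef, ← inf_assoc, h8] at h1
    rw [hS8]; omega
  have hcard := hY8.trans (Nat.le_of_dvd Nat.card_pos (Subgroup.card_dvd_of_le (hfixle (w := w) S8)))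
  have hM : d.pr w ∈ M := by
    by_contra hM
    rw [(hd'.card_fix_outer hd hwH hM (hd'.involMod_of_sq (Or.inl hw2))).1] at hcard; omega
  have hfix9 := (hd'.card_fix_inner hd hwH hM hn1 (Or.inl hw2)).1
  have heq : π.Pre S8 ⊓ centralizer ({w} : Set G) = hd'.fixMod w :=
    Subgroup.eq_of_le_of_card_ge (hfixle S8) (by rw [hfix9]; exact hY8)
  obtain ⟨v, hv, hvw⟩ := hd'.inner_into_C hd hwH hw2 hM (by
    rw [← heq]
    exact fun u hu => mem_inf.2 ⟨(σ.mem_Cs.1 ((π.mem_Pre hd).1 (mem_inf.1 hu).1).1).1, (mem_inf.1 hu).2⟩)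
  rw [hddef, conj_C, mem_conj_map] at hvw
  refine ⟨g⁻¹ * (v * w * v⁻¹) * g, hvw, fun h1 => hnin ?_, ?_⟩
  · have h2 : v * w * v⁻¹ = d.z := by
      calc v * w * v⁻¹ = g * (g⁻¹ * (v * w * v⁻¹) * g) * g⁻¹ := by group
        _ = d.z := by rw [h1]; rfl
    have h3 : w = d.z := by
      calc w = v⁻¹ * (v * w * v⁻¹) * v := by group
        _ = v⁻¹ * (d.z * v) := by rw [h2]; group
        _ = d.z := by rw [hd'.z_comm hv]; group
    rw [h3]; exact hd'.z_mem
  · have c1 : IsConj c.z e' := (isConj_iff.2 ⟨h * g, by rw [he']; show _ = h * (g * c.z * g⁻¹) * h⁻¹; group⟩)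
    exact c1.trans (isConj_iff.2 ⟨g⁻¹ * v * q, by rw [hwdef]; group⟩)

end Ctx

end Cfsg.Agent.H43.JFour
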