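import Cfsg.Agent.H43.J4.RankMain

/-!
# Images in `A` of subgroups of `H`
-/

set_option autoImplicit false

namespace Cfsg.Agent.H43.JFour

open Subgroup
open scoped commutatorElement

universe u v

variable {G : Type u} [Group G] [Finite G] {A : Type v} [Group A] {M : Subgroup A} {c : Ctx G A}

namespace Ctx

/-- The image in `A` of a subgroup of `H`. -/
def Ok.img (hc : c.Ok) (X : Subgroup G) : Subgroup A := (X.subgroupOf c.H).map hc.prHom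

theorem Ok.mem_img (hc : c.Ok) {X : Subgroup G} (hX : X ≤ c.H) {α : A} :
    α ∈ hc.img X ↔ ∃ x ∈ X, c.pr x = α := by
  constructor
  · rintro ⟨x, hx, rfl⟩; exact ⟨x, hx, rfl⟩
  · rintro ⟨x, hx, rfl⟩; exact ⟨⟨x, hX hx⟩, hx, rfl⟩

theorem Ok.pr_mem_img (hc : c.Ok) {X : Subgroup G} (hX : X ≤ c.H) {x : G} (hx : x ∈ X) :
    c.pr x ∈ hc.img X := (hc.mem_img hX).2 ⟨x, hx, rfl⟩

/-- The kernel of the projection on a subgroup whose elements satisfy `x⁴ = 1` is its meet with `E`. -/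
theorem Ok.ker_two (hc : c.Ok) {x : G} (hx : x ∈ c.H) (h4 : x * x * (x * x) = 1) :
    c.pr x = 1 ↔ x ∈ c.E :=
  ⟨fun h => hc.mem_E_of_pow ((hc.pr_ker x hx).1 h) (k := 2)
    (by rw [show (2 : ℕ) ^ 2 = 2 + 2 by norm_num, pow_add, sq]; exact h4), hc.pr_E⟩

theorem Ok.card_img (hc : c.Ok) {X : Subgroup G} (hX : X ≤ c.H)
    (h4 : ∀ x ∈ X, x * x * (x * x) = 1) :
    Nat.card (hc.img X) * Nat.card ↥(X ⊓ c.E) = Nat.card X := by
  let f : X →* A := hc.prHom.comp (Subgroup.inclusion hX)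
  have hr : f.range = hc.img X := by
    ext α
    rw [hc.mem_img hX]
    exact ⟨fun ⟨x, e⟩ => ⟨x, x.2, e⟩, fun ⟨x, hx, e⟩ => ⟨⟨x, hx⟩, e⟩⟩
  have hk : f.ker = (X ⊓ c.E).subgroupOf X := by
    ext x
    rw [MonoidHom.mem_ker, mem_subgroupOf]
    show c.pr (x : G) = 1 ↔ _
    rw [hc.ker_two (hX x.2) (h4 x x.2), mem_inf]
    exact ⟨fun h => ⟨x.2, h⟩, fun h => h.2⟩
  have h := Subgroup.card_eq_card_quotient_mul_card_subgroup f.ker
  rw [Nat.card_congr (QuotientGroup.quotientKerEquivRange f).toEquiv, hr, hk,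
    Nat.card_congr (subgroupOfEquivOfLe (inf_le_left : X ⊓ c.E ≤ X)).toEquiv] at h
  exact h.symm

theorem Ok.elem_img (hc : c.Ok) {X : Subgroup G} (hX : X ≤ c.H)
    (hab : ∀ a ∈ X, ∀ b ∈ X, a * b = b * a) (h2 : ∀ a ∈ X, a * a = 1) :
    IsElementaryAbelian 2 (hc.img X) := by
  refine ⟨⟨⟨fun α β => ?_⟩⟩, ?_⟩
  · obtain ⟨a, ha, ea⟩ := (hc.mem_img hX).1 α.2
    obtain ⟨b, hb, eb⟩ := (hc.mem_img hX).1 β.2
    refine Subtype.ext ?_
    show (α : A) * β = β * α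
    rw [← ea, ← eb, ← hc.pr_mul _ (hX ha) _ (hX hb), hab a ha b hb, hc.pr_mul _ (hX hb) _ (hX ha)]
  · intro α hα
    obtain ⟨a, ha, rfl⟩ := (hc.mem_img hX).1 hα
    rw [sq, ← hc.pr_mul _ (hX ha) _ (hX ha), h2 a ha, hc.pr_one]

theorem Ok.mem_normalizer_img (hc : c.Ok) {X : Subgroup G} (hX : X ≤ c.H) {n : G} (hn : n ∈ c.H)
    (h : ∀ x ∈ X, n * x * n⁻¹ ∈ X) : c.pr n ∈ normalizer ((hc.img X : Subgroup A) : Set A) := by
  have hmem : ∀ α ∈ hc.img X, c.pr n * α * (c.pr n)⁻¹ ∈ hc.img X := by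
    intro α hα
    obtain ⟨x, hx, rfl⟩ := (hc.mem_img hX).1 hα
    rw [← hc.pr_conj hn (hX hx)]
    exact hc.pr_mem_img hX (h x hx)
  have hle : (hc.img X).map (MulAut.conj (c.pr n)).toMonoidHom ≤ hc.img X := by
    rintro _ ⟨α, hα, rfl⟩; exact hmem α hα
  haveI : Finite (hc.img X) := by
    refine Finite.of_surjective (fun x : X.subgroupOf c.H => (⟨_, Subgroup.mem_map_of_mem _ x.2⟩ : hc.img X)) ?_
    rintro ⟨α, x, hx, rfl⟩
    exact ⟨⟨x, hx⟩, rfl⟩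
  have heq : (hc.img X).map (MulAut.conj (c.pr n)).toMonoidHom = hc.img X :=
    Subgroup.eq_of_le_of_card_ge hle
      (le_of_eq (Subgroup.card_map_of_injective (MulAut.conj (c.pr n)).injective).symm)
  refine mem_normalizer_iff.2 fun α => ⟨hmem α, fun hα => ?_⟩
  obtain ⟨β, hβ, e⟩ := heq.symm ▸ hα
  rwa [show α = β from ((MulAut.conj (c.pr n)).injective e).symm]

end Ctx

end Cfsg.Agent.H43.JFour
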