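import Cfsg.Agent.H43.J4.CentP
import Cfsg.Agent.H49.OrderFourth

/-!
# The subgroup of order three and the Sylow three-subgroup

The centre of `C` is `⟨z⟩ × P`, the normaliser of `P` lies in `H`, the Sylow three-subgroups of `C` are
Sylow in the whole group, extraspecial of order 27 with normaliser of order 864, and there is one class of
elements of order three.
-/

set_option autoImplicit false

namespace Cfsg.Agent.H43.JFour

open Subgroup

universe u v

variable {G : Type u} [Group G] [Finite G] {A : Type v} [Group A] {M : Subgroup A}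

namespace Ctx

variable {c : Ctx G A} {p : G}

theorem Ok.zp_order (hc : c.Ok) (hp : p ∈ c.P) (hp1 : p ≠ 1) : orderOf (c.z * p) = 6 := by
  haveI : Fact (Nat.Prime 3) := ⟨Nat.prime_three⟩
  have hop : orderOf p = 3 := orderOf_eq_prime (by rw [pow_three']; exact hc.P_pow hp) hp1
  have h : Commute c.z p := c.mem_H.1 (hc.P_le hp)
  rw [h.orderOf_mul_eq_mul_orderOf_of_coprime (by rw [hc.ord, hop]; decide), hc.ord, hop]

theorem Ok.zp_mem (hc : c.Ok) (hp : p ∈ c.P) (hp1 : p ≠ 1) {a : G} :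
    a ∈ zpowers (c.z * p) ↔ ∃ q ∈ c.P, a = q ∨ a = c.z * q := by
  have h : Commute c.z p := c.mem_H.1 (hc.P_le hp)
  have hz : c.z ∈ zpowers (c.z * p) := ⟨3, by
    show (c.z * p) ^ (3 : ℤ) = c.z
    rw [show (3 : ℤ) = ((3 : ℕ) : ℤ) from rfl, zpow_natCast, h.mul_pow, pow_three' p, hc.P_pow hp, mul_one,
      pow_three', hc.z_sq, one_mul]⟩
  have hpm : p ∈ zpowers (c.z * p) := by
    have := mul_mem (inv_mem hz) (mem_zpowers (c.z * p))
    rwa [inv_mul_cancel_left] at this
  constructor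
  · intro ha
    obtain ⟨k, rfl⟩ := mem_zpowers_iff.1 ha
    rw [h.mul_zpow]
    rcases hc.mem_zp.1 (zpow_mem (mem_zpowers c.z) k) with e | e <;> rw [e]
    · exact ⟨_, zpow_mem hp k, Or.inl (one_mul _)⟩
    · exact ⟨_, zpow_mem hp k, Or.inr rfl⟩
  · rintro ⟨q, hq, e⟩
    have hqm : q ∈ zpowers (c.z * p) := by
      rcases hc.P_cases hp hp1 hq with rfl | rfl | rfl
      exacts [one_mem _, hpm, mul_mem hpm hpm]
    rcases e with rfl | rfl
    exacts [hqm, mul_mem hz hqm]

theorem Ok.center_mem (hc : c.Ok) (hd : AutData A M) {a : G} (ha : a ∈ c.C)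
    (hcen : ∀ b ∈ c.C, b * a = a * b) : ∃ q ∈ c.P, a = q ∨ a = c.z * q := by
  refine hc.C_ker ha ?_
  haveI := hd.simple
  have hm : c.pr a ∈ M := (hc.mem_C_iff hd (c.C_le_Nh ha)).1 ha
  have h1 : (⟨c.pr a, hm⟩ : M) ∈ center M := mem_center_iff.2 fun β => by
    obtain ⟨b, hb, e⟩ := hc.C_surj hd β.2
    refine Subtype.ext ?_
    show (β : A) * c.pr a = c.pr a * β
    rw [← e, ← hc.pr_mul _ hb.1 _ ha.1, ← hc.pr_mul _ ha.1 _ hb.1, hcen b hb]
  rcases (inferInstance : (center M).Normal).eq_bot_or_eq_top with h | h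
  · rw [h, Subgroup.mem_bot] at h1
    exact congrArg Subtype.val h1
  · exact absurd ⟨⟨fun x y => mem_center_iff.1 (h.ge (Subgroup.mem_top y)) x⟩⟩ hd.noncomm

theorem Ok.center_C (hc : c.Ok) (hd : AutData A M) (hp : p ∈ c.P) (hp1 : p ≠ 1) :
    center ↥c.C = (zpowers (c.z * p)).subgroupOf c.C := by
  ext a
  rw [mem_subgroupOf, hc.zp_mem hp hp1]
  constructor
  · intro ha
    exact hc.center_mem hd a.2 fun b hb => congrArg Subtype.val (mem_center_iff.1 ha ⟨b, hb⟩)
  · rintro ⟨q, hq, e⟩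
    refine mem_center_iff.2 fun b => Subtype.ext ?_
    show (b : G) * a = a * b
    have h1 : Commute (b : G) q := (hc.P_central hq b.2).symm
    have h2 : Commute (b : G) c.z := (c.mem_H.1 b.2.1).symm
    rcases e with e | e <;> rw [e]
    exacts [h1.eq, (h2.mul_right h1).eq]

theorem Ok.center_cyclic (hc : c.Ok) (hd : AutData A M) :
    IsCyclic ↥(center ↥c.C) ∧ Nat.card ↥(center ↥c.C) = 6 := by
  obtain ⟨p, hp, hp1⟩ := hc.exists_p
  rw [hc.center_C hd hp hp1]
  have hle : zpowers (c.z * p) ≤ c.C := zpowers_le.2 (mul_mem hc.z_mem_C (hc.P_le_C hp))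
  refine ⟨?_, ?_⟩
  · exact isCyclic_of_surjective _ (subgroupOfEquivOfLe hle).symm.surjective
  · rw [Nat.card_congr (subgroupOfEquivOfLe hle).toEquiv, Nat.card_zpowers, hc.zp_order hp hp1]

/-- The central quotient of `C` is `M`. -/
theorem Ok.C_quotient (hc : c.Ok) (hd : AutData A M) : Nonempty ((↥c.C ⧸ center ↥c.C) ≃* ↥M) := by
  let f : c.C →* M := (hc.prHom.comp (Subgroup.inclusion (inf_le_left : c.C ≤ c.H))).codRestrict M
    fun n => (hc.mem_C_iff hd (c.C_le_Nh n.2)).1 n.2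
  have hs : Function.Surjective f := fun α => by
    obtain ⟨n, hn, e⟩ := hc.C_surj hd α.2
    exact ⟨⟨n, hn⟩, Subtype.ext e⟩
  obtain ⟨p, hp, hp1⟩ := hc.exists_p
  have hker : f.ker = center ↥c.C := by
    ext n
    rw [hc.center_C hd hp hp1, mem_subgroupOf, hc.zp_mem hp hp1, MonoidHom.mem_ker]
    refine ⟨fun h => hc.C_ker n.2 (congrArg Subtype.val h), fun ⟨q, hq, e⟩ => Subtype.ext ?_⟩
    show c.pr n = 1
    rcases e with e | e <;> rw [e]
    · exact hc.pr_P hq
    · rw [hc.pr_mul _ hc.z_mem_H _ (hc.P_le hq), hc.pr_E hc.z_mem, hc.pr_P hq, one_mul]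
  exact ⟨(QuotientGroup.quotientMulEquivOfEq hker.symm).trans
    (QuotientGroup.quotientKerEquivOfSurjective f hs)⟩

/-- **The normaliser of `P` lies in `H`.** -/
theorem Ok.normalizer_P (hc : c.Ok) (hd : AutData A M) [IsSimpleGroup G] (hG : ¬ IsMulCommutative G) :
    normalizer (c.P : Set G) ≤ c.H := by
  intro n hn
  have hK := hc.cent_P hd hG
  have key : ∀ {n : G}, n ∈ normalizer (c.P : Set G) → ∀ a ∈ c.C, n * a * n⁻¹ ∈ c.C := by
    intro n hn a ha
    rw [← hK] at ha ⊢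
    refine mem_centralizer_iff.2 fun q hq => ?_
    have hq' : n⁻¹ * q * n ∈ c.P := by
      simpa using (mem_normalizer_iff.1 (inv_mem hn) q).1 hq
    calc q * (n * a * n⁻¹) = n * ((n⁻¹ * q * n) * a) * n⁻¹ := by group
      _ = n * (a * (n⁻¹ * q * n)) * n⁻¹ := by rw [mem_centralizer_iff.1 ha _ hq']
      _ = n * a * n⁻¹ * q := by group
  have hz := key hn c.z hc.z_mem_C
  obtain ⟨q, hq, e⟩ := hc.center_mem hd hz fun b hb => by
    have h1 : n⁻¹ * b * n ∈ c.H := by
      have := key (inv_mem hn) b hb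
      rw [inv_inv] at this
      exact this.1
    calc b * (n * c.z * n⁻¹) = n * ((n⁻¹ * b * n) * c.z) * n⁻¹ := by group
      _ = n * (c.z * (n⁻¹ * b * n)) * n⁻¹ := by rw [c.mem_H.1 h1]
      _ = n * c.z * n⁻¹ * b := by group
  have hq2 : q * q = 1 := by
    have h : n * c.z * n⁻¹ * (n * c.z * n⁻¹) = 1 := by
      rw [show n * c.z * n⁻¹ * (n * c.z * n⁻¹) = n * (c.z * c.z) * n⁻¹ by group, hc.z_sq]; group
    rcases e with e | e <;> rw [e] at h
    · exact h
    · have hzq : c.z * q = q * c.z := c.mem_H.1 (hc.P_le hq)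
      calc q * q = (c.z * c.z) * (q * q) := by rw [hc.z_sq, one_mul]
        _ = c.z * (c.z * q) * q := by group
        _ = c.z * (q * c.z) * q := by rw [hzq]
        _ = c.z * q * (c.z * q) := by group
        _ = 1 := h
  have hq1 : q = 1 := by
    have h3 := hc.P_pow hq
    rwa [hq2, one_mul] at h3
  subst hq1
  rcases e with e | e
  · exact absurd (conj_eq_one_iff.1 e) hc.z_ne
  · rw [mul_one] at e
    refine c.mem_H.2 ?_
    calc c.z * n = n * c.z * n⁻¹ * n := by rw [e]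
      _ = n * c.z := by group

section Sylow

variable {R : Subgroup G}

theorem Ok.R_extra (hc : c.Ok) (hd : AutData A M) (hR : c.IsRThree R) :
    Cfsg.IsExtraspecial 3 ↥R := by
  haveI : Fact (Nat.Prime 3) := ⟨Nat.prime_three⟩
  refine H49.extraspecial_of_card_cube (p := 3) (by rw [hR.2]; norm_num) fun h => ?_
  obtain ⟨a, ha, b, hb, hne⟩ := hc.rThree_nonabelian hd hR
  exact hne (congrArg Subtype.val (h ⟨a, ha⟩ ⟨b, hb⟩))

theorem Ok.R_center (hc : c.Ok) (hd : AutData A M) (hR : c.IsRThree R) :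
    center ↥R = c.P.subgroupOf R := by
  have hPR := hc.P_le_R hd hR
  have h3 : Nat.card ↥(center ↥R) = 3 := (hc.R_extra hd hR).2
  refine (Subgroup.eq_of_le_of_card_ge ?_ ?_).symm
  · intro q hq
    exact mem_center_iff.2 fun b => Subtype.ext (hc.P_central hq (hR.1 b.2)).symm
  · rw [h3, Nat.card_congr (subgroupOfEquivOfLe hPR).toEquiv, hc.cardP]

theorem Ok.R_exponent (hc : c.Ok) (hd : AutData A M) (hR : c.IsRThree R) : Monoid.exponent ↥R = 3 := by
  have hdvd : Monoid.exponent ↥R ∣ 3 :=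
    Monoid.exponent_dvd_of_forall_pow_eq_one fun a => Subtype.ext (hc.R_exp hd hR a.2)
  rcases (Nat.dvd_prime Nat.prime_three).1 hdvd with h | h
  · exfalso
    have h27 := hR.2
    haveI := Monoid.exp_eq_one_iff.1 h
    rw [Nat.card_of_subsingleton (1 : R)] at h27
    omega
  · exact h

/-- The normaliser of `R` normalises `P`, so lies in `N_H(P)`. -/
theorem Ok.R_norm_le (hc : c.Ok) (hd : AutData A M) (hR : c.IsRThree R) [IsSimpleGroup G]
    (hG : ¬ IsMulCommutative G) : normalizer (R : Set G) ≤ c.Nh := by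
  have hPR := hc.P_le_R hd hR
  have hP : normalizer (R : Set G) ≤ normalizer (c.P : Set G) := by
    intro n hn
    have key : ∀ {n : G}, n ∈ normalizer (R : Set G) → ∀ q ∈ c.P, n * q * n⁻¹ ∈ c.P := by
      intro n hn q hq
      have hqR : n * q * n⁻¹ ∈ R := (mem_normalizer_iff.1 hn q).1 (hPR hq)
      have hm : (⟨n * q * n⁻¹, hqR⟩ : R) ∈ center ↥R := mem_center_iff.2 fun b => by
        refine Subtype.ext ?_
        show (b : G) * (n * q * n⁻¹) = n * q * n⁻¹ * b
        have hb : n⁻¹ * (b : G) * n ∈ R := by simpa using (mem_normalizer_iff.1 (inv_mem hn) _).1 b.2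
        have h1 := hc.P_central hq (hR.1 hb)
        calc (b : G) * (n * q * n⁻¹) = n * ((n⁻¹ * b * n) * q) * n⁻¹ := by group
          _ = n * q * n⁻¹ * b := by rw [← h1]; group
      rw [hc.R_center hd hR] at hm
      exact hm
    refine mem_normalizer_iff.2 fun q => ⟨key hn q, fun hq => ?_⟩
    simpa [mul_assoc] using key (inv_mem hn) _ hq
  intro n hn
  exact mem_inf.2 ⟨hc.normalizer_P hd hG (hP hn), hP hn⟩

theorem Ok.R_norm_card (hc : c.Ok) (hd : AutData A M) (hR : c.IsRThree R) [IsSimpleGroup G]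
    (hG : ¬ IsMulCommutative G) : Nat.card ↥(normalizer (R : Set G)) = 864 := by
  have hle := hc.R_norm_le hd hR hG
  obtain ⟨T, hT1, hT2⟩ := hc.exists_image hd hR
  obtain ⟨p, hp, hp1⟩ := hc.exists_p
  have hPR := hc.P_le_R hd hR
  have hcen : ∀ {a : G}, a ∈ zpowers (c.z * p) → a ∈ normalizer (R : Set G) := by
    intro a ha
    refine centralizer_le_normalizer _ (mem_centralizer_iff.2 fun b hb => ?_)
    obtain ⟨k, rfl⟩ := mem_zpowers_iff.1 ha
    have h1 : Commute b (c.z * p) :=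
      (show Commute b c.z from (c.mem_H.1 (hR.1 hb).1).symm).mul_right (hc.P_central hp (hR.1 hb)).symm
    exact (h1.zpow_right k).eq
  let f : ↥(normalizer (R : Set G)) →* A :=
    hc.prHom.comp (Subgroup.inclusion (fun n hn => (hle hn).1))
  have hker : f.ker = (zpowers (c.z * p)).subgroupOf (normalizer (R : Set G)) := by
    ext n
    rw [MonoidHom.mem_ker, mem_subgroupOf, hc.zp_mem hp hp1]
    refine ⟨fun h => hc.Nh_ker (hle n.2) h, fun ⟨q, hq, e⟩ => ?_⟩
    show c.pr n = 1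
    rcases e with e | e <;> rw [e]
    · exact hc.pr_P hq
    · rw [hc.pr_mul _ hc.z_mem_H _ (hc.P_le hq), hc.pr_E hc.z_mem, hc.pr_P hq, one_mul]
  have hrange : f.range = normalizer ((T : Subgroup A) : Set A) := by
    haveI := hd.finite
    ext α
    constructor
    · rintro ⟨n, rfl⟩
      show c.pr n ∈ _
      have key : ∀ {n : G}, n ∈ normalizer (R : Set G) → ∀ β ∈ (T : Subgroup A),
          c.pr n * β * (c.pr n)⁻¹ ∈ (T : Subgroup A) := by
        intro n hn β hβ
        obtain ⟨a, ha, rfl⟩ := hT2 β hβ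
        rw [← hc.pr_conj (hle hn).1 (hR.1 ha).1]
        exact hT1 _ ((mem_normalizer_iff.1 hn a).1 ha)
      refine mem_normalizer_iff.2 fun β => ⟨key n.2 β, fun hβ => ?_⟩
      have h2 := key (inv_mem n.2) _ hβ
      rwa [hc.pr_inv (hle n.2).1, inv_inv, show (c.pr n)⁻¹ * (c.pr n * β * (c.pr n)⁻¹) * c.pr n = β by group]
        at h2
    · intro hα
      obtain ⟨n, hn, e⟩ := hc.Nh_surj α
      have hnR : ∀ a ∈ R, n * a * n⁻¹ ∈ R := by
        intro a ha
        have haH := (hR.1 ha).1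
        have hbC : n * a * n⁻¹ ∈ c.C := by
          refine (c.mem_C').2 ⟨mul_mem (mul_mem hn.1 haH) (inv_mem hn.1),
            mem_centralizer_iff.2 fun q hq => ?_⟩
          have hq' : n⁻¹ * q * n ∈ c.P := by simpa using (mem_normalizer_iff.1 (inv_mem hn.2) q).1 hq
          calc q * (n * a * n⁻¹) = n * ((n⁻¹ * q * n) * a) * n⁻¹ := by group
            _ = n * (a * (n⁻¹ * q * n)) * n⁻¹ := by rw [hc.P_central hq' (hR.1 ha)]
            _ = n * a * n⁻¹ * q := by group
        have hbT : c.pr (n * a * n⁻¹) ∈ (T : Subgroup A) := by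
          rw [hc.pr_conj hn.1 haH, e]
          exact (mem_normalizer_iff.1 hα _).1 (hT1 a ha)
        obtain ⟨a', ha', e'⟩ := hT2 _ hbT
        obtain ⟨q, hq, eq | eq⟩ := hc.C_ker (mul_mem (inv_mem (hR.1 ha')) hbC)
          (by rw [hc.pr_mul _ (inv_mem (hR.1 ha').1) _ hbC.1, hc.pr_inv (hR.1 ha').1, e', inv_mul_cancel])
        · rw [show n * a * n⁻¹ = a' * (a'⁻¹ * (n * a * n⁻¹)) by group, eq]
          exact mul_mem ha' (hPR hq)
        · exfalso
          apply hc.z_ne
          have h1 : (n * a * n⁻¹) ^ 3 = 1 := by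
            rw [← MulAut.conj_apply, ← map_pow, hc.R_exp hd hR ha, map_one]
          have h2 : n * a * n⁻¹ = a' * (c.z * q) := by rw [← eq]; group
          have c1 : Commute a' (c.z * q) :=
            (show Commute a' c.z from (c.mem_H.1 (hR.1 ha').1).symm).mul_right (hc.P_central hq (hR.1 ha')).symm
          have c2 : Commute c.z q := c.mem_H.1 (hc.P_le hq)
          rw [h2, c1.mul_pow, hc.R_exp hd hR ha', one_mul, c2.mul_pow, pow_three' c.z, pow_three' q,
            hc.P_pow hq, mul_one, hc.z_sq, one_mul] at h1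
          exact h1
      have hnN : n ∈ normalizer (R : Set G) := by
        rw [mem_normalizer_iff_map_conj_eq]
        refine Subgroup.eq_of_le_of_card_ge ?_
          (le_of_eq (Subgroup.card_map_of_injective (MulAut.conj n).injective).symm)
        rintro _ ⟨a, ha, rfl⟩
        exact hnR a ha
      exact ⟨⟨n, hnN⟩, e⟩
  have h := f.ker.card_mul_index
  rw [Subgroup.index_ker, hrange, hker, hd.syl_norm T,
    Nat.card_congr (subgroupOfEquivOfLe (fun a ha => hcen ha)).toEquiv, Nat.card_zpowers,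
    hc.zp_order hp hp1] at h
  exact h.symm

theorem Ok.R_sylow_H (hc : c.Ok) (hd : AutData A M) (hR : c.IsRThree R) :
    ∃ S : Sylow 3 c.H, (S : Subgroup c.H) = R.subgroupOf c.H := by
  haveI : Fact (Nat.Prime 3) := ⟨Nat.prime_three⟩
  refine ⟨Sylow.ofCard (R.subgroupOf c.H) ?_, rfl⟩
  rw [Nat.card_congr (subgroupOfEquivOfLe (hR.1.trans inf_le_left)).toEquiv, hR.2, hc.card_H, hd.card,
    show 3 * 2 ^ 13 * 887040 = 3 ^ 3 * 807403520 by norm_num,
    Nat.factorization_mul (by norm_num) (by norm_num), Nat.factorization_pow]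
  simp [Nat.prime_three.factorization, Nat.factorization_eq_zero_of_not_dvd]

/-- `R` is a Sylow three-subgroup of `G`. -/
theorem Ok.R_sylow (hc : c.Ok) (hd : AutData A M) (hR : c.IsRThree R) [IsSimpleGroup G]
    (hG : ¬ IsMulCommutative G) : ∃ S : Sylow 3 G, (S : Subgroup G) = R := by
  haveI : Fact (Nat.Prime 3) := ⟨Nat.prime_three⟩
  obtain ⟨T, hT⟩ := (IsPGroup.of_card (p := 3) (G := R) (n := 3) (by rw [hR.2]; norm_num)).exists_le_sylow
  refine ⟨T, le_antisymm ?_ hT⟩
  by_contra hne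
  have hlt : R.subgroupOf (T : Subgroup G) < ⊤ := lt_top_iff_ne_top.2 fun h =>
    hne (Subgroup.subgroupOf_eq_top.1 h)
  haveI : Group.IsNilpotent ↥(T : Subgroup G) := T.isPGroup'.isNilpotent
  have h1 := Group.normalizerCondition_of_isNilpotent _ hlt
  obtain ⟨⟨n, hnT⟩, hnN, hnR⟩ := SetLike.exists_of_lt h1
  rw [mem_subgroupOf] at hnR
  have hnG : n ∈ normalizer (R : Set G) := by
    refine mem_normalizer_iff.2 fun a => ⟨fun ha => ?_, fun ha => ?_⟩
    · exact (mem_normalizer_iff.1 hnN ⟨a, hT ha⟩).1 ha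
    · have haT : a ∈ (T : Subgroup G) := by
        have := mul_mem (mul_mem (inv_mem hnT) (hT ha)) hnT
        rwa [show n⁻¹ * (n * a * n⁻¹) * n = a by group] at this
      exact (mem_normalizer_iff.1 hnN ⟨a, haT⟩).2 ha
  have hnH : n ∈ c.H := (hc.R_norm_le hd hR hG hnG).1
  obtain ⟨S, hS⟩ := hc.R_sylow_H hd hR
  have hRH : R ≤ c.H := hR.1.trans inf_le_left
  have h3 : IsPGroup 3 ↥(((T : Subgroup G) ⊓ c.H).subgroupOf c.H) :=
    IsPGroup.of_equiv ((T.isPGroup'.to_le inf_le_left)) (subgroupOfEquivOfLe inf_le_right).symm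
  have hle : (S : Subgroup c.H) ≤ ((T : Subgroup G) ⊓ c.H).subgroupOf c.H := by
    rw [hS]
    exact fun a ha => mem_subgroupOf.2 (mem_inf.2 ⟨hT (mem_subgroupOf.1 ha), a.2⟩)
  have h4 := S.is_maximal' h3 hle
  have h5 : (⟨n, hnH⟩ : c.H) ∈ (S : Subgroup c.H) := h4 ▸ mem_subgroupOf.2 (mem_inf.2 ⟨hnT, hnH⟩)
  rw [hS, mem_subgroupOf] at h5
  exact hnR h5

end Sylow

/-- **One class of elements of order three.** -/
theorem Ok.one_class (hc : c.Ok) (hd : AutData A M) [IsSimpleGroup G] (hG : ¬ IsMulCommutative G)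
    {a b : G} (ha : orderOf a = 3) (hb : orderOf b = 3) : IsConj a b := by
  classical
  haveI : Fact (Nat.Prime 3) := ⟨Nat.prime_three⟩
  obtain ⟨g, x, p, -, -, t, hgx⟩ := hc.exists_fuse_three hd hG
  suffices key : ∀ {a : G}, orderOf a = 3 → IsConj p a from (key ha).symm.trans (key hb)
  intro a ha
  obtain ⟨S0⟩ : Nonempty (Sylow 3 c.C) := inferInstance
  have hR := hc.rThree_of_sylow hd S0
  obtain ⟨T, hT⟩ := hc.R_sylow hd hR hG
  obtain ⟨U, hU⟩ := (IsPGroup.of_card (G := zpowers a) (n := 1)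
    (by rw [Nat.card_zpowers, ha, pow_one])).exists_le_sylow
  obtain ⟨k, hk⟩ := MulAction.exists_smul_eq G U T
  have hbR : k * a * k⁻¹ ∈ (T : Subgroup G) := by
    rw [← hk, Sylow.coe_subgroup_smul]
    exact Subgroup.smul_mem_pointwise_smul _ (MulAut.conj k) _ (hU (mem_zpowers a))
  rw [hT] at hbR
  have hb3 : (k * a * k⁻¹) ^ 3 = 1 := by
    rw [← MulAut.conj_apply, ← map_pow, ← ha, pow_orderOf_eq_one, map_one]
  have hb1 : k * a * k⁻¹ ≠ 1 := fun h => by
    rw [conj_eq_one_iff] at h; rw [h, orderOf_one] at ha; omega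
  refine IsConj.trans ?_ (isConj_iff.2 ⟨k⁻¹, by group⟩ : IsConj (k * a * k⁻¹) a)
  have hbC := hR.1 hbR
  by_cases hbP : k * a * k⁻¹ ∈ c.P
  · rcases hc.P_cases t.pP t.p1 hbP with e | e | e
    · exact absurd e hb1
    · rw [e]
    · obtain ⟨n, hn, hnC⟩ : ∃ n ∈ c.Nh, n ∉ c.C := by
        by_contra h
        push Not at h
        exact hc.NC (le_antisymm h c.C_le_Nh)
      rw [e, ← inv_eq_of_mul_eq_one_left (hc.P_pow t.pP)]
      exact isConj_iff.2 ⟨n, hc.inverts hn hnC t.pP⟩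
  · obtain ⟨h, -, e⟩ := hc.three_conj hd t.xC hbC (by rw [pow_three']; exact t.x3) hb3 t.xP hbP
    exact (isConj_iff.2 ⟨g, hgx⟩ : IsConj x p).symm.trans (isConj_iff.2 ⟨h, e⟩)

end Ctx

end Cfsg.Agent.H43.JFour
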