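import Cfsg.Agent.H43.J4.Count
import Mathlib.GroupTheory.NoncommCoprod

/-!
# The three pieces `C_E(x q)`, `q ∈ P`, of an element `x` of order 3
-/

set_option autoImplicit false

namespace Cfsg.Agent.H43.JFour

open Subgroup
open scoped commutatorElement

universe u v

variable {G : Type u} [Group G] [Finite G] {A : Type v} [Group A] {M : Subgroup A} {c : Ctx G A}

/-- Order of the product of two commuting subgroups. -/
theorem card_sup_of_commute (X Y : Subgroup G) (h : ∀ a ∈ X, ∀ b ∈ Y, a * b = b * a) :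
    Nat.card ↥(X ⊔ Y) * Nat.card ↥(X ⊓ Y) = Nat.card X * Nat.card Y := by
  let f : X × Y →* G := MonoidHom.noncommCoprod X.subtype Y.subtype fun a b => h a a.2 b b.2
  have hr : f.range = X ⊔ Y := by
    refine (MonoidHom.noncommCoprod_range X.subtype Y.subtype _).trans ?_
    rw [X.range_subtype, Y.range_subtype]
  have hk : Nat.card f.ker = Nat.card ↥(X ⊓ Y) := by
    refine Nat.card_congr
      { toFun := fun q => ⟨(q.1.1 : G), ⟨q.1.1.2, ?_⟩⟩
        invFun := fun g => ⟨(⟨g.1, (mem_inf.1 g.2).1⟩, ⟨g.1⁻¹, inv_mem (mem_inf.1 g.2).2⟩),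
          MonoidHom.mem_ker.2 (mul_inv_cancel (g : G))⟩
        left_inv := fun q => ?_
        right_inv := fun g => rfl }
    · have e : (q.1.1 : G) * q.1.2 = 1 := q.2
      show (q.1.1 : G) ∈ Y
      rw [mul_eq_one_iff_eq_inv.1 e]; exact Y.inv_mem q.1.2.2
    · have e : (q.1.1 : G) * q.1.2 = 1 := q.2
      ext
      · rfl
      · exact inv_eq_of_mul_eq_one_right e
  have := Subgroup.card_eq_card_quotient_mul_card_subgroup f.ker
  rw [Nat.card_congr (QuotientGroup.quotientKerEquivRange f).toEquiv, hr, hk, Nat.card_prod] at this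
  exact this.symm

namespace Ctx

/-- `C_E(x)`. -/
def Piece (c : Ctx G A) (x : G) : Subgroup G := c.E ⊓ centralizer ({x} : Set G)

omit [Finite G] in
theorem mem_piece {x v : G} : v ∈ c.Piece x ↔ v ∈ c.E ∧ x * v = v * x := by
  simp [Piece, mem_centralizer_iff, eq_comm]

theorem Ok.piece_stable (hc : c.Ok) {x : G} (hx : x ∈ c.C) : c.Stable (c.Piece x) := by
  refine ⟨inf_le_left, mem_piece.2 ⟨hc.z_mem, (c.mem_H.1 (mem_inf.1 hx).1).symm⟩, fun p hp v hv => ?_⟩
  obtain ⟨hvE, hvx⟩ := mem_piece.1 hv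
  refine mem_piece.2 ⟨hc.conjE (hc.P_le hp) hvE, ?_⟩
  have h1 := hc.P_central hp hx
  have h2 : x * p⁻¹ = p⁻¹ * x := (hc.P_central (inv_mem hp) hx).symm
  calc x * (p * v * p⁻¹) = (x * p) * v * p⁻¹ := by group
    _ = p * (x * v) * p⁻¹ := by rw [← h1]; group
    _ = p * v * (x * p⁻¹) := by rw [hvx]; group
    _ = p * v * p⁻¹ * x := by rw [h2]; group

omit [Finite G] in
/-- An element of `H` of order dividing 3 fixing `w` modulo `z` fixes it. -/
theorem Ok.exact_fix (hc : c.Ok) {y w : G} (hy : y ∈ c.H) (hy3 : y * y * y = 1)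
    (e : c.Eqz w (y * w * y⁻¹)) : y * w = w * y := by
  have h1 : y * w * y⁻¹ = w := by
    rcases e with e | e
    · exact e
    · exfalso
      have hz : y * c.z * y⁻¹ = c.z := by rw [← c.mem_H.1 hy]; group
      have h2 : y * (y * w * y⁻¹) * y⁻¹ = w := by
        rw [e, show y * (c.z * w) * y⁻¹ = y * c.z * y⁻¹ * (y * w * y⁻¹) by group, e, hz,
          ← mul_assoc, hc.z_sq, one_mul]
      have h3 : y * (y * (y * w * y⁻¹) * y⁻¹) * y⁻¹ = w := by
        rw [show y * (y * (y * w * y⁻¹) * y⁻¹) * y⁻¹ = (y * y * y) * w * (y * y * y)⁻¹ by group, hy3]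
        group
      rw [h2, e] at h3
      exact hc.z_ne (mul_right_cancel (h3.trans (one_mul w).symm))
  calc y * w = y * w * y⁻¹ * y := by group
    _ = w * y := by rw [h1]

/-- The image in `E/Z(E)`. -/
def toQ (c : Ctx G A) : c.E →* c.E ⧸ center c.E := QuotientGroup.mk' _

theorem Ok.toQ_comm (hc : c.Ok) (a b : c.E ⧸ center c.E) : a * b = b * a := by
  obtain ⟨a, rfl⟩ := QuotientGroup.mk_surjective a
  obtain ⟨b, rfl⟩ := QuotientGroup.mk_surjective b
  rw [← QuotientGroup.mk_mul, ← QuotientGroup.mk_mul, QuotientGroup.eq]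
  rcases hc.swap a.2 b.2 with h | h
  · rw [show a * b = b * a from Subtype.ext h, inv_mul_cancel]; exact one_mem _
  · have h2 : ((a * b)⁻¹ * (b * a) : c.E) = (⟨c.z, hc.z_mem⟩ : c.E) := by
      apply Subtype.ext
      show ((a : G) * b)⁻¹ * ((b : G) * a) = c.z
      rw [h, ← hc.z_inv]
      have := hc.z_comm (mul_mem b.2 a.2)
      calc (c.z⁻¹ * ((b : G) * a))⁻¹ * ((b : G) * a) = ((b : G) * a)⁻¹ * (c.z * ((b : G) * a)) := by group
        _ = ((b : G) * a)⁻¹ * ((b : G) * a * c.z) := by rw [this]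
        _ = c.z⁻¹ := by rw [inv_mul_cancel_left, hc.z_inv]
    rw [h2]
    exact mem_center_iff.2 fun x => Subtype.ext (hc.z_comm x.2).symm

theorem Ok.eqz_of_toQ (hc : c.Ok) {a b : c.E} (h : c.toQ a = c.toQ b) : c.Eqz (a : G) b := by
  have h1 : a⁻¹ * b ∈ center c.E := QuotientGroup.eq.1 h
  rcases hc.center_eq h1 with e | e
  · exact Or.inl (inv_mul_eq_one.1 e).symm
  · refine Or.inr ?_
    have e' : (a : G)⁻¹ * (b : G) = c.z := e
    rw [hc.z_comm a.2, ← e', mul_inv_cancel_left]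

theorem Ok.toQ_of_eqz (hc : c.Ok) {a b : c.E} (h : c.Eqz (a : G) b) : c.toQ a = c.toQ b := by
  refine QuotientGroup.eq.2 ?_
  rcases h with e | e
  · rw [show b = a from Subtype.ext e, inv_mul_cancel]; exact one_mem _
  · rw [show b = (⟨c.z, hc.z_mem⟩ : c.E) * a from Subtype.ext e]
    refine mem_center_iff.2 fun x => Subtype.ext ?_
    have ha : ((a : G)⁻¹ * (c.z * a)) = c.z := by rw [hc.z_comm a.2, inv_mul_cancel_left]
    show (x : G) * ((a : G)⁻¹ * (c.z * a)) = (a : G)⁻¹ * (c.z * a) * x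
    rw [ha]; exact (hc.z_comm x.2).symm

/-- The norm of `v` under `⟨y⟩` for `y` of order 3. -/
def proj (y v : G) : G := v * (y * v * y⁻¹) * (y * (y * v * y⁻¹) * y⁻¹)

theorem Ok.proj_mem (hc : c.Ok) {y v : G} (hy : y ∈ c.H) (hy3 : y * y * y = 1) (hv : v ∈ c.E) :
    proj y v ∈ c.Piece y := by
  set X := y * v * y⁻¹ with hX
  set Y := y * X * y⁻¹ with hY
  have hXE : X ∈ c.E := hc.conjE hy hv
  have hYE : Y ∈ c.E := hc.conjE hy hXE
  refine mem_piece.2 ⟨mul_mem (mul_mem hv hXE) hYE, hc.exact_fix hy hy3 ?_⟩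
  show c.Eqz (v * X * Y) (y * (v * X * Y) * y⁻¹)
  rw [show y * (v * X * Y) * y⁻¹ = (y * v * y⁻¹) * (y * X * y⁻¹) * (y * Y * y⁻¹) by group, ← hX, ← hY,
    show y * Y * y⁻¹ = v by
      rw [hY, hX, show y * (y * (y * v * y⁻¹) * y⁻¹) * y⁻¹ = (y * y * y) * v * (y * y * y)⁻¹ by group,
        hy3]
      group]
  rw [mul_assoc v X Y]
  exact hc.eqz_comm (mul_mem hXE hYE) hv

/-- Setting of an element of order 3 of `C` outside `P` with a generator of `P`. -/
structure Trip (c : Ctx G A) (x p : G) : Prop where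
  xC : x ∈ c.C
  x3 : x * x * x = 1
  xP : x ∉ c.P
  pP : p ∈ c.P
  p1 : p ≠ 1

namespace Trip

variable {x p : G}

theorem comm (t : c.Trip x p) (hc : c.Ok) : p * x = x * p := hc.P_central t.pP t.xC

theorem mul (t : c.Trip x p) (hc : c.Ok) : c.Trip (x * p) p where
  xC := mul_mem t.xC (hc.P_le_C t.pP)
  x3 := by
    have h := t.comm hc
    calc x * p * (x * p) * (x * p) = x * (p * x) * (p * x) * p := by group
      _ = x * (x * p) * (x * p) * p := by rw [h]
      _ = x * x * (p * x) * (p * p) := by group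
      _ = x * x * (x * p) * (p * p) := by rw [h]
      _ = (x * x * x) * (p * p * p) := by group
      _ = 1 := by rw [t.x3, hc.P_pow t.pP, one_mul]
  xP h := t.xP (by simpa using mul_mem h (inv_mem t.pP))
  pP := t.pP
  p1 := t.p1

theorem xH (t : c.Trip x p) : x ∈ c.H := (mem_inf.1 t.xC).1

theorem cube (t : c.Trip x p) (hc : c.Ok) : x * p * p * p = x := by
  rw [mul_assoc (x * p), mul_assoc x, ← mul_assoc p p p, hc.P_pow t.pP, mul_one]

theorem conj (t : c.Trip x p) (hc : c.Ok) (hd : AutData A M) :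
    ∃ g ∈ c.C, g * x * g⁻¹ = x * p :=
  hc.three_conj hd t.xC (t.mul hc).xC (by rw [pow_three']; exact t.x3)
    (by rw [pow_three']; exact (t.mul hc).x3) t.xP (t.mul hc).xP

/-- Different pieces commute. -/
theorem orth (t : c.Trip x p) (hc : c.Ok) {a b : G} (ha : a ∈ c.Piece x) (hb : b ∈ c.Piece (x * p)) :
    a * b = b * a := by
  obtain ⟨haE, hax⟩ := mem_piece.1 ha
  obtain ⟨hbE, hbx⟩ := mem_piece.1 hb
  have hpH := hc.P_le t.pP
  set q := p⁻¹ with hq
  have hq1 : q ≠ 1 := fun e => t.p1 (inv_eq_one.1 e)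
  have hqP : q ∈ c.P := inv_mem t.pP
  have hqH := hc.P_le hqP
  have hxa : x * a * x⁻¹ = a := by rw [hax]; group
  have key : ∀ d ∈ c.E, (x * p) * d = d * (x * p) → ⁅a, q * d * q⁻¹⁆ = ⁅a, d⁆ := by
    intro d hd hdx
    have e1 : x * d * x⁻¹ = q * d * q⁻¹ := by
      have h2 : x * p * d * (x * p)⁻¹ = d := by rw [hdx]; group
      calc x * d * x⁻¹ = (x * p⁻¹ * x⁻¹) * (x * p * d * (x * p)⁻¹) * (x * p * x⁻¹) := by group
        _ = q * d * q⁻¹ := by
          rw [h2, show x * p * x⁻¹ = p by rw [← t.comm hc]; group,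
            show x * p⁻¹ * x⁻¹ = p⁻¹ by
              rw [show x * p⁻¹ * x⁻¹ = (x * p * x⁻¹)⁻¹ by group,
                show x * p * x⁻¹ = p by rw [← t.comm hc]; group]]
          rw [hq, inv_inv]
    rw [← e1]
    calc ⁅a, x * d * x⁻¹⁆ = ⁅x * a * x⁻¹, x * d * x⁻¹⁆ := by rw [hxa]
      _ = ⁅a, d⁆ := hc.bz_conj t.xH haE hd
  have hb1 : q * b * q⁻¹ ∈ c.Piece (x * p) := (hc.piece_stable (t.mul hc).xC).conj q hqP b hb
  have k1 := key b hbE hbx
  have k2 := key _ (mem_piece.1 hb1).1 (mem_piece.1 hb1).2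
  have hw := hc.orbit_prod hqP hq1 hbE
  have h1 : ⁅a, b * (q * b * q⁻¹) * (q * (q * b * q⁻¹) * q⁻¹)⁆ = 1 := by
    rw [hc.bz_congr_right haE (one_mem _) hw, commutatorElement_one_right]
  rw [hc.bz_mul_right haE (mul_mem hbE (hc.conjE hqH hbE)) (hc.conjE hqH (hc.conjE hqH hbE)),
    hc.bz_mul_right haE hbE (hc.conjE hqH hbE), k2, k1, hc.bz_sq haE hbE, one_mul] at h1
  exact commutatorElement_eq_one_iff_mul_comm.1 h1

theorem orth' (t : c.Trip x p) (hc : c.Ok) {a b : G} (ha : a ∈ c.Piece (x * p * p))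
    (hb : b ∈ c.Piece x) : a * b = b * a := by
  have h := ((t.mul hc).mul hc).orth hc ha (b := b) (by rw [t.cube hc]; exact hb)
  exact h

/-- Every element of `E` is a product of elements of the three pieces modulo `z`. -/
theorem decomp (t : c.Trip x p) (hc : c.Ok) {v : G} (hv : v ∈ c.E) :
    c.Eqz (proj x v * proj (x * p) v * proj (x * p * p) v) v := by
  have hx := t.xH
  have hp := hc.P_le t.pP
  letI : CommGroup (c.E ⧸ center c.E) :=
    { (inferInstance : Group (c.E ⧸ center c.E)) with mul_comm := hc.toQ_comm }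
  let m : (g : G) → g ∈ c.E → c.E ⧸ center c.E := fun g hg => c.toQ ⟨g, hg⟩
  set X₁ := x * v * x⁻¹ with hX₁
  set X₂ := x * X₁ * x⁻¹ with hX₂
  have h1 : X₁ ∈ c.E := hc.conjE hx hv
  have h2 : X₂ ∈ c.E := hc.conjE hx h1
  have h1' : p * X₁ * p⁻¹ ∈ c.E := hc.conjE hp h1
  have h1'' : p * (p * X₁ * p⁻¹) * p⁻¹ ∈ c.E := hc.conjE hp h1'
  have h2' : p * X₂ * p⁻¹ ∈ c.E := hc.conjE hp h2
  have h2'' : p * (p * X₂ * p⁻¹) * p⁻¹ ∈ c.E := hc.conjE hp h2'
  have hcm := t.comm hc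
  have c1 : ∀ w : G, x * p * w * (x * p)⁻¹ = p * (x * w * x⁻¹) * p⁻¹ := fun w => by
    rw [← hcm]; group
  have c2 : ∀ w : G, x * (p * w * p⁻¹) * x⁻¹ = p * (x * w * x⁻¹) * p⁻¹ := fun w => by
    rw [show x * (p * w * p⁻¹) * x⁻¹ = x * p * w * (x * p)⁻¹ by group, c1]
  have c3 : ∀ w : G, x * p * p * w * (x * p * p)⁻¹ = p * (p * (x * w * x⁻¹) * p⁻¹) * p⁻¹ := fun w => by
    rw [show x * p * p * w * (x * p * p)⁻¹ = x * p * (p * w * p⁻¹) * (x * p)⁻¹ by group, c1, c2]
  have d1 : proj x v = v * X₁ * X₂ := rfl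
  have d2 : proj (x * p) v = v * (p * X₁ * p⁻¹) * (p * (p * X₂ * p⁻¹) * p⁻¹) := by
    rw [proj, c1, c1, ← hX₁, c2, ← hX₂]
  have d3 : proj (x * p * p) v = v * (p * (p * X₁ * p⁻¹) * p⁻¹) * (p * X₂ * p⁻¹) := by
    rw [proj, c3, c3, ← hX₁, c2, c2, ← hX₂]
    congr 1
    rw [show p * (p * (p * (p * X₂ * p⁻¹) * p⁻¹) * p⁻¹) * p⁻¹ =
      (p * p * p) * (p * X₂ * p⁻¹) * (p * p * p)⁻¹ by group, hc.P_pow t.pP]
    group
  have hQ1 := hc.toQ_of_eqz (a := 1) (b := ⟨_, mul_mem (mul_mem h1 h1') h1''⟩)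
    (by exact hc.orbit_prod t.pP t.p1 h1)
  have hQ2 := hc.toQ_of_eqz (a := 1) (b := ⟨_, mul_mem (mul_mem h2 h2') h2''⟩)
    (by exact hc.orbit_prod t.pP t.p1 h2)
  have hv2 := hc.toQ_of_eqz (a := 1) (b := ⟨_, mul_mem hv hv⟩) (by exact hc.eqz_sq hv)
  rw [map_one] at hQ1 hQ2 hv2
  have e1 : 1 = m X₁ h1 * m _ h1' * m _ h1'' := hQ1
  have e2 : 1 = m X₂ h2 * m _ h2' * m _ h2'' := hQ2
  have e3 : 1 = m v hv * m v hv := hv2
  have hL : v * X₁ * X₂ * (v * (p * X₁ * p⁻¹) * (p * (p * X₂ * p⁻¹) * p⁻¹)) *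
      (v * (p * (p * X₁ * p⁻¹) * p⁻¹) * (p * X₂ * p⁻¹)) ∈ c.E :=
    mul_mem (mul_mem (mul_mem (mul_mem hv h1) h2) (mul_mem (mul_mem hv h1') h2''))
      (mul_mem (mul_mem hv h1'') h2')
  rw [d1, d2, d3]
  refine hc.eqz_of_toQ (a := ⟨_, hL⟩) (b := ⟨v, hv⟩) ?_
  show m v hv * m X₁ h1 * m X₂ h2 * (m v hv * m _ h1' * m _ h2'') *
    (m v hv * m _ h1'' * m _ h2') = m v hv
  calc _ = (m X₁ h1 * m _ h1' * m _ h1'') * (m X₂ h2 * m _ h2' * m _ h2'') *
        (m v hv * m v hv) * m v hv := by ac_rfl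
    _ = m v hv := by rw [← e1, ← e2, ← e3, one_mul, one_mul, one_mul]

/-- An element commuting with the three pieces modulo nothing commutes with `E`. -/
theorem commute_of_pieces (t : c.Trip x p) (hc : c.Ok) {h : G} (hh : h ∈ c.H)
    (h0 : ∀ a ∈ c.Piece x, h * a = a * h) (h1 : ∀ a ∈ c.Piece (x * p), h * a = a * h)
    (h2 : ∀ a ∈ c.Piece (x * p * p), h * a = a * h) {v : G} (hv : v ∈ c.E) : h * v = v * h := by
  have hm := fun (y : G) (ty : c.Trip y p) => hc.proj_mem ty.xH ty.x3 hv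
  have h3 : Commute h (proj x v * proj (x * p) v * proj (x * p * p) v) :=
    (((show Commute h _ from h0 _ (hm x t)).mul_right (h1 _ (hm _ (t.mul hc)))).mul_right
      (h2 _ (hm _ ((t.mul hc).mul hc))))
  rcases t.decomp hc hv with e | e
  · rw [e]; exact h3.eq
  · rw [e]; exact ((show Commute h c.z from (c.mem_H.1 hh).symm).mul_right h3).eq

theorem nondeg (t : c.Trip x p) (hc : c.Ok) : c.Nondeg (c.Piece x) := by
  intro a ha h
  refine hc.mem_zp.2 (hc.mem_of_center (mem_piece.1 ha).1 fun b hb => ?_)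
  exact t.commute_of_pieces hc (hc.le_H (mem_piece.1 ha).1) h (fun b hb => t.orth hc ha hb)
    (fun b hb => (t.orth' hc hb ha).symm) hb

theorem card_piece (t : c.Trip x p) (hc : c.Ok) (hd : AutData A M) :
    Nat.card (c.Piece x) = 32 := by
  have t1 := t.mul hc
  have t2 := t1.mul hc
  have hcard : ∀ y, c.Trip y p → Nat.card (c.Piece (y * p)) = Nat.card (c.Piece y) := by
    intro y ty
    obtain ⟨g, hg, e⟩ := ty.conj hc hd
    have hgH := (mem_inf.1 hg).1
    refine Nat.card_congr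
      { toFun := fun v => ⟨g⁻¹ * (v : G) * g, ?_⟩
        invFun := fun v => ⟨g * (v : G) * g⁻¹, ?_⟩
        left_inv := fun v => Subtype.ext (by show g * (g⁻¹ * (v : G) * g) * g⁻¹ = v; group)
        right_inv := fun v => Subtype.ext (by show g⁻¹ * (g * (v : G) * g⁻¹) * g = v; group) }
    · obtain ⟨hvE, hvx⟩ := mem_piece.1 v.2
      refine mem_piece.2 ⟨by simpa using hc.conjE (c.H.inv_mem hgH) hvE, ?_⟩
      have hvx : g * y * g⁻¹ * (v : G) = (v : G) * (g * y * g⁻¹) := by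
        simpa [e] using hvx
      calc y * (g⁻¹ * (v : G) * g) = g⁻¹ * (g * y * g⁻¹ * v) * g := by group
        _ = g⁻¹ * ((v : G) * (g * y * g⁻¹)) * g := by rw [hvx]
        _ = g⁻¹ * (v : G) * g * y := by group
    · obtain ⟨hvE, hvx⟩ := mem_piece.1 v.2
      refine mem_piece.2 ⟨hc.conjE hgH hvE, ?_⟩
      rw [← e]
      calc g * y * g⁻¹ * (g * (v : G) * g⁻¹) = g * (y * v) * g⁻¹ := by group
        _ = g * ((v : G) * y) * g⁻¹ := by rw [hvx]
        _ = g * (v : G) * g⁻¹ * (g * y * g⁻¹) := by group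
  set F0 := c.Piece x
  set F1 := c.Piece (x * p)
  set F2 := c.Piece (x * p * p)
  have e1 : Nat.card F1 = Nat.card F0 := hcard x t
  have e2 : Nat.card F2 = Nat.card F0 := (hcard _ t1).trans e1
  have hK : c.E ⊓ centralizer (F0 : Set G) = F1 ⊔ F2 := by
    refine le_antisymm ?_ (sup_le ?_ ?_)
    · intro v hv
      obtain ⟨hvE, hvc⟩ := mem_inf.1 hv
      have hm0 := hc.proj_mem t.xH t.x3 hvE
      have hm1 := hc.proj_mem t1.xH t1.x3 hvE
      have hm2 := hc.proj_mem t2.xH t2.x3 hvE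
      have hdec := t.decomp hc hvE
      have ht0 : proj x v ∈ zpowers c.z := by
        refine t.nondeg hc _ hm0 fun b hb => ?_
        refine commutatorElement_eq_one_iff_mul_comm.1 ?_
        have hv1 : ⁅v, b⁆ = 1 := commutatorElement_eq_one_iff_mul_comm.2
          (mem_centralizer_iff.1 hvc b hb).symm
        rw [hc.bz_congr_left (mul_mem (mul_mem (mem_piece.1 hm0).1 (mem_piece.1 hm1).1)
          (mem_piece.1 hm2).1) (mem_piece.1 hb).1 hdec,
          hc.bz_mul_left (mul_mem (mem_piece.1 hm0).1 (mem_piece.1 hm1).1) (mem_piece.1 hm2).1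
            (mem_piece.1 hb).1,
          hc.bz_mul_left (mem_piece.1 hm0).1 (mem_piece.1 hm1).1 (mem_piece.1 hb).1,
          commutatorElement_eq_one_iff_mul_comm.2 (t.orth' hc hm2 hb), mul_one,
          commutatorElement_eq_one_iff_mul_comm.2 (t.orth hc hb hm1).symm, mul_one] at hv1
        exact hv1
      have hz : c.z ∈ F1 ⊔ F2 := mem_sup_left (hc.piece_stable t1.xC).z_mem
      have hzp : ∀ g ∈ zpowers c.z, g ∈ F1 ⊔ F2 := fun g hg => (zpowers_le.2 hz) hg
      have hprod : proj x v * proj (x * p) v * proj (x * p * p) v ∈ F1 ⊔ F2 :=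
        mul_mem (mul_mem (hzp _ ht0) (mem_sup_left hm1)) (mem_sup_right hm2)
      rcases hdec with e | e <;> rw [e]
      · exact hprod
      · exact mul_mem hz hprod
    · exact fun a ha => mem_inf.2 ⟨(mem_piece.1 ha).1, mem_centralizer_iff.2 fun b hb => t.orth hc hb ha⟩
    · exact fun a ha => mem_inf.2 ⟨(mem_piece.1 ha).1,
        mem_centralizer_iff.2 fun b hb => (t.orth' hc ha hb).symm⟩
  have h12 := card_sup_of_commute F1 F2 (fun a ha b hb => t1.orth hc ha hb)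
  have hinf : F1 ⊓ F2 = zpowers c.z := by
    refine le_antisymm (fun a ha => ?_)
      (zpowers_le.2 (mem_inf.2 ⟨(hc.piece_stable t1.xC).z_mem, (hc.piece_stable t2.xC).z_mem⟩))
    obtain ⟨ha1, ha2⟩ := mem_inf.1 ha
    obtain ⟨haE, h1⟩ := mem_piece.1 ha1
    obtain ⟨-, h2⟩ := mem_piece.1 ha2
    refine hc.fpf t.pP t.p1 haE (Or.inl ?_)
    have : p * a = a * p := by
      calc p * a = (x * p)⁻¹ * (x * p * p * a) := by group
        _ = (x * p)⁻¹ * (a * (x * p * p)) := by rw [h2]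
        _ = (x * p)⁻¹ * (a * (x * p)) * p := by group
        _ = (x * p)⁻¹ * (x * p * a) * p := by rw [h1]
        _ = a * p := by group
    rw [this]; group
  rw [hinf, Nat.card_zpowers, hc.ord, e1, e2] at h12
  have h := hc.card_cent F0 inf_le_left (hc.piece_stable t.xC).z_mem
  rw [hK] at h
  have : Nat.card F0 ^ 3 = 32 ^ 3 := by
    have : Nat.card ↥(F1 ⊔ F2) * Nat.card F0 * 2 = 2 ^ 15 := by rw [h]; norm_num
    calc Nat.card F0 ^ 3 = Nat.card F0 * Nat.card F0 * Nat.card F0 := by ring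
      _ = Nat.card ↥(F1 ⊔ F2) * 2 * Nat.card F0 := by rw [h12]
      _ = 32 ^ 3 := by rw [mul_right_comm, this]; norm_num
  exact Nat.pow_left_injective (by norm_num) this

/-- Nine singular points: twenty elements of square 1. -/
theorem count (t : c.Trip x p) (hc : c.Ok) (hd : AutData A M) :
    Nat.card {v : c.Piece x // (v : G) * v = 1} = 20 :=
  hc.count32 (hc.piece_stable t.xC) (t.nondeg hc) (t.card_piece hc hd)

end Trip

end Ctx

end Cfsg.Agent.H43.JFour
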