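import Cfsg.Agent.H43.J4.Pieces

/-!
# The fixed spaces of involutions of `H` on `E/⟨z⟩`

Inner involutions fix a space of order `2^8`, outer ones one of order `2^6`.
-/

set_option autoImplicit false

namespace Cfsg.Agent.H43.JFour

open Subgroup
open scoped commutatorElement

universe u v

variable {G : Type u} [Group G] [Finite G] {A : Type v} [Group A] {M : Subgroup A} {c : Ctx G A}

theorem fin_three_bool : ∀ s : Fin 3, ∀ a b d : Bool,
    (∀ i : Fin 3, ∃ j : Fin 3, ![a, b, d] (i - j * s) = true) →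
    (∀ j : Fin 3, ∃ i : Fin 3, ![a, b, d] (i - j * s) = false) →
    (∀ i j : Fin 3, ![a, b, d] (i - j * s) = true → ![a, b, d] (i - (j + 1) * s) = true →
      ![a, b, d] (i - (j + 2) * s) = true) →
    ∃ i : Fin 3, ![a, b, d] i = true ∧ ![a, b, d] (i + 1) = false ∧ ![a, b, d] (i + 2) = false := by
  decide +kernel

theorem fin_three_comb (s : Fin 3) (T : Fin 3 → Fin 3 → Bool) (h1 : ∀ i, ∃ j, T i j = true)
    (h2 : ∀ j, ∃ i, T i j = false) (h3 : ∀ i j, T i j = T (i + s) (j + 1))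
    (h4 : ∀ i j, T i j = true → T i (j + 1) = true → T i (j + 2) = true) :
    ∃ i, T i 0 = true ∧ T (i + 1) 0 = false ∧ T (i + 2) 0 = false := by
  have hT : ∀ i j, T i j = ![T 0 0, T 1 0, T 2 0] (i - j * s) := by
    have hf : ∀ i, ![T 0 0, T 1 0, T 2 0] i = T i 0 := by intro i; fin_cases i <;> rfl
    intro i j
    rw [hf]
    have e1 : T i 1 = T (i - s) 0 := by rw [h3 (i - s) 0, sub_add_cancel, zero_add]
    fin_cases j
    · simp
    · simpa using e1
    · show T i 2 = T (i - 2 * s) 0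
      rw [h3 (i - 2 * s) 0, h3 (i - 2 * s + s) (0 + 1)]
      have key : ∀ i s : Fin 3, i - 2 * s + s + s = i := by decide
      rw [key]
      rfl
  obtain ⟨i, hi⟩ := fin_three_bool s (T 0 0) (T 1 0) (T 2 0)
    (fun i => (h1 i).imp fun j hj => hT i j ▸ hj) (fun j => (h2 j).imp fun i hi => hT i j ▸ hi)
    (fun i j ha hb => hT i (j + 2) ▸ h4 i j (hT i j ▸ ha) (hT i (j + 1) ▸ hb))
  refine ⟨i, ?_⟩
  have hf : ∀ i, ![T 0 0, T 1 0, T 2 0] i = T i 0 := by intro i; fin_cases i <;> rfl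
  simpa [hf] using hi

namespace Ctx

/-- A lift of an inner involution: `a ∈ C` with square in `⟨z⟩`. -/
def Lift (c : Ctx G A) (a : G) (α : A) : Prop := a ∈ c.C ∧ (a * a = 1 ∨ a * a = c.z) ∧ c.pr a = α

/-- `h` is trivial on `F` modulo `z`. -/
def TrivOn (c : Ctx G A) (h : G) (F : Subgroup G) : Prop := ∀ v ∈ F, c.Eqz v (h * v * h⁻¹)

omit [Finite G] in
theorem Ok.eqz_act (hc : c.Ok) {a b v : G} (e : c.Eqz a b) (hv : v ∈ c.E) (ha : a ∈ c.H) :
    b * v * b⁻¹ = a * v * a⁻¹ := by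
  rcases e with rfl | rfl
  · rfl
  · rw [show c.z * a * v * (c.z * a)⁻¹ = c.z * (a * v * a⁻¹) * c.z⁻¹ by group,
      hc.z_comm (hc.conjE ha hv), mul_inv_cancel_right]

theorem Ok.lift_exists (hc : c.Ok) (hd : AutData A M) {α : A} (hα : α ∈ M) (h2 : α * α = 1) :
    ∃ a, c.Lift a α := by
  obtain ⟨n, hn, rfl⟩ := hc.C_surj hd hα
  have hnH := (mem_inf.1 hn).1
  have hn2 : c.pr (n * n) = 1 := by rw [hc.pr_mul _ hnH _ hnH, h2]
  obtain ⟨q, hq, e⟩ := hc.Nh_ker (c.C_le_Nh (mul_mem hn hn)) hn2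
  have hqn : Commute q n := hc.P_central hq hn
  -- the two-part of `n`
  refine ⟨n * q, mul_mem hn (hc.P_le_C hq), ?_, ?_⟩
  · have h1 : n * q * (n * q) = n * n * (q * q) := by
      calc n * q * (n * q) = n * (q * n) * q := by group
        _ = n * (n * q) * q := by rw [hqn.eq]
        _ = n * n * (q * q) := by group
    rw [h1]
    have h3 := hc.P_pow hq
    rcases e with e | e <;> rw [e]
    · left; rw [← mul_assoc, h3]
    · right; rw [show c.z * q * (q * q) = c.z * (q * q * q) by group, h3, mul_one]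
  · rw [hc.pr_mul _ hnH _ (hc.P_le hq), hc.pr_P hq, mul_one]

theorem Ok.lift_unique (hc : c.Ok) {a b : G} {α : A} (ha : c.Lift a α) (hb : c.Lift b α) :
    c.Eqz a b := by
  obtain ⟨haC, ha2, haα⟩ := ha
  obtain ⟨hbC, hb2, hbα⟩ := hb
  have haH := (mem_inf.1 haC).1
  have hk : c.pr (a⁻¹ * b) = 1 := by
    rw [hc.pr_mul _ (inv_mem haH) _ (mem_inf.1 hbC).1, hc.pr_inv haH, haα, hbα, inv_mul_cancel]
  obtain ⟨q, hq, e⟩ := hc.Nh_ker (c.C_le_Nh (mul_mem (inv_mem haC) hbC)) hk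
  have hqa : Commute q a := hc.P_central hq haC
  have hza : Commute c.z a := c.mem_H.1 haH
  have hbe : b = a * q ∨ b = c.z * (a * q) := by
    rcases e with e | e
    · exact Or.inl (by rw [← e]; group)
    · refine Or.inr ?_
      calc b = a * (a⁻¹ * b) := by group
        _ = (a * c.z) * q := by rw [e]; group
        _ = c.z * (a * q) := by rw [← hza.eq]; group
  have hq1 : q = 1 := by
    have h1 : b * b = a * a * (q * q) := by
      have h0 : a * q * (a * q) = a * a * (q * q) := by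
        calc a * q * (a * q) = a * (q * a) * q := by group
          _ = a * (a * q) * q := by rw [hqa.eq]
          _ = a * a * (q * q) := by group
      rcases hbe with rfl | rfl
      · exact h0
      · have hzc : Commute c.z (a * q) := c.mem_H.1 (mul_mem haH (hc.P_le hq))
        calc c.z * (a * q) * (c.z * (a * q)) = c.z * ((a * q) * c.z) * (a * q) := by group
          _ = (c.z * c.z) * ((a * q) * (a * q)) := by rw [← hzc.eq]; group
          _ = a * a * (q * q) := by rw [hc.z_sq, one_mul, h0]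
    have h4 : q * q = 1 ∨ q * q = c.z := by
      rcases ha2 with e1 | e1 <;> rcases hb2 with e2 | e2 <;> rw [e1, e2] at h1
      · exact Or.inl (by simpa using h1.symm)
      · exact Or.inr (by simpa using h1.symm)
      · refine Or.inr ?_
        rw [eq_comm, mul_eq_one_iff_inv_eq, hc.z_inv] at h1; exact h1.symm
      · exact Or.inl (by simpa using h1.symm)
    have h3 := hc.P_pow hq
    rcases h4 with h4 | h4
    · rwa [h4, one_mul] at h3
    · exfalso
      rw [h4] at h3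
      have hz : q = c.z := by rw [← hc.z_inv]; exact eq_inv_of_mul_eq_one_right h3
      rw [hz, hc.z_sq] at h4
      exact hc.z_ne h4.symm
  subst hq1
  rcases hbe with e | e <;> rw [mul_one] at e
  exacts [Or.inl e, Or.inr e]

theorem Ok.lift_conj (hc : c.Ok) {a n : G} {α : A} (ha : c.Lift a α) (hn : n ∈ c.C) :
    c.Lift (n * a * n⁻¹) (c.pr n * α * (c.pr n)⁻¹) := by
  obtain ⟨haC, ha2, haα⟩ := ha
  refine ⟨mul_mem (mul_mem hn haC) (inv_mem hn), ?_, ?_⟩
  · rw [show n * a * n⁻¹ * (n * a * n⁻¹) = n * (a * a) * n⁻¹ by group]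
    rcases ha2 with e | e <;> rw [e]
    · left; group
    · right; rw [← c.mem_H.1 (mem_inf.1 hn).1, mul_inv_cancel_right]
  · rw [hc.pr_conj (mem_inf.1 hn).1 (mem_inf.1 haC).1, haα]

theorem Ok.fixMod_conj (hc : c.Ok) {n h : G} (hn : n ∈ c.H) :
    Nat.card (hc.fixMod (n * h * n⁻¹)) = Nat.card (hc.fixMod h) := by
  refine Nat.card_congr
    { toFun := fun v => ⟨n⁻¹ * (v : G) * n, ?_⟩
      invFun := fun v => ⟨n * (v : G) * n⁻¹, ?_⟩
      left_inv := fun v => Subtype.ext (by show n * (n⁻¹ * (v : G) * n) * n⁻¹ = v; group)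
      right_inv := fun v => Subtype.ext (by show n⁻¹ * (n * (v : G) * n⁻¹) * n = v; group) }
  · obtain ⟨hvE, e⟩ := v.2
    refine ⟨by simpa using hc.conjE (c.H.inv_mem hn) hvE, ?_⟩
    have h1 := hc.eqz_conj (c.H.inv_mem hn) e
    rw [inv_inv] at h1
    rwa [show n⁻¹ * (n * h * n⁻¹ * (v : G) * (n * h * n⁻¹)⁻¹) * n = h * (n⁻¹ * (v : G) * n) * h⁻¹ by
      group] at h1
  · obtain ⟨hvE, e⟩ := v.2
    refine ⟨hc.conjE hn hvE, ?_⟩
    have h1 := hc.eqz_conj hn e
    rwa [show n * (h * (v : G) * h⁻¹) * n⁻¹ =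
      n * h * n⁻¹ * (n * (v : G) * n⁻¹) * (n * h * n⁻¹)⁻¹ by group] at h1

theorem Ok.fixMod_mul_left (hc : c.Ok) {e h : G} (he : e ∈ c.E) (hh : h ∈ c.H) :
    hc.fixMod (e * h) = hc.fixMod h := by
  ext v
  have key : v ∈ c.E → (c.Eqz v (e * h * v * (e * h)⁻¹) ↔ c.Eqz v (h * v * h⁻¹)) := fun hv => by
    have h1 : c.Eqz (h * v * h⁻¹) (e * h * v * (e * h)⁻¹) := by
      rw [show e * h * v * (e * h)⁻¹ = e * (h * v * h⁻¹) * e⁻¹ by group]
      exact hc.eqz_E_conj he (hc.conjE hh hv)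
    exact ⟨fun h2 => hc.eqz_trans h2 (hc.eqz_symm h1), fun h2 => hc.eqz_trans h2 h1⟩
  exact ⟨fun hv => ⟨hv.1, (key hv.1).1 hv.2⟩, fun hv => ⟨hv.1, (key hv.1).2 hv.2⟩⟩

theorem Ok.fixMod_eqz (hc : c.Ok) {a b : G} (e : c.Eqz a b) (ha : a ∈ c.H) :
    hc.fixMod b = hc.fixMod a := by
  rcases e with rfl | rfl
  · rfl
  · exact hc.fixMod_mul_left hc.z_mem ha

namespace Trip

variable {x p : G}

theorem act_P (t : c.Trip x p) (hc : c.Ok) {a : G} (ha : a ∈ c.C) {q v : G} (hq : q ∈ c.P) :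
    a * (q * v * q⁻¹) * a⁻¹ = q * (a * v * a⁻¹) * q⁻¹ := by
  calc a * (q * v * q⁻¹) * a⁻¹ = (a * q) * v * (a * q)⁻¹ := by group
    _ = (q * a) * v * (q * a)⁻¹ := by rw [hc.P_central hq ha]
    _ = q * (a * v * a⁻¹) * q⁻¹ := by group

theorem conj_piece (t : c.Trip x p) (hc : c.Ok) {a v : G} (ha : a ∈ c.C) (hax : a * x = x * a)
    (hv : v ∈ c.Piece x) : a * v * a⁻¹ ∈ c.Piece x := by
  obtain ⟨hvE, hvx⟩ := mem_piece.1 hv
  refine mem_piece.2 ⟨hc.conjE (mem_inf.1 ha).1 hvE, ?_⟩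
  have h2 : x * a⁻¹ = a⁻¹ * x := by
    calc x * a⁻¹ = a⁻¹ * (a * x) * a⁻¹ := by group
      _ = a⁻¹ * x := by rw [hax]; group
  calc x * (a * v * a⁻¹) = (x * a) * v * a⁻¹ := by group
    _ = a * (x * v) * a⁻¹ := by rw [← hax]; group
    _ = a * v * (x * a⁻¹) := by rw [hvx]; group
    _ = a * v * a⁻¹ * x := by rw [h2]; group

theorem stable_fix (t : c.Trip x p) (hc : c.Ok) {a : G} (ha : a ∈ c.C) :
    c.Stable (c.Piece x ⊓ hc.fixMod a) := by
  have hS := hc.piece_stable t.xC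
  refine ⟨inf_le_left.trans hS.le, mem_inf.2 ⟨hS.z_mem, hc.z_mem_fixMod (mem_inf.1 ha).1⟩, ?_⟩
  intro q hq v hv
  obtain ⟨hvF, hvE, e⟩ := mem_inf.1 hv
  refine mem_inf.2 ⟨hS.conj q hq v hvF, hc.conjE (hc.P_le hq) hvE, ?_⟩
  rw [t.act_P hc ha hq]
  exact hc.eqz_conj (hc.P_le hq) e

theorem card_cases (t : c.Trip x p) (hc : c.Ok) (hd : AutData A M) {X : Subgroup G}
    (hX : c.Stable X) (hle : X ≤ c.Piece x) :
    Nat.card X = 2 ∨ Nat.card X = 8 ∨ Nat.card X = 32 := by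
  have h3 := hc.stable_mod_three hX
  have h1 : Nat.card X ∣ 32 := t.card_piece hc hd ▸ Subgroup.card_dvd_of_le hle
  obtain ⟨k, hk, e⟩ := (Nat.dvd_prime_pow Nat.prime_two).1 (show Nat.card X ∣ 2 ^ 5 by simpa using h1)
  rw [e] at h3 ⊢
  interval_cases k <;> simp at h3 ⊢

theorem card_two (hc : c.Ok) {X : Subgroup G} (hX : c.Stable X) (h : Nat.card X = 2) :
    X = zpowers c.z :=
  (Subgroup.eq_of_le_of_card_ge (zpowers_le.2 hX.z_mem) (by rw [h, Nat.card_zpowers, hc.ord])).symm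

/-- The commutator of `v` with a moving element. -/
theorem cm_facts (t : c.Trip x p) (hc : c.Ok) {a v : G} (ha : a ∈ c.C)
    (h2 : a * a = 1 ∨ a * a = c.z) (hax : a * x = x * a) (hv : v ∈ c.Piece x)
    (hnv : ¬ c.Eqz v (a * v * a⁻¹)) :
    v * (a * v⁻¹ * a⁻¹) ∈ c.Piece x ⊓ hc.fixMod a ∧
      v * (a * v⁻¹ * a⁻¹) ∉ zpowers c.z := by
  have haH := (mem_inf.1 ha).1
  have hvE := (mem_piece.1 hv).1
  refine ⟨mem_inf.2 ⟨mul_mem hv (t.conj_piece hc ha hax (inv_mem hv)),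
    hc.imMod_le_fixMod haH (hc.involMod_of_sq h2) ⟨v, hvE, Eqz.refl c _⟩⟩, fun h => hnv ?_⟩
  have h1 := hc.eqz_one_iff.2 h
  have h3 := hc.eqz_mul (one_mem c.H) h1 (Eqz.refl c (a * v * a⁻¹))
  rw [one_mul, show v * (a * v⁻¹ * a⁻¹) * (a * v * a⁻¹) = v by group] at h3
  exact hc.eqz_symm h3

/-- A moving element fixes a subgroup of order 8. -/
theorem card_fix_eight (t : c.Trip x p) (hc : c.Ok) (hd : AutData A M) {a : G} (ha : a ∈ c.C)
    (h2 : a * a = 1 ∨ a * a = c.z) (hax : a * x = x * a) (hn : ¬ c.TrivOn a (c.Piece x)) :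
    Nat.card ↥(c.Piece x ⊓ hc.fixMod a) = 8 := by
  obtain ⟨v, hv, hnv⟩ : ∃ v ∈ c.Piece x, ¬ c.Eqz v (a * v * a⁻¹) := by
    by_contra h; push Not at h; exact hn h
  obtain ⟨hw, hwz⟩ := t.cm_facts hc ha h2 hax hv hnv
  rcases t.card_cases hc hd (t.stable_fix hc ha) inf_le_left with h | h | h
  · exact absurd (card_two hc (t.stable_fix hc ha) h ▸ hw) hwz
  · exact h
  · exfalso
    have := Subgroup.eq_of_le_of_card_ge (inf_le_left : c.Piece x ⊓ hc.fixMod a ≤ c.Piece x)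
      (by rw [h, t.card_piece hc hd])
    exact hnv (mem_inf.1 (this.symm ▸ hv : v ∈ c.Piece x ⊓ hc.fixMod a)).2.2

/-- The fixed group of a moving element is self-centralising in the piece and consists of involutions. -/
theorem fix_struct (t : c.Trip x p) (hc : c.Ok) (hd : AutData A M) {a : G} (ha : a ∈ c.C)
    (h2 : a * a = 1 ∨ a * a = c.z) (hax : a * x = x * a) (hn : ¬ c.TrivOn a (c.Piece x)) :
    c.Piece x ⊓ centralizer ((c.Piece x ⊓ hc.fixMod a : Subgroup G) : Set G) =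
        c.Piece x ⊓ hc.fixMod a ∧
      ∀ v ∈ c.Piece x ⊓ hc.fixMod a, v * v = 1 := by
  set K := c.Piece x ⊓ hc.fixMod a with hK
  have haH := (mem_inf.1 ha).1
  have hKS := t.stable_fix hc ha
  have hFS := hc.piece_stable t.xC
  have h8 := t.card_fix_eight hc hd ha h2 hax hn
  have hi := hc.involMod_of_sq h2
  set J := c.Piece x ⊓ hc.imMod a haH with hJ
  have hJS : c.Stable J := by
    refine ⟨inf_le_left.trans hFS.le, mem_inf.2 ⟨hFS.z_mem, hc.z_mem_imMod haH⟩, fun q hq w hw => ?_⟩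
    obtain ⟨hwF, v, hv, e⟩ := mem_inf.1 hw
    refine mem_inf.2 ⟨hFS.conj q hq w hwF, q * v * q⁻¹, hc.conjE (hc.P_le hq) hv, ?_⟩
    rw [show q * v * q⁻¹ * (a * (q * v * q⁻¹)⁻¹ * a⁻¹) = q * v * q⁻¹ * (a * (q * v⁻¹ * q⁻¹) * a⁻¹) by
      group, t.act_P hc ha hq,
      show q * v * q⁻¹ * (q * (a * v⁻¹ * a⁻¹) * q⁻¹) = q * (v * (a * v⁻¹ * a⁻¹)) * q⁻¹ by group]
    exact hc.eqz_conj (hc.P_le hq) e
  have hJK : J ≤ K := inf_le_inf le_rfl (hc.imMod_le_fixMod haH hi)
  obtain ⟨v, hv, hnv⟩ : ∃ v ∈ c.Piece x, ¬ c.Eqz v (a * v * a⁻¹) := by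
    by_contra h; push Not at h; exact hn h
  obtain ⟨hw, hwz⟩ := t.cm_facts hc ha h2 hax hv hnv
  have hwJ : v * (a * v⁻¹ * a⁻¹) ∈ J :=
    mem_inf.2 ⟨(mem_inf.1 hw).1, v, (mem_piece.1 hv).1, Eqz.refl c _⟩
  have hJeq : J = K := by
    refine Subgroup.eq_of_le_of_card_ge hJK ?_
    rw [h8]
    rcases t.card_cases hc hd hJS inf_le_left with h | h | h
    · exact absurd (card_two hc hJS h ▸ hwJ) hwz
    · omega
    · omega
  have hab : ∀ k ∈ K, ∀ l ∈ K, k * l = l * k := by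
    intro k hk l hl
    rw [← hJeq] at hl
    have h := (mem_inf.1 hk).2
    rw [hc.fixMod_eq haH hi] at h
    exact (mem_centralizer_iff.1 (mem_inf.1 h).2 l (mem_inf.1 hl).2).symm
  refine ⟨?_, fun k hk => ?_⟩
  · set X := c.Piece x ⊓ centralizer (K : Set G) with hX
    have hKX : K ≤ X := fun k hk => mem_inf.2 ⟨(mem_inf.1 hk).1,
      mem_centralizer_iff.2 fun l hl => hab l hl k hk⟩
    have hXS : c.Stable X := by
      refine ⟨inf_le_left.trans hFS.le, hKX hKS.z_mem, fun q hq w hw => ?_⟩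
      obtain ⟨hwF, hwc⟩ := mem_inf.1 hw
      refine mem_inf.2 ⟨hFS.conj q hq w hwF, mem_centralizer_iff.2 fun l hl => ?_⟩
      have h3 := hKS.conj q⁻¹ (inv_mem hq) l hl
      rw [inv_inv] at h3
      have := mem_centralizer_iff.1 hwc _ h3
      calc l * (q * w * q⁻¹) = q * ((q⁻¹ * l * q) * w) * q⁻¹ := by group
        _ = q * (w * (q⁻¹ * l * q)) * q⁻¹ := by rw [this]
        _ = q * w * q⁻¹ * l := by group
    refine (Subgroup.eq_of_le_of_card_ge hKX ?_).symm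
    rw [h8]
    rcases t.card_cases hc hd hXS inf_le_left with h | h | h
    · omega
    · omega
    · exfalso
      have hXF : X = c.Piece x :=
        Subgroup.eq_of_le_of_card_ge inf_le_left (by rw [h, t.card_piece hc hd])
      have hKz : K ≤ zpowers c.z := fun k hk =>
        t.nondeg hc k (mem_inf.1 hk).1 fun b hb => by
          have : b ∈ X := hXF.symm ▸ hb
          exact mem_centralizer_iff.1 (mem_inf.1 this).2 k hk
      have := Subgroup.card_dvd_of_le hKz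
      rw [h8, Nat.card_zpowers, hc.ord] at this
      omega
  · obtain ⟨q, hq, hq1⟩ : ∃ q ∈ c.P, q ≠ 1 := ⟨p, t.pP, t.p1⟩
    have hkE := hKS.le hk
    have k1 := hKS.conj q hq k hk
    set k1' := q * k * q⁻¹ with hk1'
    have k2 := hKS.conj q hq k1' k1
    set k2' := q * k1' * q⁻¹ with hk2'
    have sq1 : k1' * k1' = k * k := by
      rw [hk1', show q * k * q⁻¹ * (q * k * q⁻¹) = q * (k * k) * q⁻¹ by group]
      rcases hc.sq_mem hkE with e | e <;> rw [e]
      · group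
      · rw [← c.mem_H.1 (hc.P_le hq), mul_inv_cancel_right]
    have sq2 : k2' * k2' = k * k := by
      rw [hk2', show q * k1' * q⁻¹ * (q * k1' * q⁻¹) = q * (k1' * k1') * q⁻¹ by group, sq1]
      rcases hc.sq_mem hkE with e | e <;> rw [e]
      · group
      · rw [← c.mem_H.1 (hc.P_le hq), mul_inv_cancel_right]
    have e := hc.orbit_prod hq hq1 hkE
    rw [← hk1', ← hk2'] at e
    have hsq : k * k1' * (k * k1') = k * k * (k1' * k1') := by
      calc k * k1' * (k * k1') = k * (k1' * k) * k1' := by group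
        _ = k * (k * k1') * k1' := by rw [hab k1' k1 k hk]
        _ = k * k * (k1' * k1') := by group
    have hone : k * k1' * (k * k1') = 1 := by
      rw [hsq, sq1]; rcases hc.sq_mem hkE with f | f <;> rw [f] <;> simp [hc.z_sq]
    have hk2inv : k * k1' = k2'⁻¹ ∨ k * k1' = c.z * k2'⁻¹ := by
      rcases hc.eqz_cases e with f | f
      · exact Or.inl (eq_inv_of_mul_eq_one_left f)
      · exact Or.inr (by rw [← f]; group)
    rw [← sq2]
    have hz := hc.z_comm (inv_mem (hKS.le k2))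
    have : (k2' * k2')⁻¹ = 1 := by
      rcases hk2inv with f | f <;> rw [f] at hone
      · rw [_root_.mul_inv_rev]; exact hone
      · rw [_root_.mul_inv_rev]
        calc k2'⁻¹ * k2'⁻¹ = (c.z * c.z) * (k2'⁻¹ * k2'⁻¹) := by rw [hc.z_sq, one_mul]
          _ = c.z * (c.z * k2'⁻¹) * k2'⁻¹ := by group
          _ = c.z * (k2'⁻¹ * c.z) * k2'⁻¹ := by rw [hz]
          _ = 1 := by rw [← hone]; group
    exact inv_eq_one.1 this

/-- Two commuting elements moving a piece have a product fixing it. -/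
theorem pair (t : c.Trip x p) (hc : c.Ok) (hd : AutData A M) {a b : G} (ha : a ∈ c.C) (hb : b ∈ c.C)
    (ha2 : a * a = 1 ∨ a * a = c.z) (hb2 : b * b = 1 ∨ b * b = c.z)
    (hax : a * x = x * a) (hbx : b * x = x * b) (hab : c.Eqz (a * b) (b * a))
    (hna : ¬ c.TrivOn a (c.Piece x)) (hnb : ¬ c.TrivOn b (c.Piece x)) :
    c.TrivOn (a * b) (c.Piece x) := by
  set F := c.Piece x with hF
  set K := F ⊓ hc.fixMod a with hKdef
  have haH := (mem_inf.1 ha).1
  have hbH := (mem_inf.1 hb).1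
  have hKS := t.stable_fix hc ha
  have h8 := t.card_fix_eight hc hd ha ha2 hax hna
  have h8b := t.card_fix_eight hc hd hb hb2 hbx hnb
  have hbK : ∀ k ∈ K, b * k * b⁻¹ ∈ K := by
    intro k hk
    obtain ⟨hkF, hkE, e⟩ := mem_inf.1 hk
    refine mem_inf.2 ⟨t.conj_piece hc hb hbx hkF, hc.conjE hbH hkE, ?_⟩
    have h1 : c.Eqz (b * k * b⁻¹) (b * (a * k * a⁻¹) * b⁻¹) := hc.eqz_conj hbH e
    rw [show b * (a * k * a⁻¹) * b⁻¹ = (b * a) * k * (b * a)⁻¹ by group,
      hc.eqz_act hab hkE (mul_mem haH hbH),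
      show a * b * k * (a * b)⁻¹ = a * (b * k * b⁻¹) * a⁻¹ by group] at h1
    exact h1
  have hKb : F ⊓ hc.fixMod b = K := by
    by_contra hne
    set I := K ⊓ hc.fixMod b with hI
    have hIS : c.Stable I := by
      refine ⟨inf_le_left.trans hKS.le, mem_inf.2 ⟨hKS.z_mem, hc.z_mem_fixMod hbH⟩, fun q hq w hw => ?_⟩
      obtain ⟨hwK, hwb⟩ := mem_inf.1 hw
      exact mem_inf.2 ⟨hKS.conj q hq w hwK,
        (mem_inf.1 ((t.stable_fix hc hb).conj q hq w (mem_inf.2 ⟨(mem_inf.1 hwK).1, hwb⟩))).2⟩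
    obtain ⟨k, hk, hnk⟩ : ∃ k ∈ K, ¬ c.Eqz k (b * k * b⁻¹) := by
      by_contra h
      push Not at h
      refine hne (Subgroup.eq_of_le_of_card_ge ?_ (le_of_eq (by rw [h8, h8b]))).symm
      exact fun k hk => mem_inf.2 ⟨(mem_inf.1 hk).1, (mem_inf.1 hk).2.1, h k hk⟩
    obtain ⟨hw, hwz⟩ := t.cm_facts hc hb hb2 hbx (mem_inf.1 hk).1 hnk
    have hwK : k * (b * k⁻¹ * b⁻¹) ∈ K := mul_mem hk (hbK _ (inv_mem hk))
    have hwI : k * (b * k⁻¹ * b⁻¹) ∈ I := mem_inf.2 ⟨hwK, (mem_inf.1 hw).2⟩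
    have hIne : Nat.card I = 8 := by
      rcases t.card_cases hc hd hIS (inf_le_left.trans inf_le_left) with h | h | h
      · exact absurd (card_two hc hIS h ▸ hwI) hwz
      · exact h
      · have := Subgroup.card_dvd_of_le (inf_le_left : I ≤ K)
        rw [h, h8] at this; omega
    have hIK : I = K := Subgroup.eq_of_le_of_card_ge inf_le_left (by rw [hIne, h8])
    exact hnk (mem_inf.1 (hIK.symm ▸ hk : k ∈ I)).2.2
  obtain ⟨hcent, hinv⟩ := t.fix_struct hc hd ha ha2 hax hna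
  intro v hv
  have hvE := (mem_piece.1 hv).1
  by_cases hvK : v ∈ K
  · have h1 : c.Eqz v (b * v * b⁻¹) := (mem_inf.1 (hKb.symm ▸ hvK : v ∈ F ⊓ hc.fixMod b)).2.2
    have h2 := hc.eqz_conj haH h1
    rw [show a * (b * v * b⁻¹) * a⁻¹ = a * b * v * (a * b)⁻¹ by group] at h2
    exact hc.eqz_trans (mem_inf.1 hvK).2.2 h2
  have hva : ¬ c.Eqz v (a * v * a⁻¹) := fun e => hvK (mem_inf.2 ⟨hv, hvE, e⟩)
  have hvb : ¬ c.Eqz v (b * v * b⁻¹) := fun e => hvK (hKb ▸ mem_inf.2 ⟨hv, hvE, e⟩)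
  obtain ⟨hwa, hwaz⟩ := t.cm_facts hc ha ha2 hax hv hva
  obtain ⟨hwb', hwbz⟩ := t.cm_facts hc hb hb2 hbx hv hvb
  have hwb : v * (b * v⁻¹ * b⁻¹) ∈ K := hKb ▸ hwb'
  have hcomm : ∀ {g : G}, g ∈ c.C → v * (g * v⁻¹ * g⁻¹) ∈ K →
      v * (v * (g * v⁻¹ * g⁻¹)) = v * (g * v⁻¹ * g⁻¹) * v := by
    intro g hg hw
    set w := v * (g * v⁻¹ * g⁻¹) with hwdef
    have h1 := hinv w hw
    have h2 : (v⁻¹ * w) * (v⁻¹ * w) = v⁻¹ * v⁻¹ := by
      rw [show v⁻¹ * w = g * v⁻¹ * g⁻¹ by rw [hwdef]; group,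
        show g * v⁻¹ * g⁻¹ * (g * v⁻¹ * g⁻¹) = g * (v * v)⁻¹ * g⁻¹ by group,
        show v⁻¹ * v⁻¹ = (v * v)⁻¹ by group]
      rcases hc.sq_mem hvE with e | e <;> rw [e]
      · group
      · rw [hc.z_inv, ← c.mem_H.1 (mem_inf.1 hg).1, mul_inv_cancel_right]
    have h3 : w * v⁻¹ * w = v⁻¹ := by
      calc w * v⁻¹ * w = v * (v⁻¹ * w * (v⁻¹ * w)) := by group
        _ = v⁻¹ := by rw [h2]; group
    have h4 : w⁻¹ = w := inv_eq_of_mul_eq_one_left h1
    have h5 : w * v⁻¹ = v⁻¹ * w := by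
      calc w * v⁻¹ = (w * v⁻¹ * w) * w⁻¹ := by group
        _ = v⁻¹ * w := by rw [h3, h4]
    calc v * w = v * (w * v⁻¹) * v := by group
      _ = v * (v⁻¹ * w) * v := by rw [h5]
      _ = w * v := by group
  set wa := v * (a * v⁻¹ * a⁻¹) with hwadef
  set wb := v * (b * v⁻¹ * b⁻¹) with hwbdef
  set Kv := K ⊓ centralizer ({v} : Set G) with hKv
  have hwaV : wa ∈ Kv := mem_inf.2 ⟨hwa, mem_centralizer_iff.2 fun g hg => by
    rw [Set.mem_singleton_iff] at hg; subst hg; exact hcomm ha hwa⟩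
  have hwbV : wb ∈ Kv := mem_inf.2 ⟨hwb, mem_centralizer_iff.2 fun g hg => by
    rw [Set.mem_singleton_iff] at hg; subst hg; exact hcomm hb hwb⟩
  have hzV : c.z ∈ Kv := mem_inf.2 ⟨hKS.z_mem, mem_centralizer_iff.2 fun g hg => by
    rw [Set.mem_singleton_iff] at hg; subst hg; exact (hc.z_comm hvE).symm⟩
  have hKv4 : Nat.card Kv ≤ 4 := by
    have hne : Kv ≠ K := fun e => by
      apply hvK
      have h0 : v ∈ c.Piece x ⊓ centralizer (K : Set G) := mem_inf.2 ⟨hv,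
        mem_centralizer_iff.2 fun l hl => by
          have : l ∈ Kv := e.symm ▸ hl
          exact (mem_centralizer_iff.1 (mem_inf.1 this).2 v rfl).symm⟩
      rwa [hcent] at h0
    have hd' := Subgroup.card_dvd_of_le (inf_le_left : Kv ≤ K)
    have hlt : Nat.card Kv < Nat.card K := by
      refine lt_of_le_of_ne (Nat.le_of_dvd Nat.card_pos hd') fun e => hne ?_
      exact Subgroup.eq_of_le_of_card_ge inf_le_left e.ge
    rw [h8] at hd' hlt
    obtain ⟨k, -, e⟩ := (Nat.dvd_prime_pow Nat.prime_two).1 (show Nat.card Kv ∣ 2 ^ 3 from hd')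
    rw [e] at hlt ⊢
    rcases k with _ | _ | _ | k
    · norm_num
    · norm_num
    · norm_num
    · exfalso
      rw [pow_succ, pow_succ, pow_succ] at hlt
      have := Nat.one_le_two_pow (n := k)
      omega
  have heq : c.Eqz wa wb := by
    by_contra hne
    haveI : Fintype Kv := Fintype.ofFinite Kv
    have hsub : 5 ≤ Fintype.card Kv := by
      let f : Fin 5 → Kv := ![1, ⟨c.z, hzV⟩, ⟨wa, hwaV⟩, ⟨c.z * wa, mul_mem hzV hwaV⟩, ⟨wb, hwbV⟩]
      have n1 : wa ≠ 1 := fun e => hwaz (e ▸ one_mem _)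
      have n2 : wa ≠ c.z := fun e => hwaz (e ▸ mem_zpowers _)
      have n3 : c.z * wa ≠ 1 := fun e => n2 (by rw [← hc.z_inv]; exact (inv_eq_of_mul_eq_one_right e).symm)
      have n4 : c.z * wa ≠ c.z := fun e => n1 (mul_left_cancel (e.trans (mul_one _).symm))
      have n5 : c.z * wa ≠ wa := fun e => hc.z_ne (mul_right_cancel (e.trans (one_mul _).symm))
      have n6 : wb ≠ 1 := fun e => hwbz (e ▸ one_mem _)
      have n7 : wb ≠ c.z := fun e => hwbz (e ▸ mem_zpowers _)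
      have n8 : wb ≠ wa := fun e => hne (Or.inl e)
      have n9 : wb ≠ c.z * wa := fun e => hne (Or.inr e)
      have hf : Function.Injective f := by
        intro i j e
        have e' : ((f i : G)) = f j := congrArg Subtype.val e
        fin_cases i <;> fin_cases j <;> simp [f] at e' ⊢ <;>
          first
            | exact hc.z_ne e' | exact hc.z_ne e'.symm
            | exact n1 e' | exact n1 e'.symm | exact n2 e' | exact n2 e'.symm
            | exact n3 e' | exact n3 e'.symm | exact n4 e' | exact n4 e'.symm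
            | exact n5 e' | exact n5 e'.symm | exact n6 e' | exact n6 e'.symm
            | exact n7 e' | exact n7 e'.symm | exact n8 e' | exact n8 e'.symm
            | exact n9 e' | exact n9 e'.symm
      simpa using Fintype.card_le_of_injective f hf
    rw [Nat.card_eq_fintype_card] at hKv4
    omega
  have hwaE := hKS.le hwa
  have hwbE := hKS.le hwb
  have e1 : c.Eqz (wb * v) (b * v * b⁻¹) := by
    have : b * v * b⁻¹ = wb⁻¹ * v := by rw [hwbdef]; group
    rw [this]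
    exact hc.eqz_mul (hc.le_H hwbE) (hc.eqz_inv_self hwbE) (Eqz.refl c v)
  have e2 : c.Eqz (wa * v) (a * v * a⁻¹) := by
    have : a * v * a⁻¹ = wa⁻¹ * v := by rw [hwadef]; group
    rw [this]
    exact hc.eqz_mul (hc.le_H hwaE) (hc.eqz_inv_self hwaE) (Eqz.refl c v)
  have e3 : c.Eqz wa (a * wb * a⁻¹) :=
    hc.eqz_trans heq (mem_inf.1 hwb).2.2
  have e4 : c.Eqz (wa * (wa * v)) (a * b * v * (a * b)⁻¹) := by
    refine hc.eqz_trans (hc.eqz_mul (hc.le_H hwaE) e3 e2) ?_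
    rw [show a * wb * a⁻¹ * (a * v * a⁻¹) = a * (wb * v) * a⁻¹ by group,
      show a * b * v * (a * b)⁻¹ = a * (b * v * b⁻¹) * a⁻¹ by group]
    exact hc.eqz_conj haH e1
  rwa [← mul_assoc, hinv wa hwa, one_mul] at e4

end Trip

end Ctx

end Cfsg.Agent.H43.JFour
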