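import Cfsg.Agent.H43.J4.Basic
import Cfsg.Agent.PGroups.Extraspecial

/-!
# Frattini decomposition of `H = C(z)` and the position of `C = C_H(P)`
-/

set_option autoImplicit false

namespace Cfsg.Agent.H43.JFour

open Subgroup

universe u v

variable {G : Type u} [Group G] [Finite G] {A : Type v} [Group A] {M : Subgroup A} {c : Ctx G A}

namespace Ctx

/-- Subgroups of order three of `N = E P` are `E`-conjugate to `P`. -/
theorem Ok.conj_P_of_le (hc : c.Ok) {Q : Subgroup G} (hQ : Q ≤ c.E ⊔ c.P) (hQc : Nat.card Q = 3) :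
    ∃ e ∈ c.E, c.P.map (MulAut.conj e).toMonoidHom = Q := by
  haveI : Fact (Nat.Prime 3) := ⟨Nat.prime_three⟩
  set N : Subgroup G := c.E ⊔ c.P with hN
  have hf : (Nat.card N).factorization 3 = 1 := by
    rw [hc.cardN, Nat.factorization_mul (by norm_num) (by norm_num), Nat.factorization_pow]
    simp [Nat.prime_three.factorization, Nat.prime_two.factorization]
  have hPN : c.P ≤ N := le_sup_right
  let S₁ : Sylow 3 N := Sylow.ofCard (c.P.subgroupOf N) (by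
    rw [Nat.card_congr (subgroupOfEquivOfLe hPN).toEquiv, hc.cardP, hf, pow_one])
  let S₂ : Sylow 3 N := Sylow.ofCard (Q.subgroupOf N) (by
    rw [Nat.card_congr (subgroupOfEquivOfLe hQ).toEquiv, hQc, hf, pow_one])
  obtain ⟨n, hn⟩ := MulAction.exists_smul_eq N S₁ S₂
  have hnc : ∀ x : G, x ∈ c.P → (n : G) * x * (n : G)⁻¹ ∈ Q := by
    intro x hx
    have h1 : MulAut.conj n ⟨x, hPN hx⟩ ∈ (S₂ : Subgroup N) := by
      rw [← hn, Sylow.coe_subgroup_smul]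
      exact Subgroup.smul_mem_pointwise_smul _ (MulAut.conj n) _ hx
    exact h1
  obtain ⟨e, he, p, hp, hep⟩ := exists_mul_of_mem_sup hc.P_norm (hN ▸ n.2 : (n : G) ∈ c.E ⊔ c.P)
  refine ⟨e, he, Subgroup.eq_of_le_of_card_ge ?_ ?_⟩
  · rintro _ ⟨x, hx, rfl⟩
    have h2 := hnc (p⁻¹ * x * p) (mul_mem (mul_mem (inv_mem hp) hx) hp)
    show e * x * e⁻¹ ∈ Q
    rwa [hep, show e * p * (p⁻¹ * x * p) * (e * p)⁻¹ = e * x * e⁻¹ by group] at h2
  · rw [hQc, Subgroup.card_map_of_injective (MulAut.conj e).injective, hc.cardP]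

/-- Frattini: `H = E N_H(P)`. -/
theorem Ok.frattini (hc : c.Ok) {h : G} (hh : h ∈ c.H) : ∃ e ∈ c.E, ∃ n ∈ c.Nh, h = e * n := by
  have hQ : c.P.map (MulAut.conj h).toMonoidHom ≤ c.E ⊔ c.P := by
    rintro _ ⟨x, hx, rfl⟩
    have hxH : h * x * h⁻¹ ∈ c.H := mul_mem (mul_mem hh (hc.P_le hx)) (inv_mem hh)
    refine (hc.pr_ker _ hxH).1 ?_
    rw [hc.pr_conj hh (hc.P_le hx), hc.pr_P hx, mul_one, mul_inv_cancel]
  obtain ⟨e, he, hmap⟩ := hc.conj_P_of_le hQ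
    (by rw [Subgroup.card_map_of_injective (MulAut.conj h).injective]; exact hc.cardP)
  refine ⟨e, he, e⁻¹ * h, mem_inf.2 ⟨c.H.mul_mem (c.H.inv_mem (hc.le_H he)) hh, ?_⟩, by group⟩
  refine mem_normalizer_iff.2 fun x => ?_
  have key : ∀ y, y ∈ c.P.map (MulAut.conj h).toMonoidHom ↔ e⁻¹ * y * e ∈ c.P := fun y => by
    rw [← hmap]; exact mem_conj_map _ _ _
  have := key (h * x * h⁻¹)
  rw [mem_conj_map, show h⁻¹ * (h * x * h⁻¹) * h = x by group] at this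
  rw [this, show e⁻¹ * (h * x * h⁻¹) * e = e⁻¹ * h * x * (e⁻¹ * h)⁻¹ by group]

theorem Ok.Nh_surj (hc : c.Ok) (α : A) : ∃ n ∈ c.Nh, c.pr n = α := by
  obtain ⟨h, hh, rfl⟩ := hc.pr_surj α
  obtain ⟨e, he, n, hn, rfl⟩ := hc.frattini hh
  exact ⟨n, hn, by rw [hc.pr_mul _ (hc.le_H he) _ hn.1, hc.pr_E he, one_mul]⟩

/-- The kernel of the projection on `N_H(P)` is `⟨z⟩ P`. -/
theorem Ok.Nh_ker (hc : c.Ok) {h : G} (hh : h ∈ c.Nh) (h1 : c.pr h = 1) :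
    ∃ p ∈ c.P, h = p ∨ h = c.z * p := by
  obtain ⟨e, he, p, hp, rfl⟩ := exists_mul_of_mem_sup hc.P_norm ((hc.pr_ker h hh.1).1 h1)
  have hpN : p ∈ c.Nh := c.C_le_Nh (hc.P_le_C hp)
  have : e ∈ c.E ⊓ c.Nh := ⟨he, by simpa using mul_mem hh (inv_mem hpN)⟩
  rw [hc.E_inf_Nh, hc.mem_zp] at this
  refine ⟨p, hp, ?_⟩
  rcases this with rfl | rfl <;> simp

theorem Ok.ker_le_C (hc : c.Ok) {h : G} (hh : h ∈ c.Nh) (h1 : c.pr h = 1) : h ∈ c.C := by
  obtain ⟨p, hp, rfl | rfl⟩ := hc.Nh_ker hh h1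
  exacts [hc.P_le_C hp, mul_mem hc.z_mem_C (hc.P_le_C hp)]

/-- An element of `N_H(P)` outside `C` inverts `P`. -/
theorem Ok.inverts (hc : c.Ok) {h : G} (hh : h ∈ c.Nh) (hC : h ∉ c.C) {p : G} (hp : p ∈ c.P) :
    h * p * h⁻¹ = p⁻¹ := by
  haveI : Fact (Nat.Prime 3) := ⟨Nat.prime_three⟩
  rcases eq_or_ne p 1 with rfl | hp1
  · simp
  have hgen : zpowers p = c.P := PGroups.zpowers_eq_of_card_eq hc.cardP hp hp1
  have hord : orderOf p = 3 := by rw [← Nat.card_zpowers, hgen, hc.cardP]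
  have h3 : p * p * p = 1 := by rw [← pow_three', ← hord, pow_orderOf_eq_one]
  have hq : h * p * h⁻¹ ∈ c.P := (mem_normalizer_iff.1 hh.2 p).1 hp
  rw [← hgen, mem_zpowers_iff] at hq
  obtain ⟨k, hk⟩ := hq
  rw [← zpow_mod_orderOf, hord] at hk
  have hp2 : p⁻¹ = p * p := inv_eq_of_mul_eq_one_left h3
  rcases (by omega : k % 3 = 0 ∨ k % 3 = 1 ∨ k % 3 = 2) with e | e | e <;>
    rw [show ((3 : ℕ) : ℤ) = 3 from rfl, e] at hk
  · exfalso; apply hp1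
    rw [zpow_zero] at hk
    calc p = h⁻¹ * (h * p * h⁻¹) * h := by group
      _ = 1 := by rw [← hk]; group
  · exfalso; apply hC
    rw [zpow_one] at hk
    refine ⟨hh.1, mem_centralizer_iff.2 fun q hq => ?_⟩
    rw [SetLike.mem_coe, ← hgen, mem_zpowers_iff] at hq
    obtain ⟨j, rfl⟩ := hq
    have hcm : Commute h p := by
      calc h * p = h * p * h⁻¹ * h := by group
        _ = p * h := by rw [← hk]
    exact (hcm.zpow_right j).eq.symm
  · rw [← hk, hp2, zpow_ofNat, sq]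

theorem Ok.C_index (hc : c.Ok) {a b : G} (ha : a ∈ c.Nh) (hb : b ∈ c.Nh) (haC : a ∉ c.C)
    (hbC : b ∉ c.C) : a * b ∈ c.C := by
  refine ⟨mul_mem ha.1 hb.1, mem_centralizer_iff.2 fun p hp => ?_⟩
  have h1 := hc.inverts hb hbC hp
  have h2 := hc.inverts ha haC (inv_mem hp)
  rw [inv_inv] at h2
  calc p * (a * b) = a * p⁻¹ * a⁻¹ * (a * b) := by rw [h2]
    _ = a * (b * p * b⁻¹) * b := by rw [h1]; group
    _ = a * b * p := by group

/-- `C` is the preimage of `M` in `N_H(P)`. -/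
theorem Ok.mem_C_iff (hc : c.Ok) (hd : AutData A M) {h : G} (hh : h ∈ c.Nh) :
    h ∈ c.C ↔ c.pr h ∈ M := by
  let K : Subgroup A :=
    { carrier := {α | ∃ n ∈ c.C, c.pr n = α}
      one_mem' := ⟨1, one_mem _, hc.pr_one⟩
      mul_mem' := by
        rintro _ _ ⟨a, ha, rfl⟩ ⟨b, hb, rfl⟩
        exact ⟨a * b, mul_mem ha hb, hc.pr_mul _ ha.1 _ hb.1⟩
      inv_mem' := by
        rintro _ ⟨a, ha, rfl⟩
        exact ⟨a⁻¹, inv_mem ha, hc.pr_inv ha.1⟩ }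
  have hmem : ∀ n ∈ c.Nh, c.pr n ∈ K → n ∈ c.C := by
    rintro n hn ⟨m, hm, e⟩
    have h1 : n * m⁻¹ ∈ c.C := hc.ker_le_C (mul_mem hn (inv_mem (c.C_le_Nh hm)))
      (by rw [hc.pr_mul _ hn.1 _ (inv_mem hm.1), hc.pr_inv hm.1, e, mul_inv_cancel])
    simpa using mul_mem h1 hm
  obtain ⟨u, hu, huC⟩ : ∃ u ∈ c.Nh, u ∉ c.C := by
    by_contra hall
    push Not at hall
    exact hc.NC (le_antisymm hall c.C_le_Nh)
  have hK : K.index = 2 := by
    rw [Subgroup.index_eq_two_iff]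
    refine ⟨c.pr u, fun b => ?_⟩
    obtain ⟨n, hn, rfl⟩ := hc.Nh_surj b
    rw [← hc.pr_mul _ hn.1 _ hu.1]
    by_cases hnC : n ∈ c.C
    · refine Or.inr ⟨⟨n, hnC, rfl⟩, fun h => huC ?_⟩
      simpa using mul_mem (inv_mem hnC) (hmem _ (mul_mem hn hu) h)
    · exact Or.inl ⟨⟨n * u, hc.C_index hn hu hnC huC, rfl⟩, fun h => hnC (hmem _ hn h)⟩
  rw [← hd.unique_index K hK]
  exact ⟨fun h1 => ⟨h, h1, rfl⟩, hmem h hh⟩

theorem Ok.C_surj (hc : c.Ok) (hd : AutData A M) {α : A} (hα : α ∈ M) : ∃ n ∈ c.C, c.pr n = α := by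
  obtain ⟨n, hn, rfl⟩ := hc.Nh_surj α
  exact ⟨n, (hc.mem_C_iff hd hn).2 hα, rfl⟩

theorem Ok.inner_split (hc : c.Ok) (hd : AutData A M) {h : G} (hh : h ∈ c.H) (hM : c.pr h ∈ M) :
    ∃ e ∈ c.E, ∃ n ∈ c.C, h = e * n := by
  obtain ⟨e, he, n, hn, rfl⟩ := hc.frattini hh
  rw [hc.pr_mul _ (hc.le_H he) _ hn.1, hc.pr_E he, one_mul] at hM
  exact ⟨e, he, n, (hc.mem_C_iff hd hn).2 hM, rfl⟩

theorem Ok.outer_split (hc : c.Ok) (hd : AutData A M) {h : G} (hh : h ∈ c.H) (hM : c.pr h ∉ M) :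
    ∃ e ∈ c.E, ∃ n ∈ c.Nh, n ∉ c.C ∧ h = e * n := by
  obtain ⟨e, he, n, hn, rfl⟩ := hc.frattini hh
  refine ⟨e, he, n, hn, fun hnC => hM ?_, rfl⟩
  rw [hc.pr_mul _ (hc.le_H he) _ hn.1, hc.pr_E he, one_mul]
  exact (hc.mem_C_iff hd hn).1 hnC

omit [Finite G] in
/-- An element of two-power order of `N = E P` lies in `E`. -/
theorem Ok.mem_E_of_pow (hc : c.Ok) {h : G} (hh : h ∈ c.E ⊔ c.P) {k : ℕ} (hk : h ^ (2 ^ k) = 1) :
    h ∈ c.E := by
  obtain ⟨e, he, p, hp, rfl⟩ := exists_mul_of_mem_sup hc.P_norm hh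
  have hpow : ∀ n : ℕ, ∃ f ∈ c.E, (e * p) ^ n = f * p ^ n := by
    intro n
    induction n with
    | zero => exact ⟨1, one_mem _, by simp⟩
    | succ n ih =>
      obtain ⟨f, hf, ih⟩ := ih
      refine ⟨f * (p ^ n * e * (p ^ n)⁻¹), mul_mem hf (hc.conjE (pow_mem (hc.P_le hp) n) he), ?_⟩
      rw [pow_succ, ih, pow_succ]; group
  obtain ⟨f, hf, h2⟩ := hpow (2 ^ k)
  rw [hk] at h2
  have hpE : p ^ (2 ^ k) ∈ c.E := by
    rw [← inv_eq_of_mul_eq_one_right h2.symm]; exact inv_mem hf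
  have hord : orderOf p ∣ 3 := hc.cardP ▸ Subgroup.orderOf_dvd_natCard c.P hp
  rcases (Nat.dvd_prime Nat.prime_three).1 hord with h | h
  · rw [orderOf_eq_one_iff.1 h, mul_one]; exact he
  · exfalso
    haveI := hc.finite
    have h4 : orderOf (p ^ (2 ^ k)) = 3 := by
      rw [Nat.Coprime.orderOf_pow (by rw [h]; exact Nat.Coprime.pow_right k (by decide)), h]
    have := Subgroup.orderOf_dvd_natCard c.E hpE
    rw [h4, hc.cardE] at this
    exact absurd this (by decide)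

theorem Ok.card_H (hc : c.Ok) : Nat.card c.H = 3 * 2 ^ 13 * Nat.card A := by
  have h := Subgroup.card_eq_card_quotient_mul_card_subgroup hc.prHom.ker
  have hs : Function.Surjective hc.prHom := fun α => by
    obtain ⟨x, hx, e⟩ := hc.pr_surj α; exact ⟨⟨x, hx⟩, e⟩
  rw [Nat.card_congr (QuotientGroup.quotientKerEquivOfSurjective _ hs).toEquiv] at h
  have hker : hc.prHom.ker = (c.E ⊔ c.P).subgroupOf c.H := by
    ext x; exact hc.pr_ker x x.2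
  rw [hker, Nat.card_congr (subgroupOfEquivOfLe hc.N_le).toEquiv, hc.cardN] at h
  rw [h, mul_comm]

end Ctx

end Cfsg.Agent.H43.JFour
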