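import Cfsg.Agent.H43.J4.Struct
import Mathlib.GroupTheory.Transfer

/-!
# The Sylow 3-subgroup of `C = C_H(P)`: nonabelian of order 27 and exponent 3
-/

set_option autoImplicit false

namespace Cfsg.Agent.H43.JFour

open Subgroup

universe u v

/-- A central element of `3`-power order lying in the derived group dies on an abelian subgroup of
index prime to 3. -/
theorem eq_one_of_transfer {X : Type u} [Group X] [Finite X] (S : Subgroup X)
    (hab : ∀ a ∈ S, ∀ b ∈ S, a * b = b * a) (hidx : ¬ 3 ∣ S.index) {g : X} (hg : g ∈ center X)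
    (hg' : g ∈ commutator X) (h3 : g ^ 3 = 1) : g = 1 := by
  letI : CommGroup S :=
    { (inferInstance : Group S) with mul_comm := fun a b => Subtype.ext (hab a a.2 b b.2) }
  have key : ∀ (k : ℕ) (g₀ : X), g₀⁻¹ * g ^ k * g₀ ∈ S → g₀⁻¹ * g ^ k * g₀ = g ^ k := by
    intro k g₀ _
    rw [mul_assoc, ← mem_center_iff.1 (pow_mem hg k) g₀, ← mul_assoc, inv_mul_cancel, one_mul]
  haveI : S.FiniteIndex := inferInstance
  have h1 := MonoidHom.transfer_eq_pow (MonoidHom.id S) g key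
  have h2 : MonoidHom.transfer (MonoidHom.id S) g = 1 :=
    (MonoidHom.mem_ker).1 (Abelianization.commutator_subset_ker _ hg')
  rw [h2] at h1
  have h4 : g ^ S.index = 1 := (congrArg Subtype.val h1).symm
  have h5 : g ^ Nat.gcd 3 S.index = 1 := pow_gcd_eq_one.2 ⟨h3, h4⟩
  rwa [(Nat.Prime.coprime_iff_not_dvd Nat.prime_three).2 hidx, pow_one] at h5

variable {G : Type u} [Group G] [Finite G] {A : Type v} [Group A] {M : Subgroup A} {c : Ctx G A}

theorem AutData.card_M (hd : AutData A M) : Nat.card M = 443520 := by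
  have := M.card_mul_index
  rw [hd.index, hd.card] at this; omega

theorem AutData.finite (hd : AutData A M) : Finite A :=
  Nat.finite_of_card_ne_zero (by rw [hd.card]; decide)

theorem AutData.normal (hd : AutData A M) : M.Normal := Subgroup.normal_of_index_eq_two hd.index

theorem AutData.card_syl (hd : AutData A M) (T : Sylow 3 A) : Nat.card T = 9 := by
  haveI := hd.finite
  haveI : Fact (Nat.Prime 3) := ⟨Nat.prime_three⟩
  rw [T.card_eq_multiplicity, hd.card, show (887040 : ℕ) = 3 ^ 2 * 98560 by norm_num,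
    Nat.factorization_mul (by norm_num) (by norm_num), Nat.factorization_pow]
  simp [Nat.prime_three.factorization, Nat.factorization_eq_zero_of_not_dvd]

theorem AutData.mem_of_odd (hd : AutData A M) {a : A} {n : ℕ} (hn : Odd n) (ha : a ^ n = 1) :
    a ∈ M := by
  by_contra h
  haveI := hd.normal
  have h2 : a ^ 2 ∈ M := by rw [← hd.index]; exact Subgroup.pow_index_mem M a
  obtain ⟨m, rfl⟩ := hn
  have : a ^ (2 * m) * a = 1 := by rw [← pow_succ, ha]
  apply h
  rw [(mul_eq_one_iff_eq_inv').1 this]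
  exact inv_mem (by rw [pow_mul]; exact pow_mem h2 m)

namespace Ctx

/-- The Sylow 3-subgroups of `C`, as subgroups of `G`. -/
def IsRThree (c : Ctx G A) (R : Subgroup G) : Prop := R ≤ c.C ∧ Nat.card R = 27

theorem Ok.card_C (hc : c.Ok) (hd : AutData A M) : Nat.card c.C = 6 * 443520 := by
  let f : c.C →* A := hc.prHom.comp (Subgroup.inclusion (inf_le_left : c.C ≤ c.H))
  have hr : f.range = M := by
    ext α
    constructor
    · rintro ⟨n, rfl⟩; exact (hc.mem_C_iff hd (c.C_le_Nh n.2)).1 n.2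
    · intro hα; obtain ⟨n, hn, e⟩ := hc.C_surj hd hα; exact ⟨⟨n, hn⟩, e⟩
  have hPz : zpowers c.z ⊔ c.P ≤ c.C := sup_le (zpowers_le.2 hc.z_mem_C) hc.P_le_C
  have hker : f.ker = (zpowers c.z ⊔ c.P).subgroupOf c.C := by
    ext n
    rw [MonoidHom.mem_ker, mem_subgroupOf]
    constructor
    · intro h
      obtain ⟨p, hp, e | e⟩ := hc.Nh_ker (c.C_le_Nh n.2) h <;> rw [e]
      · exact mem_sup_right hp
      · exact mul_mem (mem_sup_left (mem_zpowers _)) (mem_sup_right hp)
    · intro h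
      exact (hc.pr_ker _ (Subgroup.mem_inf.1 n.2).1).2
        ((sup_le_sup_right (zpowers_le.2 hc.z_mem) c.P) h)
  have hcard : Nat.card ↥(zpowers c.z ⊔ c.P) = 6 := by
    have hd6 : Nat.card ↥(zpowers c.z ⊔ c.P) ≤ 6 := by
      have hn : c.P ≤ normalizer ((zpowers c.z : Subgroup G) : Set G) := by
        intro p hp
        refine centralizer_le_normalizer _ (mem_centralizer_iff.2 fun x hx => ?_)
        rcases hc.mem_zp.1 hx with rfl | rfl
        · simp
        · exact c.mem_H.1 (hc.P_le hp)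
      have hs := Set.natCard_mul_le (s := ((zpowers c.z : Subgroup G) : Set G)) (t := (c.P : Set G))
      rw [← coe_mul_of_right_le_normalizer_left _ _ hn] at hs
      refine hs.trans ?_
      show Nat.card (zpowers c.z) * Nat.card c.P ≤ 6
      rw [Nat.card_zpowers, hc.ord, hc.cardP]
    have h2 : 2 ∣ Nat.card ↥(zpowers c.z ⊔ c.P) :=
      hc.ord ▸ Subgroup.orderOf_dvd_natCard _ (mem_sup_left (mem_zpowers _))
    have h3 : 3 ∣ Nat.card ↥(zpowers c.z ⊔ c.P) :=
      hc.cardP ▸ Subgroup.card_dvd_of_le le_sup_right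
    have h6 := Nat.Coprime.mul_dvd_of_dvd_of_dvd (by decide) h2 h3
    exact le_antisymm hd6 (Nat.le_of_dvd Nat.card_pos h6)
  have h := Subgroup.card_eq_card_quotient_mul_card_subgroup f.ker
  rw [Nat.card_congr (QuotientGroup.quotientKerEquivRange f).toEquiv, hr, hker,
    Nat.card_congr (subgroupOfEquivOfLe hPz).toEquiv, hcard, hd.card_M] at h
  rw [h, mul_comm]

theorem Ok.rThree_of_sylow (hc : c.Ok) (hd : AutData A M) (S : Sylow 3 c.C) :
    c.IsRThree ((S : Subgroup c.C).map c.C.subtype) := by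
  haveI : Fact (Nat.Prime 3) := ⟨Nat.prime_three⟩
  refine ⟨Subgroup.map_subtype_le _, ?_⟩
  rw [Subgroup.card_map_of_injective c.C.subtype_injective, S.card_eq_multiplicity, hc.card_C hd,
    show 6 * 443520 = 3 ^ 3 * 98560 by norm_num, Nat.factorization_mul (by norm_num) (by norm_num),
    Nat.factorization_pow]
  simp [Nat.prime_three.factorization, Nat.factorization_eq_zero_of_not_dvd]

theorem Ok.rThree_sylow (hc : c.Ok) (hd : AutData A M) {R : Subgroup G} (hR : c.IsRThree R) :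
    ∃ S : Sylow 3 c.C, (S : Subgroup c.C) = R.subgroupOf c.C := by
  haveI : Fact (Nat.Prime 3) := ⟨Nat.prime_three⟩
  refine ⟨Sylow.ofCard (R.subgroupOf c.C) ?_, rfl⟩
  rw [Nat.card_congr (subgroupOfEquivOfLe hR.1).toEquiv, hR.2, hc.card_C hd,
    show 6 * 443520 = 3 ^ 3 * 98560 by norm_num, Nat.factorization_mul (by norm_num) (by norm_num),
    Nat.factorization_pow]
  simp [Nat.prime_three.factorization, Nat.factorization_eq_zero_of_not_dvd]

theorem Ok.P_central (hc : c.Ok) {p n : G} (hp : p ∈ c.P) (hn : n ∈ c.C) : p * n = n * p :=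
  mem_centralizer_iff.1 (Subgroup.mem_inf.1 hn).2 p hp

theorem Ok.P_le_R (hc : c.Ok) (hd : AutData A M) {R : Subgroup G} (hR : c.IsRThree R) : c.P ≤ R := by
  haveI : Fact (Nat.Prime 3) := ⟨Nat.prime_three⟩
  obtain ⟨S, hS⟩ := hc.rThree_sylow hd hR
  haveI : (c.P.subgroupOf c.C).Normal := ⟨fun n hn g => by
    rw [mem_subgroupOf] at hn ⊢
    have : ((g * n * g⁻¹ : c.C) : G) = (g : G) * (n : G) * (g : G)⁻¹ := rfl
    rw [this, ← hc.P_central hn g.2, mul_inv_cancel_right]; exact hn⟩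
  have hp3 : IsPGroup 3 (c.P.subgroupOf c.C) := IsPGroup.of_card (n := 1)
    (by rw [Nat.card_congr (subgroupOfEquivOfLe hc.P_le_C).toEquiv, hc.cardP, pow_one])
  obtain ⟨S', hS'⟩ := hp3.exists_le_sylow
  obtain ⟨g, rfl⟩ := MulAction.exists_smul_eq c.C S' S
  intro p hp
  have h1 : (⟨p, hc.P_le_C hp⟩ : c.C) ∈ (S' : Subgroup c.C) := hS' hp
  have h2 : MulAut.conj g ⟨p, hc.P_le_C hp⟩ ∈ ((g • S' : Sylow 3 c.C) : Subgroup c.C) := by
    rw [Sylow.coe_subgroup_smul]
    exact Subgroup.smul_mem_pointwise_smul _ (MulAut.conj g) _ h1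
  rw [hS, mem_subgroupOf] at h2
  have : ((MulAut.conj g ⟨p, hc.P_le_C hp⟩ : c.C) : G) = (g : G) * p * (g : G)⁻¹ := rfl
  rwa [this, ← hc.P_central hp g.2, mul_inv_cancel_right] at h2

theorem Ok.rThree_nonabelian (hc : c.Ok) (hd : AutData A M) {R : Subgroup G} (hR : c.IsRThree R) :
    ∃ a ∈ R, ∃ b ∈ R, a * b ≠ b * a := by
  haveI : Fact (Nat.Prime 3) := ⟨Nat.prime_three⟩
  by_contra hall
  push Not at hall
  obtain ⟨S, hS⟩ := hc.rThree_sylow hd hR
  obtain ⟨p, hp, hp1⟩ : ∃ p ∈ c.P, p ≠ 1 := by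
    refine (Subgroup.bot_or_exists_ne_one c.P).resolve_left fun h => ?_
    have := hc.cardP; rw [h, Subgroup.card_bot] at this; omega
  apply hp1
  have h := eq_one_of_transfer (S : Subgroup c.C) (fun a ha b hb => ?_) S.not_dvd_index
    (g := ⟨p, hc.P_le_C hp⟩) (mem_center_iff.2 fun n => Subtype.ext (hc.P_central hp n.2).symm) ?_ ?_
  · exact congrArg Subtype.val h
  · rw [hS, mem_subgroupOf] at ha hb; exact Subtype.ext (hall _ ha _ hb)
  · have h1 := hc.P_comm hp
    rw [← map_subtype_commutator, Subgroup.mem_map] at h1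
    obtain ⟨q, hq, e⟩ := h1
    rwa [← show q = ⟨p, hc.P_le_C hp⟩ from Subtype.ext e]
  · have := Subgroup.orderOf_dvd_natCard c.P hp
    rw [hc.cardP] at this
    exact Subtype.ext (orderOf_dvd_iff_pow_eq_one.1 this)

theorem Ok.R_comm_mem (hc : c.Ok) (hd : AutData A M) {R : Subgroup G} (hR : c.IsRThree R) {a b : G}
    (ha : a ∈ R) (hb : b ∈ R) (h : Commute (c.pr a) (c.pr b)) : a * b * a⁻¹ * b⁻¹ ∈ c.P := by
  have hH : ∀ {x}, x ∈ R → x ∈ c.H := fun hx => (Subgroup.mem_inf.1 (hR.1 hx)).1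
  have hm : a * b * a⁻¹ * b⁻¹ ∈ R := mul_mem (mul_mem (mul_mem ha hb) (inv_mem ha)) (inv_mem hb)
  have h1 : c.pr (a * b * a⁻¹ * b⁻¹) = 1 := by
    rw [hc.pr_mul _ (mul_mem (mul_mem (hH ha) (hH hb)) (inv_mem (hH ha))) _ (inv_mem (hH hb)),
      hc.pr_conj (hH ha) (hH hb), hc.pr_inv (hH hb), h.eq]
    group
  obtain ⟨p, hp, e | e⟩ := hc.Nh_ker (c.C_le_Nh (hR.1 hm)) h1
  · rw [e]; exact hp
  · exfalso
    have hz : c.z ∈ R := by
      rw [show c.z = a * b * a⁻¹ * b⁻¹ * p⁻¹ by rw [e]; group]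
      exact mul_mem hm (inv_mem (hc.P_le_R hd hR hp))
    have := Subgroup.orderOf_dvd_natCard R hz
    rw [hc.ord, hR.2] at this; omega

theorem Ok.pr_R_eq_one (hc : c.Ok) (hd : AutData A M) {R : Subgroup G} (hR : c.IsRThree R) {a : G}
    (ha : a ∈ R) (h : c.pr a = 1) : a ∈ c.P := by
  obtain ⟨p, hp, e | e⟩ := hc.Nh_ker (c.C_le_Nh (hR.1 ha)) h
  · rw [e]; exact hp
  · exfalso
    have hz : c.z ∈ R := by
      rw [show c.z = a * p⁻¹ by rw [e]; group]
      exact mul_mem ha (inv_mem (hc.P_le_R hd hR hp))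
    have := Subgroup.orderOf_dvd_natCard R hz
    rw [hc.ord, hR.2] at this; omega

/-- The image of a Sylow 3-subgroup of `C` is a Sylow 3-subgroup of `A` contained in `M`. -/
theorem Ok.exists_image (hc : c.Ok) (hd : AutData A M) {R : Subgroup G} (hR : c.IsRThree R) :
    ∃ T : Sylow 3 A, (∀ a ∈ R, c.pr a ∈ T) ∧ (∀ α ∈ T, ∃ a ∈ R, c.pr a = α) := by
  haveI := hd.finite
  haveI : Fact (Nat.Prime 3) := ⟨Nat.prime_three⟩
  let f : R →* A := hc.prHom.comp (Subgroup.inclusion (hR.1.trans inf_le_left))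
  have hker : f.ker = c.P.subgroupOf R := by
    ext a
    rw [MonoidHom.mem_ker, mem_subgroupOf]
    exact ⟨fun h => hc.pr_R_eq_one hd hR a.2 h, fun h => hc.pr_P h⟩
  have h := Subgroup.card_eq_card_quotient_mul_card_subgroup f.ker
  rw [Nat.card_congr (QuotientGroup.quotientKerEquivRange f).toEquiv, hker,
    Nat.card_congr (subgroupOfEquivOfLe (hc.P_le_R hd hR)).toEquiv, hc.cardP, hR.2] at h
  have h9 : Nat.card f.range = 9 := by omega
  refine ⟨Sylow.ofCard f.range (by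
    have h2 := hd.card_syl (Classical.arbitrary (Sylow 3 A))
    rw [(Classical.arbitrary (Sylow 3 A)).card_eq_multiplicity] at h2
    rw [h9, h2]), fun a ha => ⟨⟨a, ha⟩, rfl⟩, ?_⟩
  rintro α ⟨a, rfl⟩
  exact ⟨a, a.2, rfl⟩

theorem Ok.R_pr_commute (hc : c.Ok) (hd : AutData A M) {R : Subgroup G} (hR : c.IsRThree R) {a b : G}
    (ha : a ∈ R) (hb : b ∈ R) : Commute (c.pr a) (c.pr b) := by
  haveI := hd.finite
  haveI : Fact (Nat.Prime 3) := ⟨Nat.prime_three⟩
  obtain ⟨T, hT, -⟩ := hc.exists_image hd hR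
  exact (@IsPGroup.commutative_of_card_eq_prime_sq 3 T _ _ (by rw [hd.card_syl]; norm_num)
    ⟨c.pr a, hT a ha⟩ ⟨c.pr b, hT b hb⟩ |> congrArg Subtype.val)

/-- Within a fixed Sylow 3-subgroup of `C`, elements outside `P` are conjugate. -/
theorem Ok.R_conj (hc : c.Ok) (hd : AutData A M) {R : Subgroup G} (hR : c.IsRThree R) {a b : G}
    (ha : a ∈ R) (hb : b ∈ R) (haP : a ∉ c.P) (hbP : b ∉ c.P) : ∃ g ∈ c.C, g * a * g⁻¹ = b := by
  haveI := hd.finite
  haveI : Fact (Nat.Prime 3) := ⟨Nat.prime_three⟩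
  obtain ⟨T, hT, hT'⟩ := hc.exists_image hd hR
  have hne : ∀ x ∈ R, x ∉ c.P → c.pr x ≠ 1 := fun x hx hxP h => hxP (hc.pr_R_eq_one hd hR hx h)
  obtain ⟨γ, hγ, e⟩ := hd.syl_trans T _ (hT a ha) _ (hT b hb) (hne a ha haP) (hne b hb hbP)
  obtain ⟨n, hn, rfl⟩ := hc.C_surj hd (Subgroup.mem_inf.1 hγ).1
  have hH : ∀ {x}, x ∈ R → x ∈ c.H := fun hx => (Subgroup.mem_inf.1 (hR.1 hx)).1
  have hnH := (Subgroup.mem_inf.1 hn).1
  have hnaC : n * a * n⁻¹ ∈ c.C := mul_mem (mul_mem hn (hR.1 ha)) (inv_mem hn)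
  have h1 : c.pr (n * a * n⁻¹ * b⁻¹) = 1 := by
    rw [hc.pr_mul _ (Subgroup.mem_inf.1 hnaC).1 _ (inv_mem (hH hb)), hc.pr_conj hnH (hH ha), e,
      hc.pr_inv (hH hb), mul_inv_cancel]
  obtain ⟨p, hp, he⟩ := hc.Nh_ker (c.C_le_Nh (mul_mem hnaC (inv_mem (hR.1 hb)))) h1
  have hnab : n * a * n⁻¹ = p * b := by
    rcases he with he | he
    · rw [← he]; group
    · exfalso
      have hzeq : c.z = n * a * n⁻¹ * (p * b)⁻¹ := by
        rw [_root_.mul_inv_rev, ← mul_assoc, he]; group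
      have h27 : ∀ x ∈ R, x ^ 27 = 1 := fun x hx =>
        orderOf_dvd_iff_pow_eq_one.1 (hR.2 ▸ Subgroup.orderOf_dvd_natCard R hx)
      have hzc : Commute c.z (p * b) := (c.mem_H.1 (mul_mem (hc.P_le hp) (hH hb)))
      have h2 : (n * a * n⁻¹) ^ 27 = 1 := by rw [conj_pow, h27 a ha]; group
      rw [show n * a * n⁻¹ = c.z * (p * b) by rw [hzeq]; group, hzc.mul_pow,
        h27 _ (mul_mem (hc.P_le_R hd hR hp) hb), mul_one, pow_succ, pow_mul c.z 2 13,
        sq, hc.z_sq, one_pow, one_mul] at h2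
      exact hc.z_ne h2
  -- correct by a commutator
  obtain ⟨r, hr, hrb⟩ : ∃ r ∈ R, r * (p * b) * r⁻¹ = b := by
    rcases eq_or_ne p 1 with rfl | hp1
    · exact ⟨1, one_mem R, by simp⟩
    let K : Subgroup G :=
      { carrier := {q | q ∈ c.P ∧ ∃ r ∈ R, r * b * r⁻¹ = q * b}
        one_mem' := ⟨one_mem _, 1, one_mem _, by simp⟩
        mul_mem' := by
          rintro q q' ⟨hq, r, hr, e⟩ ⟨hq', r', hr', e'⟩
          refine ⟨mul_mem hq hq', r' * r, mul_mem hr' hr, ?_⟩
          calc r' * r * b * (r' * r)⁻¹ = r' * (r * b * r⁻¹) * r'⁻¹ := by group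
            _ = r' * q * (r'⁻¹ * (r' * b * r'⁻¹)) := by rw [e]; group
            _ = q * r' * (r'⁻¹ * (q' * b)) := by rw [e', hc.P_central hq (hR.1 hr')]
            _ = q * q' * b := by group
        inv_mem' := by
          rintro q ⟨hq, r, hr, e⟩
          refine ⟨inv_mem hq, r⁻¹, inv_mem hr, ?_⟩
          calc r⁻¹ * b * r⁻¹⁻¹ = q⁻¹ * (r⁻¹ * (q * b) * r) := by
                rw [← mul_assoc r⁻¹ q b, ← hc.P_central hq (inv_mem (hR.1 hr))]; group
            _ = q⁻¹ * b := by rw [← e]; group }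
    have hKtop : c.P ≤ K := by
      by_contra hK
      have hbot : ∀ q ∈ K, q = 1 := by
        intro q hq
        by_contra hq1
        exact hK (by
          rw [← PGroups.zpowers_eq_of_card_eq hc.cardP hq.1 hq1]; exact zpowers_le.2 hq)
      have hbc : ∀ r ∈ R, r * b = b * r := by
        intro r hr
        have h2 := hbot (r * b * r⁻¹ * b⁻¹)
          ⟨hc.R_comm_mem hd hR hr hb (hc.R_pr_commute hd hR hr hb), r, hr, by group⟩
        calc r * b = r * b * r⁻¹ * b⁻¹ * (b * r) := by group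
          _ = b * r := by rw [h2, one_mul]
      -- b and P would be central in R, so R would be abelian
      obtain ⟨u, hu, w, hw, huw⟩ := hc.rThree_nonabelian hd hR
      let Z : Subgroup G := R ⊓ centralizer (R : Set G)
      have hPZ : c.P ≤ Z := fun q hq => mem_inf.2 ⟨hc.P_le_R hd hR hq,
        mem_centralizer_iff.2 fun r hr => (hc.P_central hq (hR.1 hr)).symm⟩
      have hbZ : b ∈ Z := mem_inf.2 ⟨hb, mem_centralizer_iff.2 fun r hr => hbc r hr⟩
      have hZR : Nat.card Z ∣ 27 := hR.2 ▸ Subgroup.card_dvd_of_le inf_le_left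
      have hZ3 : 3 ∣ Nat.card Z := hc.cardP ▸ Subgroup.card_dvd_of_le hPZ
      have hZne : Nat.card Z ≠ 3 := fun h =>
        hbP (by rw [Subgroup.eq_of_le_of_card_ge hPZ (by rw [h, hc.cardP])]; exact hbZ)
      have hZ9 : 9 ≤ Nat.card Z := by
        obtain ⟨i, hi, h⟩ := (Nat.dvd_prime_pow Nat.prime_three).1 (show Nat.card Z ∣ 3 ^ 3 by simpa using hZR)
        interval_cases i <;> simp_all
      have hu' : u ∉ Z := fun h => huw (mem_centralizer_iff.1 (mem_inf.1 h).2 w hw).symm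
      let W : Subgroup G := R ⊓ centralizer ({u} : Set G)
      have hZW : Z ≤ W := fun q hq => mem_inf.2 ⟨(mem_inf.1 hq).1, mem_centralizer_iff.2
        fun r hr => by
          rw [Set.mem_singleton_iff] at hr; subst hr
          exact mem_centralizer_iff.1 (mem_inf.1 hq).2 r hu⟩
      have huW : u ∈ W := mem_inf.2 ⟨hu, mem_centralizer_iff.2 fun r hr => by
        rw [Set.mem_singleton_iff] at hr; rw [hr]⟩
      have hW : W = R := by
        refine Subgroup.eq_of_le_of_card_ge inf_le_left ?_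
        have h1 : Nat.card W ∣ 27 := hR.2 ▸ Subgroup.card_dvd_of_le inf_le_left
        have h2 : Nat.card Z < Nat.card W := by
          refine lt_of_le_of_ne (Nat.le_of_dvd Nat.card_pos (Subgroup.card_dvd_of_le hZW)) fun h => ?_
          exact hu' (by rw [Subgroup.eq_of_le_of_card_ge hZW h.ge]; exact huW)
        obtain ⟨i, hi, h⟩ := (Nat.dvd_prime_pow Nat.prime_three).1 (show Nat.card W ∣ 3 ^ 3 by simpa using h1)
        rw [hR.2]
        show 27 ≤ Nat.card W
        rw [h] at h2 ⊢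
        interval_cases i <;> omega
      have hwW : w ∈ W := by rw [hW]; exact hw
      exact huw (mem_centralizer_iff.1 (mem_inf.1 hwW).2 u rfl)
    obtain ⟨-, r, hr, e2⟩ := hKtop (inv_mem hp)
    refine ⟨r, hr, ?_⟩
    rw [show r * (p * b) * r⁻¹ = (r * p * r⁻¹) * (r * b * r⁻¹) by group, e2,
      ← hc.P_central hp (hR.1 hr)]
    group
  refine ⟨r * n, mul_mem (hR.1 hr) hn, ?_⟩
  rw [show r * n * a * (r * n)⁻¹ = r * (n * a * n⁻¹) * r⁻¹ by group, hnab, hrb]

/-- Exponent 3. -/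
theorem Ok.R_exp (hc : c.Ok) (hd : AutData A M) {R : Subgroup G} (hR : c.IsRThree R) {a : G}
    (ha : a ∈ R) : a ^ 3 = 1 := by
  haveI := hd.finite
  haveI : Fact (Nat.Prime 3) := ⟨Nat.prime_three⟩
  have hP3 : ∀ q ∈ c.P, q ^ 3 = 1 := fun q hq =>
    orderOf_dvd_iff_pow_eq_one.1 (hc.cardP ▸ Subgroup.orderOf_dvd_natCard c.P hq)
  by_cases haP : a ∈ c.P
  · exact hP3 a haP
  obtain ⟨T, hT, -⟩ := hc.exists_image hd hR
  have hH : ∀ {x}, x ∈ R → x ∈ c.H := fun hx => (Subgroup.mem_inf.1 (hR.1 hx)).1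
  have hcube : ∀ x ∈ R, x ^ 3 ∈ c.P := by
    intro x hx
    refine hc.pr_R_eq_one hd hR (pow_mem hx 3) ?_
    have h2 : c.pr (x ^ 3) = c.pr x ^ 3 := map_pow hc.prHom ⟨x, hH hx⟩ 3
    rw [h2, hd.syl_exp T _ (hT x hx)]
  -- cubing is a homomorphism into `P`, so some element outside `P` has order 3
  have hmul : ∀ x ∈ R, ∀ y ∈ R, (x * y) ^ 3 = x ^ 3 * y ^ 3 := by
    intro x hx y hy
    have hk := hc.R_comm_mem hd hR hy hx (hc.R_pr_commute hd hR hy hx)
    set k := y * x * y⁻¹ * x⁻¹ with hkdef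
    have hkc : ∀ g ∈ R, k * g = g * k := fun g hg => hc.P_central hk (hR.1 hg)
    have hxk := hkc x hx
    have hyk := hkc y hy
    have hyx : y * x = k * (x * y) := by rw [hkdef]; group
    have e2 : x * y * (x * y) = k * (x * x * (y * y)) := by
      calc x * y * (x * y) = x * (y * x) * y := by group
        _ = (x * k) * (x * y * y) := by rw [hyx]; group
        _ = k * (x * x * (y * y)) := by rw [← hxk]; group
    have e3 : y * y * x = k * k * (x * (y * y)) := by
      calc y * y * x = y * (y * x) := by group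
        _ = (y * k) * (x * y) := by rw [hyx]; group
        _ = k * ((y * x) * y) := by rw [← hyk]; group
        _ = k * (k * (x * y) * y) := by rw [hyx]
        _ = k * k * (x * (y * y)) := by group
    calc (x * y) ^ 3 = x * y * (x * y) * (x * y) := pow_three' _
      _ = k * (x * x * (y * y * x) * y) := by rw [e2]; group
      _ = k * ((x * x) * (k * k) * (x * (y * y) * y)) := by rw [e3]; group
      _ = k * ((k * k) * (x * x) * (x * (y * y) * y)) := by
          rw [show x * x * (k * k) = k * k * (x * x) from by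
            calc x * x * (k * k) = x * (x * k) * k := by group
              _ = x * (k * x) * k := by rw [hxk]
              _ = (x * k) * (x * k) := by group
              _ = (k * x) * (k * x) := by rw [hxk]
              _ = k * ((x * k) * x) := by group
              _ = k * k * (x * x) := by rw [← hxk]; group]
      _ = k ^ 3 * (x ^ 3 * y ^ 3) := by rw [pow_three', pow_three', pow_three']; group
      _ = x ^ 3 * y ^ 3 := by rw [hP3 k hk, one_mul]
  obtain ⟨b, hb, hbP, hb3⟩ : ∃ b ∈ R, b ∉ c.P ∧ b ^ 3 = 1 := by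
    let φ : R →* c.P :=
      { toFun := fun x => ⟨(x : G) ^ 3, hcube x x.2⟩
        map_one' := Subtype.ext (one_pow 3)
        map_mul' := fun x y => Subtype.ext (hmul x x.2 y y.2) }
    by_contra hnone
    push Not at hnone
    have hker : φ.ker ≤ c.P.subgroupOf R := fun x hx => by
      by_contra hxP
      exact hnone x x.2 hxP (congrArg Subtype.val (MonoidHom.mem_ker.1 hx))
    have h1 := Subgroup.card_eq_card_quotient_mul_card_subgroup φ.ker
    rw [Nat.card_congr (QuotientGroup.quotientKerEquivRange φ).toEquiv, hR.2] at h1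
    have h2 : Nat.card φ.range ≤ 3 :=
      hc.cardP ▸ Nat.le_of_dvd Nat.card_pos (Subgroup.card_subgroup_dvd_card φ.range)
    have h3 : Nat.card φ.ker ≤ 3 := by
      refine le_trans (Nat.le_of_dvd Nat.card_pos (Subgroup.card_dvd_of_le hker)) (le_of_eq ?_)
      rw [Nat.card_congr (subgroupOfEquivOfLe (hc.P_le_R hd hR)).toEquiv, hc.cardP]
    have := Nat.mul_le_mul h2 h3
    omega
  obtain ⟨g, hg, e⟩ := hc.R_conj hd hR hb ha hbP haP
  rw [← e, conj_pow, hb3]; group

/-- All elements of order 3 of `C` outside `P` are `C`-conjugate. -/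
theorem Ok.three_conj (hc : c.Ok) (hd : AutData A M) {a b : G} (ha : a ∈ c.C) (hb : b ∈ c.C)
    (ha3 : a ^ 3 = 1) (hb3 : b ^ 3 = 1) (haP : a ∉ c.P) (hbP : b ∉ c.P) :
    ∃ g ∈ c.C, g * a * g⁻¹ = b := by
  haveI : Fact (Nat.Prime 3) := ⟨Nat.prime_three⟩
  have hsyl : ∀ x ∈ c.C, x ^ 3 = 1 →
      ∃ R, c.IsRThree R ∧ x ∈ R ∧ ∃ S : Sylow 3 c.C, (S : Subgroup c.C).map c.C.subtype = R := by
    intro x hx hx3
    have hp : IsPGroup 3 (zpowers (⟨x, hx⟩ : c.C)) := by
      intro q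
      obtain ⟨k, hk⟩ := mem_zpowers_iff.1 q.2
      refine ⟨1, Subtype.ext ?_⟩
      rw [pow_one, SubmonoidClass.coe_pow, ← hk, ← zpow_natCast, ← zpow_mul, mul_comm, zpow_mul,
        zpow_natCast, show (⟨x, hx⟩ : c.C) ^ 3 = 1 from Subtype.ext hx3, one_zpow]
      rfl
    obtain ⟨S, hS⟩ := hp.exists_le_sylow
    exact ⟨_, hc.rThree_of_sylow hd S, ⟨⟨x, hx⟩, hS (mem_zpowers _), rfl⟩, S, rfl⟩
  obtain ⟨R, hR, haR, S, hS⟩ := hsyl a ha ha3
  obtain ⟨R', hR', hbR', S', hS'⟩ := hsyl b hb hb3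
  obtain ⟨g, hg⟩ := MulAction.exists_smul_eq c.C S' S
  have hbR : (g : G) * b * (g : G)⁻¹ ∈ R := by
    rw [← hS'] at hbR'
    obtain ⟨q, hq, rfl⟩ := hbR'
    rw [← hS, ← hg, Sylow.coe_subgroup_smul]
    exact ⟨MulAut.conj g q, Subgroup.smul_mem_pointwise_smul _ (MulAut.conj g) _ hq, rfl⟩
  have hbP' : (g : G) * b * (g : G)⁻¹ ∉ c.P := by
    intro h
    apply hbP
    have h2 := hc.P_central h g.2
    have : b = (g : G) * b * (g : G)⁻¹ := by
      calc b = (g : G)⁻¹ * ((g : G) * b * (g : G)⁻¹ * g) := by group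
        _ = (g : G)⁻¹ * (g * ((g : G) * b * (g : G)⁻¹)) := by rw [h2]
        _ = _ := by group
    rw [this]; exact h
  obtain ⟨h, hh, e⟩ := hc.R_conj hd hR haR hbR haP hbP'
  refine ⟨(g : G)⁻¹ * h, mul_mem (inv_mem g.2) hh, ?_⟩
  calc (g : G)⁻¹ * h * a * ((g : G)⁻¹ * h)⁻¹ = (g : G)⁻¹ * (h * a * h⁻¹) * g := by group
    _ = b := by rw [e]; group

end Ctx

end Cfsg.Agent.H43.JFour
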