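import Cfsg.Agent.H43.J4.WeakPair
import Cfsg.Agent.Cores.ZStar
import Cfsg.Agent.Cores.GlaubermanZStar
import Cfsg.Prelude.Def_TwoFusion

/-!
# `z` is conjugate to another element of `E`

The remaining configuration of a pair (both involutions outer, neither full) is excluded by an explicit
element acting as a three-cycle on the common part of the two extraspecial subgroups; Glauberman's
theorem then gives the fusion statement.
-/

set_option autoImplicit false

namespace Cfsg.Agent.H43.JFour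

open Subgroup
open scoped commutatorElement

universe u v

variable {G : Type u} [Group G] [Finite G] {A : Type v} [Group A] {M : Subgroup A}

namespace Ctx

variable {c d : Ctx G A}

/-- An involution of `C(z)` congruent to an outer involution `s` modulo `E P` is conjugate under `E P`
to `s` or to `z s`. -/
theorem Ok.outer_coset (hc : c.Ok) (hd : AutData A M) {s t : G} (hs : s ∈ c.H) (hM : c.pr s ∉ M)
    (hs2 : s * s = 1) (ht : t ∈ c.H) (ht2 : t * t = 1) (he : c.pr t = c.pr s) :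
    ∃ k ∈ c.E ⊔ c.P, k * t * k⁻¹ = s ∨ k * t * k⁻¹ = c.z * s := by
  obtain ⟨e', he', n, hn, hnC, hse⟩ := hc.outer_split hd hs hM
  have hw : t * s⁻¹ ∈ c.E ⊔ c.P := (hc.pr_ker _ (mul_mem ht (inv_mem hs))).1
    (by rw [hc.pr_mul _ ht _ (inv_mem hs), hc.pr_inv hs, he, mul_inv_cancel])
  obtain ⟨e, he1, q, hq, hw'⟩ := exists_mul_of_mem_sup hc.P_norm hw
  have ht' : t = e * q * (e' * n) := by rw [← hse, ← hw']; group
  have hq3 := hc.P_pow hq
  have hnq : n * q⁻¹ = q * n := by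
    have h := hc.inverts hn hnC hq
    calc n * q⁻¹ = n * q⁻¹ * n⁻¹ * n := by group
      _ = (n * q * n⁻¹)⁻¹ * n := by group
      _ = q * n := by rw [h, inv_inv]
  have h1 : q * t * q⁻¹ = (q * e * q⁻¹) * (q * q * e' * (q * q)⁻¹) * (q * q * q) * n := by
    rw [ht', show q * (e * q * (e' * n)) * q⁻¹ = q * e * q * e' * (n * q⁻¹) by group, hnq]
    group
  rw [hq3, mul_one] at h1
  set f := (q * e * q⁻¹) * (q * q * e' * (q * q)⁻¹) * e'⁻¹ with hf
  have hqH := hc.P_le hq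
  have hfE : f ∈ c.E := mul_mem (mul_mem (hc.conjE hqH he1) (hc.conjE (mul_mem hqH hqH) he')) (inv_mem he')
  have h2 : q * t * q⁻¹ = f * s := by rw [h1, hf, hse]; group
  have h3 : f * s * (f * s) = 1 := by
    rw [← h2, show q * t * q⁻¹ * (q * t * q⁻¹) = q * (t * t) * q⁻¹ by group, ht2]; group
  have hsi : s⁻¹ = s := inv_eq_of_mul_eq_one_left hs2
  have h4 : s * f * s⁻¹ = f⁻¹ := by
    rw [hsi]
    calc s * f * s = f⁻¹ * (f * s * (f * s)) := by group
      _ = f⁻¹ := by rw [h3, mul_one]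
  have hinv := hc.involMod_of_sq (Or.inl hs2)
  obtain ⟨hK, hI, heq⟩ := hc.card_fix_outer hd hs hM hinv
  have hfi : f ∈ hc.imMod s hs := by
    rw [heq]; exact ⟨hfE, by rw [h4]; exact hc.eqz_inv_self hfE⟩
  obtain ⟨v, hv, ev⟩ := hfi
  refine ⟨v⁻¹ * q, mul_mem (inv_mem (mem_sup_left hv)) (mem_sup_right hq), ?_⟩
  rw [show v⁻¹ * q * t * (v⁻¹ * q)⁻¹ = v⁻¹ * (q * t * q⁻¹) * v by group, h2]
  rcases ev with e | e
  · exact Or.inl (by rw [e]; group)
  · refine Or.inr ?_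
    rw [e]
    calc v⁻¹ * (c.z * (v * (s * v⁻¹ * s⁻¹)) * s) * v = (v⁻¹ * c.z) * v * s := by group
      _ = c.z * s := by rw [← hc.z_comm (inv_mem hv)]; group

/-- An element of order three commuting with an outer involution has nontrivial image. -/
theorem Ok.three_pr_ne (hc : c.Ok) (hd : AutData A M) {s g : G} (hs : s ∈ c.H) (hM : c.pr s ∉ M)
    (hg : g ∈ c.H) (hg3 : orderOf g = 3) (hcm : g * s = s * g) : c.pr g ≠ 1 := by
  intro h1
  obtain ⟨e', he', n, hn, hnC, rfl⟩ := hc.outer_split hd hs hM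
  obtain ⟨e, he, q, hq, rfl⟩ := exists_mul_of_mem_sup hc.P_norm ((hc.pr_ker g hg).1 h1)
  have hinv := hc.inverts hn hnC hq
  have h2 : q * q ∈ c.E := by
    have e1 : e * q = (e' * (n * e * n⁻¹) * e'⁻¹) * (e' * (n * q * n⁻¹) * e'⁻¹) := by
      calc e * q = (e * q) * (e' * n) * (e' * n)⁻¹ := by group
        _ = (e' * n) * (e * q) * (e' * n)⁻¹ := by rw [hcm]
        _ = _ := by group
    rw [hinv] at e1
    have : q * q = e⁻¹ * ((e' * (n * e * n⁻¹) * e'⁻¹) * (e' * (q⁻¹ * e'⁻¹ * q))) := by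
      calc q * q = e⁻¹ * (e * q) * q := by group
        _ = _ := by rw [e1]; group
    rw [this]
    refine mul_mem (inv_mem he) (mul_mem (mul_mem (mul_mem he' (hc.conjE hn.1 he)) (inv_mem he'))
      (mul_mem he' ?_))
    simpa using hc.conjE (inv_mem (hc.P_le hq)) (inv_mem he')
  have hqE : q ∈ c.E := by
    have h := mul_mem h2 h2
    rwa [show q * q * (q * q) = q * q * q * q by group, hc.P_pow hq, one_mul] at h
  haveI := hc.finite
  have := Subgroup.orderOf_dvd_natCard c.E (mul_mem he hqE)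
  rw [hg3, hc.cardE] at this
  omega

theorem Ok.exists_order_three {g a : G} {n : ℕ} (hn : n = 3) (h : g ^ n * a = a * g ^ n)
    (hne : g * a ≠ a * g) : ∃ g' ∈ zpowers g, orderOf g' = 3 := by
  subst hn
  have hdvd : 3 ∣ orderOf g := by
    by_contra hnd
    have hcop : Nat.Coprime (orderOf g) 3 := (Nat.prime_three.coprime_iff_not_dvd.2 hnd).symm
    obtain ⟨m, hm⟩ := exists_pow_eq_self_of_coprime (x := g) hcop.symm
    exact hne (hm ▸ ((show Commute (g ^ 3) a from h).pow_left m).eq)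
  refine ⟨g ^ (orderOf g / 3), pow_mem (mem_zpowers g) _, ?_⟩
  exact orderOf_pow_orderOf_div (orderOf_pos g).ne' hdvd

namespace Pair

variable (π : Pair c d)
include π

/-- Replacing the second context by a conjugate under `c.E`. -/
theorem conj_E {v : G} (hv : v ∈ c.E) : Pair c (d.conj v) where
  hc := π.hc
  hd' := π.hd'.conj v
  dH := mul_mem (mul_mem (π.hc.le_H hv) π.dH) (inv_mem (π.hc.le_H hv))
  dE := fun h => π.dE (by
    have h' : v * d.z * v⁻¹ ∈ c.E := h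
    simpa [mul_assoc] using mul_mem (mul_mem (inv_mem hv) h') hv)
  cE := fun h => π.cE (by
    have h' := (mem_conj_map d.E v c.z).1 h
    rwa [show v⁻¹ * c.z * v = c.z by rw [← π.hc.z_comm (inv_mem hv)]; group] at h')
  wc := π.wc
  wd := by
    intro a ha h
    have h1 : IsConj d.z (v⁻¹ * a * v) := by
      have hA : IsConj (v * d.z * v⁻¹) a := h
      exact (isConj_iff.2 ⟨v, rfl⟩ : IsConj d.z (v * d.z * v⁻¹)).trans
        (hA.trans (isConj_iff.2 ⟨v⁻¹, by group⟩))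
    have := π.wd _ ((mem_conj_map d.E v a).1 ha) h1
    show a = v * d.z * v⁻¹
    rw [← this]; group
  cj := π.cj.trans (isConj_iff.2 ⟨v, rfl⟩)

/-- Inner is impossible. -/
theorem inner_all_false (hd : AutData A M) (hM : c.pr d.z ∈ M) : False := by
  by_cases hf : π.Full
  · exact π.inner_full_false hd hM hf
  obtain ⟨e, he, n, hn, hsn⟩ := π.hc.inner_split hd π.dH hM
  have hnH : n ∈ c.H := hn.1
  have hn2 : n * n = 1 ∨ n * n = c.z := by
    have h : e * n * (e * n) = 1 := by rw [← hsn, π.hd'.z_sq]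
    have hmem : n * n ∈ c.E ⊓ c.C := by
      refine mem_inf.2 ⟨?_, mul_mem hn hn⟩
      rw [show n * n = (n * e * n⁻¹)⁻¹ * e⁻¹ * (e * n * (e * n)) by group, h, mul_one]
      exact mul_mem (inv_mem (π.hc.conjE hnH he)) (inv_mem he)
    rw [π.hc.E_inf_C, π.hc.mem_zp] at hmem
    exact hmem
  have hfn : π.hc.fixMod d.z = π.hc.fixMod n := by rw [hsn, π.hc.fixMod_mul_left he hnH]
  have hst : c.Stable (π.hc.fixMod n) := by
    refine ⟨π.hc.fixMod_le n, π.hc.z_mem_fixMod hnH, fun q hq x hx => ?_⟩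
    refine ⟨π.hc.conjE (π.hc.P_le hq) hx.1, ?_⟩
    have hcm := π.hc.P_central hq hn
    have := π.hc.eqz_conj (π.hc.P_le hq) hx.2
    rwa [show q * (n * x * n⁻¹) * q⁻¹ = (q * n) * x * (q * n)⁻¹ by group, hcm,
      show n * q * x * (n * q)⁻¹ = n * (q * x * q⁻¹) * n⁻¹ by group] at this
  have htr : ∀ u ∈ π.hc.fixMod n, n * u = u * n := fun u hu =>
    π.hc.ptrick hst hn (fun x hx => hx.2) hu
  have hei : e ∈ π.hc.imMod d.z π.dH := by
    rw [← π.cent_fix]
    refine mem_inf.2 ⟨he, mem_centralizer_iff.2 fun u hu => ?_⟩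
    have h1 : d.z * u = u * d.z := (π.mem_Cs.1 (π.eq_of_not_full hf ▸ hu)).2
    have h2 := htr u (hfn ▸ hu)
    calc u * e = u * (e * n) * n⁻¹ := by group
      _ = (e * n) * u * n⁻¹ := by rw [← hsn, h1]
      _ = e * (n * u) * n⁻¹ := by group
      _ = e * u := by rw [h2]; group
  obtain ⟨v, hv, ev⟩ := hei
  have hcv : v * d.z * v⁻¹ ∈ c.C := by
    have he2 : e * e ∈ c.C := by
      rcases π.hc.sq_mem he with f | f <;> rw [f]
      exacts [one_mem _, π.hc.z_mem_C]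
    rw [cm_spec, hsn]
    rcases ev with f | f
    · rw [show cm d v = e from f.symm, ← mul_assoc]; exact mul_mem he2 hn
    · have : cm d v = c.z * e := by rw [f, ← mul_assoc, π.hc.z_sq, one_mul]; rfl
      rw [this, show c.z * e * (e * n) = c.z * (e * e * n) by group]
      exact mul_mem π.hc.z_mem_C (mul_mem he2 hn)
  have π' := π.conj_E hv
  have hz' : (d.conj v).z = v * d.z * v⁻¹ := rfl
  have hM' : c.pr (d.conj v).z ∈ M := by
    rw [hz', π.hc.pr_conj (π.hc.le_H hv) π.dH, π.hc.pr_E hv, one_mul, inv_one, mul_one]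
    exact hM
  by_cases hf' : π'.Full
  · exact π'.inner_full_false hd hM' hf'
  · exact π'.inner_false hd hM' hf' hcv

/-- The image of the centraliser in the outer, not full, case. -/
theorem outer_struct (hd : AutData A M) (hM : c.pr d.z ∉ M) (hf : ¬ π.Full) :
    Nat.card ↥(c.E ⊓ d.E) = 4 ∧ IsR (π.hd'.img (Cs c d)) := by
  obtain ⟨hK, hI, heq⟩ := π.hc.card_fix_outer hd π.dH hM π.invol
  have hFC := π.eq_of_not_full hf
  have hCI : Cs c d ≤ π.hc.imMod d.z π.dH := heq ▸ π.Cs_le_fix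
  have h2 : ∀ u ∈ Cs c d, u * u = 1 := fun u hu => π.im_sq_of_Cs (hCI hu) hu
  have hab : ∀ u ∈ Cs c d, ∀ w ∈ Cs c d, u * w = w * u := fun u hu w hw =>
    π.im_commute_fix (hCI hu) (π.Cs_le_fix hw)
  have hel := π.hd'.elem_img π.Cs_le_H hab h2
  have h32 := hd.elem_le _ hel
  have hi := π.card_img (le_refl (Cs c d))
  have hinf : Cs c d ⊓ d.E = c.E ⊓ d.E :=
    le_antisymm (fun u hu => mem_inf.2 ⟨(π.mem_Cs.1 (mem_inf.1 hu).1).1, (mem_inf.1 hu).2⟩)
      (le_inf π.A0_le_Cs inf_le_right)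
  rw [hinf, ← hFC, hK, hFC] at hi
  have h4 := π.A0_card_le hf
  have hA : Nat.card ↥(c.E ⊓ d.E) = 4 := by nlinarith
  rw [hA] at hi
  exact ⟨hA, hel, by omega⟩

/-- Both outer and not full is impossible. -/
theorem outer_false (hd : AutData A M) (hM : c.pr d.z ∉ M) (hM' : d.pr c.z ∉ M) (hf : ¬ π.Full)
    (hf' : ¬ π.symm.Full) : False := by
  classical
  obtain ⟨hA4, -⟩ := π.outer_struct hd hM hf
  obtain ⟨-, hR⟩ := π.symm.outer_struct hd hM' hf'
  haveI : Fintype ↥(c.E ⊓ d.E) := Fintype.ofFinite _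
  rw [Nat.card_eq_fintype_card] at hA4
  obtain ⟨⟨a, ha⟩, ha1⟩ := Fintype.exists_ne_of_one_lt_card (by omega) (1 : ↥(c.E ⊓ d.E))
  have ha1' : a ≠ 1 := fun h => ha1 (Subtype.ext h)
  obtain ⟨⟨b, hb⟩, hb'⟩ : ∃ b : ↥(c.E ⊓ d.E), b ∉ ({1, ⟨a, ha⟩} : Finset ↥(c.E ⊓ d.E)) := by
    by_contra h; push Not at h
    have e := Finset.eq_univ_iff_forall.2 h
    have := Finset.card_le_two (a := (1 : ↥(c.E ⊓ d.E))) (b := ⟨a, ha⟩)
    rw [e, Finset.card_univ] at this; omega
  simp only [Finset.mem_insert, Finset.mem_singleton, not_or] at hb'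
  have hb1 : b ≠ 1 := fun h => hb'.1 (Subtype.ext h)
  have hab : a ≠ b := fun h => hb'.2 (Subtype.ext h.symm)
  have ha2 := π.A0_sq ha
  have hb2 := π.A0_sq hb
  have hc' : a * b ∈ c.E ⊓ d.E := mul_mem ha hb
  have hc1 : a * b ≠ 1 := fun h => hab (by rw [← inv_eq_of_mul_eq_one_left hb2]; exact eq_inv_of_mul_eq_one_left h)
  have hca : a * b ≠ a := fun h => hb1 (mul_eq_left.1 h)
  have hcb : a * b ≠ b := fun h => ha1' (mul_eq_right.1 h)
  have hswap : ∀ {x : G}, x ∈ c.E ⊓ d.E → x ∈ d.E ⊓ c.E := fun h => mem_inf.2 ⟨(mem_inf.1 h).2, (mem_inf.1 h).1⟩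
  obtain ⟨va, hva, eva⟩ := π.witness hf ha ha1'
  obtain ⟨vb, hvb, evb⟩ := π.witness hf hb hb1
  obtain ⟨vc, hvc, evc⟩ := π.witness hf hc' hc1
  obtain ⟨wa, hwa, ewa⟩ := π.symm.witness hf' (hswap ha) ha1'
  obtain ⟨wb, hwb, ewb⟩ := π.symm.witness hf' (hswap hb) hb1
  obtain ⟨wc, hwc, ewc⟩ := π.symm.witness hf' (hswap hc') hc1
  -- the commuting elements
  have hsz : d.z * c.z = c.z * d.z := π.zs_comm
  have haz : a * c.z = c.z * a := (π.hc.z_comm (mem_inf.1 ha).1).symm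
  have hbz : b * c.z = c.z * b := (π.hc.z_comm (mem_inf.1 hb).1).symm
  have has : a * d.z = d.z * a := (π.hd'.z_comm (mem_inf.1 ha).2).symm
  have hbs : b * d.z = d.z * b := (π.hd'.z_comm (mem_inf.1 hb).2).symm
  have hba : b * a = a * b := π.central hb (π.A0_le_Cs ha)
  have zz := π.hc.z_sq
  have ss := π.hd'.z_sq
  have L : ∀ {x y : G}, x * y = y * x → ∀ r, x * (y * r) = y * (x * r) := fun h r => by
    rw [← mul_assoc, h, mul_assoc]
  have S : ∀ {x : G}, x * x = 1 → ∀ r, x * (x * r) = r := fun h r => by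
    rw [← mul_assoc, h, one_mul]
  -- actions
  have selfFix : ∀ {v x : G}, v ∈ c.E → x ∈ c.E ⊓ d.E → cm d v = c.z * x → v * x * v⁻¹ = x := by
    intro v x hv hx e
    have hx2 := π.A0_sq hx
    have hvv : v * v * d.z * (v * v)⁻¹ = d.z := by
      rcases π.hc.sq_mem hv with f | f <;> rw [f]
      · group
      · rw [← hsz]; group
    have h1 : v * d.z * v⁻¹ = c.z * x * d.z := by rw [cm_spec v, e]
    rw [show v * v * d.z * (v * v)⁻¹ = v * (v * d.z * v⁻¹) * v⁻¹ by group, h1,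
      show v * (c.z * x * d.z) * v⁻¹ = v * c.z * v⁻¹ * (v * x * v⁻¹) * (v * d.z * v⁻¹) by group,
      ← π.hc.z_comm hv, mul_inv_cancel_right, h1] at hvv
    have hvx : v * x * v⁻¹ ∈ c.E := π.hc.conjE (π.hc.le_H hv) (mem_inf.1 hx).1
    have h2 : (v * x * v⁻¹) * x = 1 := by
      calc (v * x * v⁻¹) * x = (c.z * c.z) * ((v * x * v⁻¹) * x) * (d.z * d.z⁻¹) := by rw [zz]; group
        _ = c.z * (c.z * (v * x * v⁻¹)) * x * d.z * d.z⁻¹ := by group
        _ = c.z * ((v * x * v⁻¹) * c.z) * x * d.z * d.z⁻¹ := by rw [π.hc.z_comm hvx]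
        _ = (c.z * (v * x * v⁻¹) * (c.z * x * d.z)) * d.z⁻¹ := by group
        _ = 1 := by rw [hvv, mul_inv_cancel]
    rw [eq_inv_of_mul_eq_one_left h2, inv_eq_of_mul_eq_one_left hx2]
  have selfFix' : ∀ {v x : G}, v ∈ d.E → x ∈ c.E ⊓ d.E → cm c v = d.z * x → v * x * v⁻¹ = x := by
    intro v x hv hx e
    have hx2 := π.A0_sq hx
    have hvv : v * v * c.z * (v * v)⁻¹ = c.z := by
      rcases π.hd'.sq_mem hv with f | f <;> rw [f]
      · group
      · rw [hsz]; group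
    have h1 : v * c.z * v⁻¹ = d.z * x * c.z := by rw [cm_spec v, e]
    rw [show v * v * c.z * (v * v)⁻¹ = v * (v * c.z * v⁻¹) * v⁻¹ by group, h1,
      show v * (d.z * x * c.z) * v⁻¹ = v * d.z * v⁻¹ * (v * x * v⁻¹) * (v * c.z * v⁻¹) by group,
      ← π.hd'.z_comm hv, mul_inv_cancel_right, h1] at hvv
    have hvx : v * x * v⁻¹ ∈ d.E := π.hd'.conjE (π.hd'.le_H hv) (mem_inf.1 hx).2
    have h2 : (v * x * v⁻¹) * x = 1 := by
      calc (v * x * v⁻¹) * x = (d.z * d.z) * ((v * x * v⁻¹) * x) * (c.z * c.z⁻¹) := by rw [ss]; group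
        _ = d.z * (d.z * (v * x * v⁻¹)) * x * c.z * c.z⁻¹ := by group
        _ = d.z * ((v * x * v⁻¹) * d.z) * x * c.z * c.z⁻¹ := by rw [π.hd'.z_comm hvx]
        _ = (d.z * (v * x * v⁻¹) * (d.z * x * c.z)) * c.z⁻¹ := by group
        _ = 1 := by rw [hvv, mul_inv_cancel]
    rw [eq_inv_of_mul_eq_one_left h2, inv_eq_of_mul_eq_one_left hx2]
  have fixz : ∀ {v : G}, v ∈ c.E → v * c.z * v⁻¹ = c.z := fun hv => by
    rw [← π.hc.z_comm hv, mul_inv_cancel_right]
  have fixs : ∀ {v : G}, v ∈ d.E → v * d.z * v⁻¹ = d.z := fun hv => by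
    rw [← π.hd'.z_comm hv, mul_inv_cancel_right]
  have mvs : ∀ {v x : G}, cm d v = c.z * x → v * d.z * v⁻¹ = c.z * x * d.z := fun e => by
    rw [cm_spec, e]
  have mvz : ∀ {v x : G}, cm c v = d.z * x → v * c.z * v⁻¹ = d.z * x * c.z := fun e => by
    rw [cm_spec, e]
  -- `va`
  let Φ : G → (G →* G) := fun g => (MulAut.conj g).toMonoidHom
  have hΦ : ∀ g x, Φ g x = g * x * g⁻¹ := fun g x => rfl
  have vaz : Φ va c.z = c.z := fixz hva
  have vas : Φ va d.z = c.z * a * d.z := mvs eva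
  have vaa : Φ va a = a := selfFix hva ha eva
  have vab : Φ va b = c.z * b := π.psi ha hb hva eva evb hab
  have vcz : Φ vc c.z = c.z := fixz hvc
  have vcs : Φ vc d.z = c.z * (a * b) * d.z := mvs evc
  have vca : Φ vc a = c.z * a := π.psi hc' ha hvc evc eva hca
  have vcb : Φ vc b = c.z * b := π.psi hc' hb hvc evc evb hcb
  have was : Φ wa d.z = d.z := fixs hwa
  have waz : Φ wa c.z = d.z * a * c.z := mvz ewa
  have waa : Φ wa a = a := selfFix' hwa ha ewa
  have wab : Φ wa b = d.z * b := π.symm.psi (hswap ha) (hswap hb) hwa ewa ewb hab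
  have wbs : Φ wb d.z = d.z := fixs hwb
  have wbz : Φ wb c.z = d.z * b * c.z := mvz ewb
  have wba : Φ wb a = d.z * a := π.symm.psi (hswap hb) (hswap ha) hwb ewb ewa hab.symm
  have wbb : Φ wb b = b := selfFix' hwb hb ewb
  set g := va * wb * vc * wa with hg
  have hΦg : ∀ x, g * x * g⁻¹ = Φ va (Φ wb (Φ vc (Φ wa x))) := fun x => by
    simp only [hΦ, hg]; group
  have gz : g * c.z * g⁻¹ = c.z := by
    rw [hΦg]
    simp only [map_mul, vaz, vas, vaa, vab, vcz, vcs, vca, vcb, was, waz, waa, wab, wbs, wbz, wba, wbb]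
    simp only [mul_assoc, L hsz, L haz, L hbz, L has, L hbs, L hba, S zz, S ss, S ha2, S hb2,
      hsz, haz, hbz, has, hbs, hba, zz, ss, ha2, hb2, mul_one]
  have gs : g * d.z * g⁻¹ = d.z := by
    rw [hΦg]
    simp only [map_mul, vaz, vas, vaa, vab, vcz, vcs, vca, vcb, was, waz, waa, wab, wbs, wbz, wba, wbb]
    simp only [mul_assoc, L hsz, L haz, L hbz, L has, L hbs, L hba, S zz, S ss, S ha2, S hb2,
      hsz, haz, hbz, has, hbs, hba, zz, ss, ha2, hb2, mul_one]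
  have ga : g * a * g⁻¹ = a * b := by
    rw [hΦg]
    simp only [map_mul, vaz, vas, vaa, vab, vcz, vcs, vca, vcb, was, waz, waa, wab, wbs, wbz, wba, wbb]
    simp only [mul_assoc, L hsz, L haz, L hbz, L has, L hbs, L hba, S zz, S ss, S ha2, S hb2,
      hsz, haz, hbz, has, hbs, hba, zz, ss, ha2, hb2, mul_one]
  have gb : g * b * g⁻¹ = a := by
    rw [hΦg]
    simp only [map_mul, vaz, vas, vaa, vab, vcz, vcs, vca, vcb, was, waz, waa, wab, wbs, wbz, wba, wbb]
    simp only [mul_assoc, L hsz, L haz, L hbz, L has, L hbs, L hba, S zz, S ss, S ha2, S hb2,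
      hsz, haz, hbz, has, hbs, hba, zz, ss, ha2, hb2, mul_one]
  have hgH : g ∈ c.H := c.mem_H.2 (by
    calc c.z * g = g * c.z * g⁻¹ * g := by rw [gz]
      _ = g * c.z := by group)
  have hgs : g * d.z = d.z * g := by
    calc g * d.z = g * d.z * g⁻¹ * g := by group
      _ = d.z * g := by rw [gs]
  have h3 : g ^ 3 * a = a * g ^ 3 := by
    have : g ^ 3 * a * (g ^ 3)⁻¹ = a := by
      rw [pow_three', show g * g * g * a * (g * g * g)⁻¹ = g * (g * (g * a * g⁻¹) * g⁻¹) * g⁻¹ by group, ga,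
        show g * (g * (a * b) * g⁻¹) * g⁻¹ = g * ((g * a * g⁻¹) * (g * b * g⁻¹)) * g⁻¹ by group, ga, gb,
        show g * (a * b * a) * g⁻¹ = g * (a * (b * a)) * g⁻¹ by group, hba, S ha2, gb]
    calc g ^ 3 * a = g ^ 3 * a * (g ^ 3)⁻¹ * g ^ 3 := by group
      _ = a * g ^ 3 := by rw [this]
  obtain ⟨g', hg', hg'3⟩ := Ok.exists_order_three rfl h3 fun h => hca (by
    rw [← ga, h, mul_inv_cancel_right])
  obtain ⟨k, rfl⟩ := mem_zpowers_iff.1 hg'
  have hg'H : g ^ k ∈ c.H := zpow_mem hgH k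
  have hg's : g ^ k * d.z = d.z * g ^ k := ((show Commute g d.z from hgs).zpow_left k).eq
  -- three divides the centraliser in `A`
  set u := c.pr d.z with hu
  haveI := hd.finite
  have hu2 : orderOf u = 2 := by
    refine orderOf_eq_prime ?_ π.pr_ne
    rw [sq, ← π.hc.pr_mul _ π.dH _ π.dH, π.hd'.z_sq, π.hc.pr_one]
  have hγ : c.pr (g ^ k) ∈ centralizer ({u} : Set A) := by
    refine mem_centralizer_iff.2 fun x hx => ?_
    rw [Set.mem_singleton_iff] at hx; subst hx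
    rw [← π.hc.pr_mul _ π.dH _ hg'H, ← π.hc.pr_mul _ hg'H _ π.dH, hg's]
  have h3u : 3 ∣ Nat.card (centralizer ({u} : Set A)) := by
    have ho : orderOf (c.pr (g ^ k)) ∣ 3 := by
      rw [← hg'3]
      exact orderOf_map_dvd π.hc.prHom (⟨g ^ k, hg'H⟩ : c.H) |>.trans (by rw [Subgroup.orderOf_mk])
    rcases (Nat.dvd_prime Nat.prime_three).1 ho with h | h
    · exact absurd (orderOf_eq_one_iff.1 h) (π.hc.three_pr_ne hd π.dH hM hg'H hg'3 hg's)
    · exact h ▸ Subgroup.orderOf_dvd_natCard _ hγ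
  haveI : Fact (Nat.Prime 7) := ⟨by norm_num⟩
  obtain ⟨⟨γ, hγu⟩, hγ7⟩ := exists_prime_orderOf_dvd_card' 7 (hd.outer_three u hM hu2 h3u)
  rw [Subgroup.orderOf_mk] at hγ7
  obtain ⟨n, hn, hnγ⟩ := π.hc.pr_surj γ
  have ht : n * d.z * n⁻¹ ∈ c.H := mul_mem (mul_mem hn π.dH) (inv_mem hn)
  have htp : c.pr (n * d.z * n⁻¹) = u := by
    rw [π.hc.pr_conj hn π.dH, hnγ, ← hu, ← mem_centralizer_iff.1 hγu u rfl, mul_inv_cancel_right]
  obtain ⟨j, hj, hjt⟩ := π.hc.outer_coset hd π.dH hM π.hd'.z_sq ht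
    (by rw [show n * d.z * n⁻¹ * (n * d.z * n⁻¹) = n * (d.z * d.z) * n⁻¹ by group, ss]; group) htp
  have hjH := π.hc.N_le hj
  set m := j * n with hm
  have hmH : m ∈ c.H := mul_mem hjH hn
  have hmm : m * m * d.z * (m * m)⁻¹ = d.z := by
    have hjt' : m * d.z * m⁻¹ = d.z ∨ m * d.z * m⁻¹ = c.z * d.z := by
      rw [show m * d.z * m⁻¹ = j * (n * d.z * n⁻¹) * j⁻¹ by rw [hm]; group]; exact hjt
    rw [show m * m * d.z * (m * m)⁻¹ = m * (m * d.z * m⁻¹) * m⁻¹ by group]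
    rcases hjt' with e | e
    · rw [e, e]
    · rw [e, show m * (c.z * d.z) * m⁻¹ = m * c.z * m⁻¹ * (m * d.z * m⁻¹) by group, e,
        ← c.mem_H.1 hmH, mul_inv_cancel_right, S zz]
  have hmd : m * m ∈ d.H := d.mem_H.2 (by
    calc d.z * (m * m) = m * m * d.z * (m * m)⁻¹ * (m * m) := by rw [hmm]
      _ = m * m * d.z := by group)
  have hXH : Cs d c ≤ c.H := π.symm.Cs_le_H
  have hnorm := π.hc.mem_normalizer_img hXH (mul_mem hmH hmH) (fun x hx => by
    refine π.symm.mem_Cs.2 ⟨π.hd'.conjE hmd (π.symm.mem_Cs.1 hx).1, ?_⟩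
    exact c.mem_H.1 (mul_mem (mul_mem (mul_mem hmH hmH) (hXH hx)) (inv_mem (mul_mem hmH hmH))))
  have hm7 : orderOf (c.pr (m * m)) = 7 := by
    rw [hm, π.hc.pr_mul _ (mul_mem hjH hn) _ (mul_mem hjH hn), π.hc.pr_mul _ hjH _ hn,
      (π.hc.pr_ker j hjH).2 hj, one_mul, hnγ, ← sq, Nat.Coprime.orderOf_pow (by rw [hγ7]; decide), hγ7]
  have hN : Nat.card (normalizer ((π.hc.img (Cs d c) : Subgroup A) : Set A)) = 3840 := by
    have h := (normalizer ((π.hc.img (Cs d c) : Subgroup A) : Set A)).card_mul_index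
    rw [hd.R_index _ hR, hd.card] at h
    omega
  have := hm7 ▸ hN ▸ Subgroup.orderOf_dvd_natCard _ hnorm
  omega

/-- No pair exists. -/
theorem no_pair (hd : AutData A M) : False := by
  by_cases hM : c.pr d.z ∈ M
  · exact π.inner_all_false hd hM
  by_cases hM' : d.pr c.z ∈ M
  · exact π.symm.inner_all_false hd hM'
  by_cases hf : π.Full
  · exact π.outer_full_false hd hM hf
  by_cases hf' : π.symm.Full
  · exact π.symm.outer_full_false hd hM' hf'
  exact π.outer_false hd hM hM' hf hf'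

end Pair

/-- **Weak closure fails.** -/
theorem Ok.exists_fused (hc : c.Ok) (hd : AutData A M) [IsSimpleGroup G]
    (hG : ¬ IsMulCommutative G) : ∃ e ∈ c.E, e ≠ c.z ∧ IsConj c.z e := by
  by_contra hno
  push Not at hno
  have wc : ∀ a ∈ c.E, IsConj c.z a → a = c.z := fun a ha h => by
    by_contra hne; exact hno a ha hne h
  have hiso : Cfsg.IsIsolatedInvolution c.z := by
    refine ⟨hc.ord, fun g hg => ?_⟩
    by_contra hne
    have hzg : c.z * (g * c.z * g⁻¹) = g * c.z * g⁻¹ * c.z := hg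
    refine Pair.no_pair (c := c) (d := c.conj g) ?_ hd
    refine ⟨hc, hc.conj g, c.mem_H.2 hzg, fun h => hne (wc _ h (isConj_iff.2 ⟨g, rfl⟩)), fun h => ?_, wc, ?_,
      isConj_iff.2 ⟨g, rfl⟩⟩
    · have h' := (mem_conj_map c.E g c.z).1 h
      have e := wc _ h' (isConj_iff.2 ⟨g⁻¹, by group⟩)
      apply hne
      calc g * c.z * g⁻¹ = g * (g⁻¹ * c.z * g) * g⁻¹ := by rw [e]
        _ = c.z := by group
    · intro a ha h
      have hA : IsConj (g * c.z * g⁻¹) a := h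
      have e := wc _ ((mem_conj_map c.E g a).1 ha)
        ((isConj_iff.2 ⟨g, rfl⟩ : IsConj c.z (g * c.z * g⁻¹)).trans (hA.trans (isConj_iff.2 ⟨g⁻¹, by group⟩)))
      show a = g * c.z * g⁻¹
      rw [← e]; group
  have hz := Cores.zStarProp (Cores.uniqueInvolutionCase Cores.quaternionCase) G c.z hiso
  have hO : Cfsg.oddCore G = ⊥ := by
    rcases (inferInstance : (Cfsg.oddCore G).Normal).eq_bot_or_eq_top with h | h
    · exact h
    · exfalso
      have hodd : Odd (Nat.card ↥(Cfsg.oddCore G)) := Cores.odd_card_oddCore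
      rw [h, Subgroup.card_top] at hodd
      have h2 : 2 ∣ Nat.card G := hc.ord ▸ orderOf_dvd_natCard c.z
      exact (Nat.not_even_iff_odd.2 hodd) (even_iff_two_dvd.2 h2)
  have hzc : c.z ∈ center G := mem_center_iff.2 fun g => by
    have h := hz g
    rw [hO, Subgroup.mem_bot] at h
    calc g * c.z = (c.z * g * c.z⁻¹ * g⁻¹) * (g * c.z) := by rw [h, one_mul]
      _ = c.z * g := by group
  rcases (inferInstance : (center G).Normal).eq_bot_or_eq_top with h | h
  · rw [h, Subgroup.mem_bot] at hzc; exact hc.z_ne hzc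
  · exact hG ⟨⟨fun a b => (mem_center_iff.1 (h.ge (Subgroup.mem_top b)) a)⟩⟩

end Ctx

end Cfsg.Agent.H43.JFour
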