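import Cfsg.Agent.H43.J4.Image

/-!
# A pair of commuting `z`-conjugates, neither in the other's `E`, with `z` weakly closed in `E`

We show that no such pair exists; the configurations are distinguished by whether the second involution
induces an inner element of `Aut M22` and whether it centralises its fixed space modulo `z` exactly.
-/

set_option autoImplicit false

namespace Cfsg.Agent.H43.JFour

open Subgroup
open scoped commutatorElement

universe u v

variable {G : Type u} [Group G] [Finite G] {A : Type v} [Group A] {M : Subgroup A}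

/-- A subgroup in which two elements not commuting with `a` have a product commuting with it. -/
theorem card_le_two_mul_cent (X : Subgroup G) (a : G)
    (h : ∀ u ∈ X, ∀ w ∈ X, u * a ≠ a * u → w * a ≠ a * w → u * w * a = a * (u * w)) :
    Nat.card X ≤ 2 * Nat.card ↥(X ⊓ centralizer ({a} : Set G)) := by
  set Y := X ⊓ centralizer ({a} : Set G) with hY
  have hYm : ∀ u, u ∈ Y ↔ u ∈ X ∧ u * a = a * u := fun u => by
    simp [hY, mem_centralizer_iff, eq_comm]
  by_cases hall : ∀ u ∈ X, u * a = a * u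
  · have : X ≤ Y := fun u hu => (hYm u).2 ⟨hu, hall u hu⟩
    exact le_trans (Nat.le_of_dvd Nat.card_pos (Subgroup.card_dvd_of_le this)) (Nat.le_mul_of_pos_left _ two_pos)
  push Not at hall
  obtain ⟨u₀, hu₀, hne⟩ := hall
  have hidx : (Y.subgroupOf X).index = 2 := by
    rw [Subgroup.index_eq_two_iff]
    refine ⟨⟨u₀, hu₀⟩, fun b => ?_⟩
    simp only [mem_subgroupOf, Subgroup.coe_mul, hYm]
    by_cases hb : (b : G) * a = a * b
    · refine Or.inr ⟨⟨b.2, hb⟩, fun h' => hne ?_⟩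
      have hb' : Commute (b : G)⁻¹ a := (show Commute (b : G) a from hb).inv_left
      have := hb'.mul_left (show Commute ((b : G) * u₀) a from h'.2)
      simpa using this.eq
    · exact Or.inl ⟨⟨mul_mem b.2 hu₀, h _ b.2 _ hu₀ hb hne⟩, fun h' => hb h'.2⟩
  have := (Y.subgroupOf X).card_mul_index
  rw [hidx, Nat.card_congr (subgroupOfEquivOfLe (inf_le_left : Y ≤ X)).toEquiv] at this
  clear_value Y; subst hY; omega

namespace Ctx

variable {c d : Ctx G A}

/-- Stable abelian subgroups consist of elements of square 1. -/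
theorem Ok.stable_sq (hc : c.Ok) {K : Subgroup G} (hK : c.Stable K)
    (hab : ∀ a ∈ K, ∀ b ∈ K, a * b = b * a) {k : G} (hk : k ∈ K) : k * k = 1 := by
  obtain ⟨q, hq, hq1⟩ := hc.exists_p
  have hqH := hc.P_le hq
  have hkE := hK.le hk
  have sqc : ∀ w ∈ c.E, q * w * q⁻¹ * (q * w * q⁻¹) = w * w := by
    intro w hw
    rw [show q * w * q⁻¹ * (q * w * q⁻¹) = q * (w * w) * q⁻¹ by group]
    rcases hc.sq_mem hw with e | e <;> rw [e]
    · group
    · rw [← c.mem_H.1 hqH, mul_inv_cancel_right]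
  have k1 := hK.conj q hq k hk
  have k2 := hK.conj q hq _ k1
  have e := hc.orbit_prod hq hq1 hkE
  have s1 := sqc k hkE
  have s2 := (sqc _ (hK.le k1)).trans s1
  set k1' := q * k * q⁻¹
  set k2' := q * k1' * q⁻¹
  have hsq : k * k1' * (k * k1') = k * k * (k1' * k1') := by
    calc k * k1' * (k * k1') = k * (k1' * k) * k1' := by group
      _ = k * (k * k1') * k1' := by rw [hab k1' k1 k hk]
      _ = k * k * (k1' * k1') := by group
  rw [s1] at hsq
  have hone : k * k1' * (k * k1') = 1 := by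
    rw [hsq]; rcases hc.sq_mem hkE with f | f <;> rw [f] <;> simp [hc.z_sq]
  have hz := hc.z_comm (inv_mem (hK.le k2))
  have hk2inv : k * k1' = k2'⁻¹ ∨ k * k1' = c.z * k2'⁻¹ := by
    rcases hc.eqz_cases e with f | f
    · exact Or.inl (eq_inv_of_mul_eq_one_left f)
    · exact Or.inr (by rw [← f]; group)
  rw [← s2]
  have : (k2' * k2')⁻¹ = 1 := by
    rcases hk2inv with f | f <;> rw [f] at hone
    · rw [_root_.mul_inv_rev]; exact hone
    · rw [_root_.mul_inv_rev]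
      calc k2'⁻¹ * k2'⁻¹ = (c.z * c.z) * (k2'⁻¹ * k2'⁻¹) := by rw [hc.z_sq, one_mul]
        _ = c.z * (c.z * k2'⁻¹) * k2'⁻¹ := by group
        _ = c.z * (k2'⁻¹ * c.z) * k2'⁻¹ := by rw [hz]
        _ = 1 := by rw [← hone]; group
  exact inv_eq_one.1 this

omit [Finite G] in
theorem Ok.sq_sq (hc : c.Ok) {x : G} (hx : x ∈ c.E) : x * x * (x * x) = 1 := by
  rcases hc.sq_mem hx with e | e <;> rw [e]
  exacts [one_mul _, hc.z_sq]

/-- The configuration. -/
structure Pair (c d : Ctx G A) : Prop where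
  hc : c.Ok
  hd' : d.Ok
  dH : d.z ∈ c.H
  dE : d.z ∉ c.E
  cE : c.z ∉ d.E
  wc : ∀ a ∈ c.E, IsConj c.z a → a = c.z
  wd : ∀ a ∈ d.E, IsConj d.z a → a = d.z
  cj : IsConj c.z d.z

/-- The commutator of `v` with the second involution. -/
def cm (d : Ctx G A) (v : G) : G := v * (d.z * v⁻¹ * d.z⁻¹)

omit [Finite G] in
theorem cm_spec (v : G) : v * d.z * v⁻¹ = cm d v * d.z := by simp only [cm]; group

/-- The centraliser in `E` of the second involution. -/
def Cs (c d : Ctx G A) : Subgroup G := c.E ⊓ centralizer ({d.z} : Set G)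

namespace Pair

variable (π : Pair c d)
include π

theorem cH : c.z ∈ d.H := d.mem_H.2 (c.mem_H.1 π.dH).symm

theorem symm : Pair d c := ⟨π.hd', π.hc, π.cH, π.cE, π.dE, π.wd, π.wc, π.cj.symm⟩

theorem mem_Cs {u : G} : u ∈ Cs c d ↔ u ∈ c.E ∧ d.z * u = u * d.z := by
  simp [Cs, mem_centralizer_iff, eq_comm]

theorem Cs_le_H : Cs c d ≤ d.H := fun _ hu => d.mem_H.2 (π.mem_Cs.1 hu).2

theorem zs_comm : d.z * c.z = c.z * d.z := d.mem_H.1 π.cH

theorem za_not {a : G} (ha : a ∈ c.E ⊓ d.E) (h1 : a ≠ 1) : ¬ IsConj c.z (c.z * a) := fun h =>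
  h1 (mul_left_cancel ((π.wc _ (mul_mem π.hc.z_mem (mem_inf.1 ha).1) h).trans (mul_one _).symm))

theorem sa_not {a : G} (ha : a ∈ c.E ⊓ d.E) (h1 : a ≠ 1) : ¬ IsConj c.z (d.z * a) := fun h =>
  h1 (mul_left_cancel ((π.wd _ (mul_mem π.hd'.z_mem (mem_inf.1 ha).2) (π.cj.symm.trans h)).trans
    (mul_one _).symm))

theorem cm_mem {v : G} (hv : v ∈ c.E) : cm d v ∈ c.E := π.hc.cm_mem π.dH hv

theorem cm_notin {v : G} (hA : cm d v ∈ c.E ⊓ d.E) : cm d v = 1 := by
  have h1 : IsConj d.z (cm d v * d.z) := isConj_iff.2 ⟨v, cm_spec v⟩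
  have h2 := π.wd _ (mul_mem (mem_inf.1 hA).2 π.hd'.z_mem) h1
  exact mul_right_cancel (h2.trans (one_mul _).symm)

theorem A0_le_Cs : c.E ⊓ d.E ≤ Cs c d := fun _ ha =>
  π.mem_Cs.2 ⟨(mem_inf.1 ha).1, π.hd'.z_comm (mem_inf.1 ha).2⟩

theorem central {a u : G} (ha : a ∈ c.E ⊓ d.E) (hu : u ∈ Cs c d) : a * u = u * a := by
  have h1 : a * u * a⁻¹ * u⁻¹ ∈ d.E := by
    have := mul_mem (mem_inf.1 ha).2 (π.hd'.conjE (π.Cs_le_H hu) (inv_mem (mem_inf.1 ha).2))
    simpa [mul_assoc] using this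
  rcases π.hc.comm_mem (mem_inf.1 ha).1 (π.mem_Cs.1 hu).1 with e | e
  · calc a * u = a * u * a⁻¹ * u⁻¹ * (u * a) := by group
      _ = u * a := by rw [e, one_mul]
  · exact absurd (e ▸ h1) π.cE

theorem pr_ne : c.pr d.z ≠ 1 := by
  intro h
  exact π.dE ((π.hc.ker_two π.dH (by rw [π.hd'.z_sq, one_mul])).1 h)

theorem invol : c.InvolMod d.z := π.hc.involMod_of_sq (Or.inl π.hd'.z_sq)

theorem Cs_le_fix : Cs c d ≤ π.hc.fixMod d.z := by
  intro u hu
  obtain ⟨huE, h⟩ := π.mem_Cs.1 hu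
  exact ⟨huE, Or.inl (by rw [h]; group)⟩

theorem z_mem_Cs : c.z ∈ Cs c d := π.mem_Cs.2 ⟨π.hc.z_mem, π.zs_comm⟩

theorem card_fix_le : Nat.card (π.hc.fixMod d.z) ≤ 2 * Nat.card (Cs c d) := by
  refine le_trans (card_le_two_mul_cent _ d.z ?_) (Nat.mul_le_mul_left 2
    (Nat.le_of_dvd Nat.card_pos (Subgroup.card_dvd_of_le ?_)))
  · intro u hu w hw hu' hw'
    have key : ∀ {u : G}, u ∈ π.hc.fixMod d.z → u * d.z ≠ d.z * u → d.z * u = c.z * (u * d.z) := by
      intro u hu hne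
      rcases hu.2 with e | e
      · exfalso; apply hne
        calc u * d.z = d.z * u * d.z⁻¹ * d.z := by rw [e]
          _ = d.z * u := by group
      · calc d.z * u = d.z * u * d.z⁻¹ * d.z := by group
          _ = c.z * (u * d.z) := by rw [e]; group
    have e1 := key hu hu'
    have e2 := key hw hw'
    have hzu : Commute c.z u := π.hc.z_comm hu.1
    symm
    calc d.z * (u * w) = d.z * u * w := by group
      _ = c.z * u * (d.z * w) := by rw [e1]; group
      _ = (c.z * u) * c.z * (w * d.z) := by rw [e2]; group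
      _ = c.z * (c.z * u) * (w * d.z) := by rw [mul_assoc c.z u c.z, ← hzu.eq]
      _ = u * w * d.z := by rw [← mul_assoc c.z c.z u, π.hc.z_sq]; group
  · intro u hu
    exact π.mem_Cs.2 ⟨(mem_inf.1 hu).1.1, mem_centralizer_iff.1 (mem_inf.1 hu).2 d.z rfl⟩

/-- The full case. -/
def Full : Prop := ¬ π.hc.fixMod d.z ≤ Cs c d

theorem eq_of_not_full (h : ¬ π.Full) : π.hc.fixMod d.z = Cs c d :=
  le_antisymm (not_not.1 h) π.Cs_le_fix

theorem im_inv {w : G} (hw : w ∈ π.hc.imMod d.z π.dH) : d.z * w * d.z⁻¹ = w⁻¹ := by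
  obtain ⟨v, hv, e⟩ := hw
  have h1 : d.z * cm d v * d.z⁻¹ = (cm d v)⁻¹ := by
    have hs := π.hd'.z_inv
    simp only [cm, hs]
    calc d.z * (v * (d.z * v⁻¹ * d.z)) * d.z = d.z * v * d.z * v⁻¹ * (d.z * d.z) := by group
      _ = (v * (d.z⁻¹ * v⁻¹ * d.z⁻¹))⁻¹ := by rw [π.hd'.z_sq]; group
      _ = _ := by rw [hs]
  rcases e with e | e <;> subst e
  · exact h1
  · show d.z * (c.z * cm d v) * d.z⁻¹ = (c.z * cm d v)⁻¹
    rw [show d.z * (c.z * cm d v) * d.z⁻¹ = d.z * c.z * d.z⁻¹ * (d.z * cm d v * d.z⁻¹) by group, h1,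
      π.zs_comm, mul_inv_cancel_right, _root_.mul_inv_rev, π.hc.z_inv, π.hc.z_comm (inv_mem (π.cm_mem hv))]

theorem full_disjoint (hf : π.Full) {w : G} (hw : w ∈ π.hc.imMod d.z π.dH) (hA : w ∈ c.E ⊓ d.E) :
    w = 1 := by
  obtain ⟨u, hu, hu'⟩ := SetLike.not_le_iff_exists.1 hf
  have hmv : d.z * u * d.z⁻¹ = c.z * u := by
    rcases hu.2 with e | e
    · exfalso; apply hu'
      refine π.mem_Cs.2 ⟨hu.1, ?_⟩
      calc d.z * u = d.z * u * d.z⁻¹ * d.z := by group
        _ = u * d.z := by rw [e]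
    · exact e
  have hcmu : cm d u = c.z := by
    calc cm d u = u * (d.z * u * d.z⁻¹)⁻¹ := by simp only [cm]; group
      _ = u * u⁻¹ * c.z⁻¹ := by rw [hmv]; group
      _ = c.z := by rw [mul_inv_cancel, one_mul, π.hc.z_inv]
  obtain ⟨v, hv, e⟩ := hw
  rcases e with e | e
  · subst e; exact π.cm_notin hA
  · subst e
    have h2 : c.z * cm d v = cm d (v * u) := by
      have : cm d (v * u) = v * cm d u * (v⁻¹ * cm d v) := by simp only [cm]; group
      rw [this, hcmu, ← π.hc.z_comm hv]; group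
    show c.z * cm d v = 1
    rw [h2]; exact π.cm_notin (h2 ▸ hA)

theorem im_sq_of_Cs {w : G} (hw : w ∈ π.hc.imMod d.z π.dH) (hC : w ∈ Cs c d) : w * w = 1 := by
  have h := π.im_inv hw
  rw [(π.mem_Cs.1 hC).2, mul_inv_cancel_right] at h
  calc w * w = w * w⁻¹ := by rw [← h]
    _ = 1 := mul_inv_cancel w

theorem im_commute_fix {w u : G} (hw : w ∈ π.hc.imMod d.z π.dH) (hu : u ∈ π.hc.fixMod d.z) :
    w * u = u * w := by
  rw [π.hc.fixMod_eq π.dH π.invol] at hu
  exact mem_centralizer_iff.1 (mem_inf.1 hu).2 w hw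

theorem cent_fix : c.E ⊓ centralizer (π.hc.fixMod d.z : Set G) = π.hc.imMod d.z π.dH := by
  symm
  refine Subgroup.eq_of_le_of_card_ge (fun w hw => mem_inf.2 ⟨π.hc.imMod_le π.dH hw,
    mem_centralizer_iff.2 fun u hu => (π.im_commute_fix hw hu).symm⟩) ?_
  have h1 := π.hc.card_cent (π.hc.fixMod d.z) (π.hc.fixMod_le d.z) (π.hc.z_mem_fixMod π.dH)
  have h2 := π.hc.card_fix_im π.dH π.invol
  rw [mul_comm] at h2
  exact le_of_eq (Nat.eq_of_mul_eq_mul_right Nat.card_pos (h1.trans h2.symm))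

theorem card_img {X : Subgroup G} (hX : X ≤ Cs c d) :
    Nat.card (π.hd'.img X) * Nat.card ↥(X ⊓ d.E) = Nat.card X :=
  π.hd'.card_img (hX.trans π.Cs_le_H) fun _ hx => π.hc.sq_sq (π.mem_Cs.1 (hX hx)).1

/-- Outer and full is impossible. -/
theorem outer_full_false (hd : AutData A M) (hM : c.pr d.z ∉ M) (hf : π.Full) : False := by
  obtain ⟨hK, hI, heq⟩ := π.hc.card_fix_outer hd π.dH hM π.invol
  have h64 := π.card_fix_le
  rw [hK] at h64
  have hCI : Cs c d ≤ π.hc.imMod d.z π.dH := heq ▸ π.Cs_le_fix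
  have h2 : ∀ u ∈ Cs c d, u * u = 1 := fun u hu => π.im_sq_of_Cs (hCI hu) hu
  have hab : ∀ u ∈ Cs c d, ∀ w ∈ Cs c d, u * w = w * u := fun u hu w hw =>
    π.im_commute_fix (hCI hu) (π.Cs_le_fix hw)
  have h1 : Nat.card ↥(Cs c d ⊓ d.E) = 1 := by
    rw [Subgroup.card_eq_one, eq_bot_iff]
    intro u hu
    obtain ⟨hu1, hu2⟩ := mem_inf.1 hu
    exact Subgroup.mem_bot.2 (π.full_disjoint hf (hCI hu1) (mem_inf.2 ⟨(π.mem_Cs.1 hu1).1, hu2⟩))
  have hi := π.card_img (le_refl (Cs c d))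
  rw [h1, mul_one] at hi
  have := hd.elem_le _ (π.hd'.elem_img π.Cs_le_H hab h2)
  omega

theorem im_stable (hd : AutData A M) (hM : c.pr d.z ∈ M) : c.Stable (π.hc.imMod d.z π.dH) := by
  refine ⟨π.hc.imMod_le π.dH, π.hc.z_mem_imMod π.dH, ?_⟩
  rintro q hq w ⟨v, hv, e⟩
  refine ⟨q * v * q⁻¹, π.hc.conjE (π.hc.P_le hq) hv, ?_⟩
  have hl := π.hc.linear hd π.dH hM hq (inv_mem hv)
  have hqv := π.hc.conjE (π.hc.P_le hq) hv
  have h1 := π.hc.eqz_mul (π.hc.le_H hqv) (Eqz.refl c (q * v * q⁻¹)) hl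
  rw [show q * v * q⁻¹ * (q * (d.z * v⁻¹ * d.z⁻¹) * q⁻¹) = q * cm d v * q⁻¹ by simp only [cm]; group,
    show q * v * q⁻¹ * (d.z * (q * v⁻¹ * q⁻¹) * d.z⁻¹) =
      q * v * q⁻¹ * (d.z * (q * v * q⁻¹)⁻¹ * d.z⁻¹) by group] at h1
  exact π.hc.eqz_trans (π.hc.eqz_symm h1) (π.hc.eqz_conj (π.hc.P_le hq) e)

/-- Inner and full is impossible. -/
theorem inner_full_false (hd : AutData A M) (hM : c.pr d.z ∈ M) (hf : π.Full) : False := by
  obtain ⟨hK, hI⟩ := π.hc.card_fix_inner hd π.dH hM π.pr_ne (Or.inl π.hd'.z_sq)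
  set W := π.hc.imMod d.z π.dH
  have hWfix := π.hc.imMod_le_fixMod π.dH π.invol
  have hWab : ∀ u ∈ W, ∀ w ∈ W, u * w = w * u := fun u hu w hw => π.im_commute_fix hu (hWfix hw)
  have hW2 : ∀ w ∈ W, w * w = 1 := fun w hw => π.hc.stable_sq (π.im_stable hd hM) hWab hw
  have hWC : W ≤ Cs c d := fun w hw => by
    refine π.mem_Cs.2 ⟨π.hc.imMod_le π.dH hw, ?_⟩
    have h := π.im_inv hw
    rw [inv_eq_of_mul_eq_one_left (hW2 w hw)] at h
    calc d.z * w = d.z * w * d.z⁻¹ * d.z := by group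
      _ = w * d.z := by rw [h]
  have h1 : Nat.card ↥(W ⊓ d.E) = 1 := by
    rw [Subgroup.card_eq_one, eq_bot_iff]
    intro u hu
    obtain ⟨hu1, hu2⟩ := mem_inf.1 hu
    exact Subgroup.mem_bot.2 (π.full_disjoint hf hu1 (mem_inf.2 ⟨π.hc.imMod_le π.dH hu1, hu2⟩))
  have hi := π.card_img hWC
  rw [h1, mul_one, hI] at hi
  have hR : IsR (π.hd'.img W) :=
    ⟨π.hd'.elem_img (hWC.trans π.Cs_le_H) hWab hW2, hi⟩
  have hcen := hd.cent_R _ hR
  have hCsab : ∀ u ∈ Cs c d, ∀ u' ∈ Cs c d, u * u' = u' * u := by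
    have hdec : ∀ u ∈ Cs c d, ∃ w ∈ W, w⁻¹ * u ∈ c.E ⊓ d.E := by
      intro u hu
      have hm : d.pr u ∈ centralizer ((π.hd'.img W : Subgroup A) : Set A) := by
        refine mem_centralizer_iff.2 fun α hα => ?_
        obtain ⟨w, hw, rfl⟩ := (π.hd'.mem_img (hWC.trans π.Cs_le_H)).1 hα
        rw [← π.hd'.pr_mul _ (π.Cs_le_H (hWC hw)) _ (π.Cs_le_H hu),
          π.im_commute_fix hw (π.Cs_le_fix hu), π.hd'.pr_mul _ (π.Cs_le_H hu) _ (π.Cs_le_H (hWC hw))]
      rw [hcen] at hm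
      obtain ⟨w, hw, e⟩ := (π.hd'.mem_img (hWC.trans π.Cs_le_H)).1 hm
      have hwu : w⁻¹ * u ∈ Cs c d := mul_mem (inv_mem (hWC hw)) hu
      refine ⟨w, hw, mem_inf.2 ⟨(π.mem_Cs.1 hwu).1, ?_⟩⟩
      refine (π.hd'.ker_two (π.Cs_le_H hwu) (π.hc.sq_sq (π.mem_Cs.1 hwu).1)).1 ?_
      rw [π.hd'.pr_mul _ (inv_mem (π.Cs_le_H (hWC hw))) _ (π.Cs_le_H hu),
        π.hd'.pr_inv (π.Cs_le_H (hWC hw)), e, inv_mul_cancel]
    intro u hu u' hu'
    obtain ⟨w, hw, ha⟩ := hdec u hu
    have c1 : Commute w u' := π.im_commute_fix hw (π.Cs_le_fix hu')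
    have c2 : Commute (w⁻¹ * u) u' := π.central ha hu'
    have := c1.mul_left c2
    rw [mul_inv_cancel_left] at this
    exact this
  have hcc := π.hc.card_cent (Cs c d) inf_le_left π.z_mem_Cs
  have hle : Cs c d ≤ c.E ⊓ centralizer (Cs c d : Set G) := fun u hu =>
    mem_inf.2 ⟨(π.mem_Cs.1 hu).1, mem_centralizer_iff.2 fun u' hu' => hCsab u' hu' u hu⟩
  have h3 := Nat.le_of_dvd Nat.card_pos (Subgroup.card_dvd_of_le hle)
  have h4 := π.card_fix_le
  rw [hK] at h4
  have h5 : 256 ≤ Nat.card (Cs c d) := by omega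
  have h6 := Nat.mul_le_mul (h5.trans h3) h5
  omega

theorem A0_le_im (hf : ¬ π.Full) : c.E ⊓ d.E ≤ π.hc.imMod d.z π.dH := by
  intro a ha
  rw [← π.cent_fix]
  refine mem_inf.2 ⟨(mem_inf.1 ha).1, mem_centralizer_iff.2 fun u hu => (π.central ha ?_).symm⟩
  rw [← π.eq_of_not_full hf]; exact hu

theorem witness (hf : ¬ π.Full) {a : G} (ha : a ∈ c.E ⊓ d.E) (h1 : a ≠ 1) :
    ∃ v ∈ c.E, cm d v = c.z * a := by
  obtain ⟨v, hv, e⟩ := π.A0_le_im hf ha
  refine ⟨v, hv, ?_⟩
  rcases e with e | e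
  · exact absurd (π.cm_notin (v := v) (by rw [show cm d v = a from e.symm]; exact ha))
      (fun h => h1 (e.trans h))
  · rw [e, ← mul_assoc, π.hc.z_sq, one_mul]; rfl

theorem psi {a b v w : G} (ha : a ∈ c.E ⊓ d.E) (hb : b ∈ c.E ⊓ d.E) (hv : v ∈ c.E)
    (hva : cm d v = c.z * a) (hwb : cm d w = c.z * b) (hne : a ≠ b) :
    v * b * v⁻¹ = c.z * b := by
  have hzH := π.hc.z_comm hv
  rcases π.hc.comm_mem hv (mem_inf.1 hb).1 with e | e
  · exfalso
    have e1 : cm d (v * w) = v * cm d w * v⁻¹ * cm d v := by simp only [cm]; group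
    have e2 : v * b * v⁻¹ = b := by
      calc v * b * v⁻¹ = v * b * v⁻¹ * b⁻¹ * b := by group
        _ = b := by rw [e, one_mul]
    rw [hva, hwb, show v * (c.z * b) * v⁻¹ = v * c.z * v⁻¹ * (v * b * v⁻¹) by group, ← hzH,
      mul_inv_cancel_right, e2,
      show c.z * b * (c.z * a) = c.z * (b * c.z) * a by group, ← π.hc.z_comm (mem_inf.1 hb).1,
      show c.z * (c.z * b) * a = (c.z * c.z) * (b * a) by group, π.hc.z_sq, one_mul] at e1
    have h3 := π.cm_notin (v := v * w) (by rw [e1]; exact mul_mem hb ha)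
    rw [e1] at h3
    apply hne
    have hb2 : b * b = 1 := by
      have hbA := mem_inf.1 hb
      rcases π.hc.sq_mem hbA.1 with f | f
      · exact f
      · exact absurd (f ▸ mul_mem hbA.2 hbA.2) π.cE
    rw [← inv_eq_of_mul_eq_one_right h3, inv_eq_of_mul_eq_one_left hb2]
  · calc v * b * v⁻¹ = v * b * v⁻¹ * b⁻¹ * b := by group
      _ = c.z * b := by rw [e]

theorem A0_sq {a : G} (ha : a ∈ c.E ⊓ d.E) : a * a = 1 := by
  obtain ⟨h1, h2⟩ := mem_inf.1 ha
  rcases π.hc.sq_mem h1 with f | f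
  · exact f
  · exact absurd (f ▸ mul_mem h2 h2) π.cE

theorem A0_card_le (hf : ¬ π.Full) : Nat.card ↥(c.E ⊓ d.E) ≤ 4 := by
  classical
  by_contra hgt
  push Not at hgt
  set A0 := c.E ⊓ d.E with hA0
  haveI : Fintype A0 := Fintype.ofFinite A0
  rw [Nat.card_eq_fintype_card] at hgt
  have hpick : ∀ S : Finset A0, S.card < 5 → ∃ a, a ∉ S := fun S hS => by
    by_contra h; push Not at h
    have := Finset.eq_univ_iff_forall.2 h
    rw [this, Finset.card_univ] at hS; omega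
  obtain ⟨a, ha⟩ := hpick {1} (by simp)
  obtain ⟨b, hb⟩ := hpick {1, a} (by
    have := Finset.card_le_two (a := (1 : A0)) (b := a); omega)
  obtain ⟨e, he⟩ := hpick {1, a, b, a * b} (by
    have := Finset.card_le_four (a := (1 : A0)) (b := a) (c := b) (d := a * b); omega)
  simp only [Finset.mem_insert, Finset.mem_singleton, not_or] at ha hb he
  have hne : ∀ {u : A0}, u ≠ 1 → (u : G) ≠ 1 := fun h h' => h (Subtype.ext h')
  obtain ⟨va, hva, eva⟩ := π.witness hf a.2 (hne ha)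
  obtain ⟨vb, hvb, evb⟩ := π.witness hf b.2 (hne hb.1)
  obtain ⟨ve, hve, eve⟩ := π.witness hf e.2 (hne he.1)
  have hab : (a : G) ≠ b := fun h => hb.2 (Subtype.ext h).symm
  have k1 := π.psi a.2 b.2 hva eva evb hab
  have k2 := π.psi a.2 e.2 hva eva eve (fun h => he.2.1 (Subtype.ext h).symm)
  have k3 := π.psi b.2 e.2 hvb evb eve (fun h => he.2.2.1 (Subtype.ext h).symm)
  have hw : cm d (va * vb) = c.z * ((a : G) * b) := by
    have e1 : cm d (va * vb) = va * cm d vb * va⁻¹ * cm d va := by simp only [cm]; group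
    rw [e1, eva, evb, show va * (c.z * (b : G)) * va⁻¹ = va * c.z * va⁻¹ * (va * b * va⁻¹) by group,
      ← π.hc.z_comm hva, mul_inv_cancel_right, k1,
      ← mul_assoc c.z c.z, π.hc.z_sq, one_mul, ← mul_assoc,
      ← π.hc.z_comm (mem_inf.1 b.2).1, mul_assoc, π.central b.2 (π.A0_le_Cs a.2)]
  have k4 := π.psi (mul_mem a.2 b.2) e.2 (mul_mem hva hvb) hw eve
    (fun h => he.2.2.2 (Subtype.ext h).symm)
  rw [show va * vb * (e : G) * (va * vb)⁻¹ = va * (vb * e * vb⁻¹) * va⁻¹ by group, k3,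
    show va * (c.z * (e : G)) * va⁻¹ = va * c.z * va⁻¹ * (va * e * va⁻¹) by group,
    ← π.hc.z_comm hva, mul_inv_cancel_right, k2, ← mul_assoc, π.hc.z_sq, one_mul] at k4
  exact π.hc.z_ne (mul_right_cancel (k4.symm.trans (one_mul _).symm))

/-- Inner and not full is impossible. -/
theorem inner_false (hd : AutData A M) (hM : c.pr d.z ∈ M) (hf : ¬ π.Full) (hsC : d.z ∈ c.C) :
    False := by
  classical
  obtain ⟨hK, hI⟩ := π.hc.card_fix_inner hd π.dH hM π.pr_ne (Or.inl π.hd'.z_sq)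
  have hFC := π.eq_of_not_full hf
  set W := π.hc.imMod d.z π.dH
  have hWfix := π.hc.imMod_le_fixMod π.dH π.invol
  have hWC : W ≤ Cs c d := hFC ▸ hWfix
  have hWab : ∀ u ∈ W, ∀ w ∈ W, u * w = w * u := fun u hu w hw => π.im_commute_fix hu (hWfix hw)
  have hW2 : ∀ w ∈ W, w * w = 1 := fun w hw => π.im_sq_of_Cs hw (hWC hw)
  obtain ⟨p, hp, hp1⟩ := π.hc.exists_p
  have hps : ∀ q ∈ c.P, q * d.z = d.z * q := fun q hq => π.hc.P_central hq hsC
  have hpdH : ∀ q ∈ c.P, q ∈ d.H := fun q hq => d.mem_H.2 (hps q hq).symm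
  have hconjCs : ∀ q ∈ c.P, ∀ u ∈ Cs c d, q * u * q⁻¹ ∈ Cs c d := by
    intro q hq u hu
    obtain ⟨huE, hus⟩ := π.mem_Cs.1 hu
    refine π.mem_Cs.2 ⟨π.hc.conjE (π.hc.P_le hq) huE, ?_⟩
    have h1 : d.z * q = q * d.z := (hps q hq).symm
    have h2 : d.z * q⁻¹ = q⁻¹ * d.z := (hps q⁻¹ (inv_mem hq)).symm
    calc d.z * (q * u * q⁻¹) = (d.z * q) * u * q⁻¹ := by group
      _ = q * (d.z * u) * q⁻¹ := by rw [h1]; group
      _ = q * u * (d.z * q⁻¹) := by rw [hus]; group
      _ = q * u * q⁻¹ * d.z := by rw [h2]; group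
  set A0 := c.E ⊓ d.E with hA0
  have hA0conj : ∀ q ∈ c.P, ∀ a ∈ A0, q * a * q⁻¹ ∈ A0 := fun q hq a ha =>
    mem_inf.2 ⟨π.hc.conjE (π.hc.P_le hq) (mem_inf.1 ha).1, π.hd'.conjE (hpdH q hq) (mem_inf.1 ha).2⟩
  have hA0le : A0 ≤ W := π.A0_le_im hf
  -- the order of `A0` is 1 or 4
  have hcard : Nat.card A0 = 1 ∨ Nat.card A0 = 4 := by
    have h4 := π.A0_card_le hf
    have hZ : c.Stable (A0 ⊔ zpowers c.z) := by
      refine ⟨sup_le inf_le_left (zpowers_le.2 π.hc.z_mem), mem_sup_right (mem_zpowers _), fun q hq x hx => ?_⟩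
      have hle : (A0 ⊔ zpowers c.z).map (MulAut.conj q).toMonoidHom ≤ A0 ⊔ zpowers c.z := by
        rw [Subgroup.map_sup]
        refine sup_le_sup ?_ (le_of_eq ?_)
        · rintro _ ⟨a, ha, rfl⟩; exact hA0conj q hq a ha
        · rw [MonoidHom.map_zpowers]
          congr 1
          show q * c.z * q⁻¹ = c.z
          rw [← c.mem_H.1 (π.hc.P_le hq), mul_inv_cancel_right]
      exact hle (Subgroup.mem_map_of_mem _ hx)
    have hc2 := card_sup_of_commute A0 (zpowers c.z) fun a ha b hb => by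
      rcases π.hc.mem_zp.1 hb with rfl | rfl
      · simp
      · exact (π.hc.z_comm (mem_inf.1 ha).1).symm
    have hinf : A0 ⊓ zpowers c.z = ⊥ := by
      rw [eq_bot_iff]
      rintro u ⟨hu1, hu2⟩
      rcases π.hc.mem_zp.1 hu2 with rfl | rfl
      · exact one_mem _
      · exact absurd (mem_inf.1 hu1).2 π.cE
    rw [hinf, Subgroup.card_bot, mul_one, Nat.card_zpowers, π.hc.ord] at hc2
    have h3 := π.hc.stable_mod_three hZ
    rw [hc2] at h3
    have hpos : 0 < Nat.card A0 := Nat.card_pos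
    have hdvd : Nat.card A0 ∣ 2 ^ 13 := π.hc.cardE ▸ Subgroup.card_dvd_of_le inf_le_left
    obtain ⟨k, -, e⟩ := (Nat.dvd_prime_pow Nat.prime_two).1 hdvd
    rw [e] at h3 h4 ⊢
    rcases k with _ | _ | _ | k
    · exact Or.inl rfl
    · norm_num at h3
    · exact Or.inr rfl
    · exfalso
      rw [pow_succ, pow_succ, pow_succ] at h4
      have := Nat.one_le_two_pow (n := k)
      omega
  -- the image of `p` has order 3
  have hx1 : d.pr p ≠ 1 := by
    intro h1
    let g : Cs c d → A0 := fun u => ⟨p * u * p⁻¹ * (u : G)⁻¹, by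
      have hm : p * u * p⁻¹ * (u : G)⁻¹ ∈ Cs c d := mul_mem (hconjCs p hp u u.2) (inv_mem u.2)
      refine mem_inf.2 ⟨(π.mem_Cs.1 hm).1,
        (π.hd'.ker_two (π.Cs_le_H hm) (π.hc.sq_sq (π.mem_Cs.1 hm).1)).1 ?_⟩
      rw [π.hd'.pr_mul _ (π.Cs_le_H (hconjCs p hp u u.2)) _ (inv_mem (π.Cs_le_H u.2)),
        π.hd'.pr_conj (hpdH p hp) (π.Cs_le_H u.2), π.hd'.pr_inv (π.Cs_le_H u.2), h1]
      group⟩
    have hfib : ∀ u w : Cs c d, g u = g w → (w : G)⁻¹ * u ∈ zpowers c.z := by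
      intro u w e
      have e' : p * u * p⁻¹ * (u : G)⁻¹ = p * w * p⁻¹ * (w : G)⁻¹ := congrArg Subtype.val e
      refine π.hc.fpf hp hp1 (π.mem_Cs.1 (mul_mem (inv_mem w.2) u.2)).1 (Or.inl ?_)
      calc p * ((w : G)⁻¹ * u) * p⁻¹ = (p * w * p⁻¹)⁻¹ * (p * u * p⁻¹ * (u : G)⁻¹ * u) := by group
        _ = (w : G)⁻¹ * u := by rw [e']; group
    haveI : Nonempty (Cs c d) := ⟨1⟩
    let rep : A0 → Cs c d := Function.invFun g
    have hinj : Function.Injective (fun u : Cs c d =>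
        (g u, (⟨((rep (g u) : Cs c d) : G)⁻¹ * u,
          hfib u _ ((Function.invFun_eq ⟨u, rfl⟩).symm)⟩ : zpowers c.z))) := by
      intro u w e
      simp only [Prod.mk.injEq, Subtype.mk.injEq] at e
      obtain ⟨e1, e2⟩ := e
      rw [e1] at e2
      exact Subtype.ext (mul_left_cancel e2)
    have hle := Nat.card_le_card_of_injective _ hinj
    rw [Nat.card_prod, ← hFC, hK, Nat.card_zpowers, π.hc.ord] at hle
    rcases hcard with e | e <;> rw [e] at hle <;> omega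
  have hx3 : orderOf (d.pr p) = 3 := by
    haveI : Fact (Nat.Prime 3) := ⟨Nat.prime_three⟩
    refine orderOf_eq_prime ?_ hx1
    have hpH := hpdH p hp
    rw [pow_three', ← π.hd'.pr_mul _ hpH _ hpH, ← π.hd'.pr_mul _ (mul_mem hpH hpH) _ hpH,
      π.hc.P_pow hp, π.hd'.pr_one]
  -- a stable elementary subgroup with image of order 32
  obtain ⟨X, hXW, hXC, hXS, hXab, hX2, hXcard⟩ : ∃ X : Subgroup G, W ≤ X ∧ X ≤ Cs c d ∧ c.Stable X ∧
      (∀ a ∈ X, ∀ b ∈ X, a * b = b * a) ∧ (∀ a ∈ X, a * a = 1) ∧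
      Nat.card X = 32 * Nat.card A0 := by
    rcases hcard with e | e
    · exact ⟨W, le_rfl, hWC, π.im_stable hd hM, hWab, hW2, by rw [hI, e]; rfl⟩
    obtain ⟨v, hv, hvW, hv2⟩ : ∃ v ∈ Cs c d, v ∉ W ∧ v * v = 1 := by
      by_contra hnone
      push Not at hnone
      have hsq : ∀ v ∈ Cs c d, v ∉ W → v * v = c.z := fun v hv hvW =>
        (π.hc.sq_mem (π.mem_Cs.1 hv).1).resolve_left (hnone v hv hvW)
      obtain ⟨a, ha, haW⟩ : ∃ a ∈ Cs c d, a ∉ W := SetLike.not_le_iff_exists.1 fun hle => by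
        have := Nat.le_of_dvd Nat.card_pos (Subgroup.card_dvd_of_le hle)
        rw [← hFC, hK, hI] at this; omega
      have haE := (π.mem_Cs.1 ha).1
      have hbig := card_le_two_mul_cent (Cs c d) a fun u hu w hw h1 h2 => by
        have e1 : ⁅u, a⁆ = c.z := (π.hc.bz_one_or (π.mem_Cs.1 hu).1 haE).resolve_left
          fun h => h1 (commutatorElement_eq_one_iff_mul_comm.1 h)
        have e2 : ⁅w, a⁆ = c.z := (π.hc.bz_one_or (π.mem_Cs.1 hw).1 haE).resolve_left
          fun h => h2 (commutatorElement_eq_one_iff_mul_comm.1 h)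
        refine commutatorElement_eq_one_iff_mul_comm.1 ?_
        rw [π.hc.bz_mul_left (π.mem_Cs.1 hu).1 (π.mem_Cs.1 hw).1 haE, e1, e2, π.hc.z_sq]
      rw [← hFC, hK] at hbig
      have hWa := card_sup_of_commute W (zpowers a) fun w hw b hb => by
        obtain ⟨k, rfl⟩ := mem_zpowers_iff.1 hb
        exact ((show Commute w a from π.im_commute_fix hw (hFC.symm ▸ ha)).zpow_right k).eq
      have hord : orderOf a ≤ 4 := orderOf_le_of_pow_eq_one (by norm_num)
        (by rw [show (4 : ℕ) = 2 + 2 from rfl, pow_add, sq]; exact π.hc.sq_sq haE)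
      have hWa' : Nat.card ↥(W ⊔ zpowers a) ≤ 128 := by
        have h1 : 1 ≤ Nat.card ↥(W ⊓ zpowers a) := Nat.card_pos
        rw [hI, Nat.card_zpowers] at hWa
        nlinarith
      obtain ⟨b, hb, hbW⟩ : ∃ b ∈ Cs c d ⊓ centralizer ({a} : Set G), b ∉ W ⊔ zpowers a :=
        SetLike.not_le_iff_exists.1 fun hle => by
          have := Nat.le_of_dvd Nat.card_pos (Subgroup.card_dvd_of_le hle)
          rw [← hFC] at this
          omega
      obtain ⟨hbC, hba⟩ := mem_inf.1 hb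
      have hab' : a * b = b * a := mem_centralizer_iff.1 hba a rfl
      have habW : a * b ∉ W := fun h => hbW (by
        rw [show b = a⁻¹ * (a * b) by group]
        exact mul_mem (mem_sup_right (inv_mem (mem_zpowers a))) (mem_sup_left h))
      refine hnone (a * b) (mul_mem ha hbC) habW ?_
      calc a * b * (a * b) = a * (b * a) * b := by group
        _ = (a * a) * (b * b) := by rw [← hab']; group
        _ = 1 := by rw [hsq a ha haW, hsq b hbC fun h => hbW (mem_sup_left h), π.hc.z_sq]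
    set v1 := p * v * p⁻¹ with hv1
    have hvE := (π.mem_Cs.1 hv).1
    have hv1C : v1 ∈ Cs c d := hconjCs p hp v hv
    have hv12 : v1 * v1 = 1 := by
      rw [hv1, show p * v * p⁻¹ * (p * v * p⁻¹) = p * (v * v) * p⁻¹ by group, hv2]; group
    set v2 := p * v1 * p⁻¹ with hv2'
    have hv22 : v2 * v2 = 1 := by
      rw [hv2', show p * v1 * p⁻¹ * (p * v1 * p⁻¹) = p * (v1 * v1) * p⁻¹ by group, hv12]; group
    have hv2inv : v2⁻¹ = v2 := inv_eq_of_mul_eq_one_left hv22
    have horb : c.Eqz v2 (v * v1) := by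
      rcases π.hc.eqz_cases (π.hc.orbit_prod hp hp1 hvE) with f | f
      · exact Or.inl (by rw [← hv2inv]; exact eq_inv_of_mul_eq_one_left f)
      · refine Or.inr ?_
        calc v * v1 = v * v1 * v2 * v2⁻¹ := by group
          _ = c.z * v2 := by rw [show v * v1 * v2 = c.z from f, hv2inv]
    have hcomm : v * v1 = v1 * v := by
      have hsq1 : (v * v1) * (v * v1) = 1 := by
        rcases horb with f | f <;> rw [f]
        · exact hv22
        · have := π.hc.z_comm (π.hc.conjE (π.hc.P_le hp) (π.mem_Cs.1 hv1C).1)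
          calc c.z * v2 * (c.z * v2) = c.z * (v2 * c.z) * v2 := by group
            _ = c.z * (c.z * v2) * v2 := by rw [this]
            _ = (c.z * c.z) * (v2 * v2) := by group
            _ = 1 := by rw [π.hc.z_sq, hv22, one_mul]
      rw [← inv_eq_of_mul_eq_one_right hsq1, _root_.mul_inv_rev, inv_eq_of_mul_eq_one_left hv12,
        inv_eq_of_mul_eq_one_left hv2]
    have cWv : ∀ w ∈ W, ∀ u ∈ zpowers v, w * u = u * w := fun w hw u hu => by
      obtain ⟨k, rfl⟩ := mem_zpowers_iff.1 hu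
      exact ((show Commute w v from π.im_commute_fix hw (hFC.symm ▸ hv)).zpow_right k).eq
    set Y := W ⊔ zpowers v with hY
    have hYC : Y ≤ Cs c d := sup_le hWC (zpowers_le.2 hv)
    have hYv1 : ∀ u ∈ Y, Commute u v1 := by
      have hle : Y ≤ centralizer ({v1} : Set G) := sup_le
        (fun w hw => mem_centralizer_iff.2 fun g hg => by
          rw [Set.mem_singleton_iff] at hg; subst hg
          exact (π.im_commute_fix hw (hFC.symm ▸ hv1C)).symm)
        (zpowers_le.2 (mem_centralizer_iff.2 fun g hg => by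
          rw [Set.mem_singleton_iff] at hg; subst hg; exact hcomm.symm))
      intro u hu
      exact (mem_centralizer_iff.1 (hle hu) v1 rfl).symm
    have hord : ∀ {u : G}, u * u = 1 → orderOf u ≤ 2 := fun h =>
      orderOf_le_of_pow_eq_one two_pos (by rw [sq]; exact h)
    have cy := card_sup_of_commute W (zpowers v) cWv
    have cx := card_sup_of_commute Y (zpowers v1) fun u hu b hb => by
      obtain ⟨k, rfl⟩ := mem_zpowers_iff.1 hb
      exact ((hYv1 u hu).zpow_right k).eq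
    set X := Y ⊔ zpowers v1 with hX
    have hXC : X ≤ Cs c d := sup_le hYC (zpowers_le.2 hv1C)
    have hWX : W ≤ X := le_sup_left.trans (le_sup_left : Y ≤ X)
    have hXab : ∀ a ∈ X, ∀ b ∈ X, a * b = b * a := by
      have hgen : X ≤ centralizer (X : Set G) := by
        have h0 : ∀ a, a ∈ (W : Set G) ∨ a = v ∨ a = v1 → ∀ b, b ∈ (W : Set G) ∨ b = v ∨ b = v1 →
            Commute a b := by
          rintro a (ha | ha | ha) b (hb | hb | hb)
          · exact hWab a ha b hb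
          · exact hb ▸ cWv a ha v (mem_zpowers v)
          · exact hb ▸ hYv1 a (mem_sup_left ha)
          · exact ha ▸ (cWv b hb v (mem_zpowers v)).symm
          · rw [ha, hb]
          · rw [ha, hb]; exact hcomm
          · exact ha ▸ (hYv1 b (mem_sup_left hb)).symm
          · rw [ha, hb]; exact hcomm.symm
          · rw [ha, hb]
        have hX' : ∀ b, b ∈ (W : Set G) ∨ b = v ∨ b = v1 → X ≤ centralizer ({b} : Set G) := fun b hb => by
          refine sup_le (sup_le (fun a ha => mem_centralizer_iff.2 fun g hg => ?_) (zpowers_le.2 ?_))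
            (zpowers_le.2 ?_)
          · rw [Set.mem_singleton_iff] at hg; subst hg; exact (h0 a (Or.inl ha) _ hb).eq.symm
          · exact mem_centralizer_iff.2 fun g hg => by
              rw [Set.mem_singleton_iff] at hg; subst hg; exact (h0 _ (Or.inr (Or.inl rfl)) _ hb).eq.symm
          · exact mem_centralizer_iff.2 fun g hg => by
              rw [Set.mem_singleton_iff] at hg; subst hg; exact (h0 _ (Or.inr (Or.inr rfl)) _ hb).eq.symm
        refine sup_le (sup_le (fun a ha => mem_centralizer_iff.2 fun b hb => ?_) (zpowers_le.2 ?_))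
          (zpowers_le.2 ?_)
        · exact (mem_centralizer_iff.1 (hX' a (Or.inl ha) hb) a rfl).symm
        · exact mem_centralizer_iff.2 fun b hb =>
            (mem_centralizer_iff.1 (hX' v (Or.inr (Or.inl rfl)) hb) v rfl).symm
        · exact mem_centralizer_iff.2 fun b hb =>
            (mem_centralizer_iff.1 (hX' v1 (Or.inr (Or.inr rfl)) hb) v1 rfl).symm
      exact fun a ha b hb => mem_centralizer_iff.1 (hgen hb) a ha
    have hXstab : c.Stable X := by
      refine ⟨hXC.trans inf_le_left, hWX (π.hc.z_mem_imMod π.dH), ?_⟩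
      have hv1X : v1 ∈ X := mem_sup_right (mem_zpowers _)
      have hvX : v ∈ X := mem_sup_left (mem_sup_right (mem_zpowers _))
      have hp' : ∀ x ∈ X, p * x * p⁻¹ ∈ X := by
        have hle : X.map (MulAut.conj p).toMonoidHom ≤ X := by
          rw [hX, hY, Subgroup.map_sup, Subgroup.map_sup, MonoidHom.map_zpowers, MonoidHom.map_zpowers]
          refine sup_le (sup_le ?_ (zpowers_le.2 hv1X)) (zpowers_le.2 ?_)
          · rintro _ ⟨w, hw, rfl⟩
            exact hWX ((π.im_stable hd hM).conj p hp w hw)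
          · show v2 ∈ X
            rcases horb with f | f
            · exact f ▸ mul_mem hvX hv1X
            · rw [show v2 = c.z * (v * v1) by rw [f, ← mul_assoc, π.hc.z_sq, one_mul]]
              exact mul_mem (hWX (π.hc.z_mem_imMod π.dH)) (mul_mem hvX hv1X)
        exact fun x hx => hle (Subgroup.mem_map_of_mem _ hx)
      intro q hq x hx
      rcases π.hc.P_cases hp hp1 hq with rfl | rfl | rfl
      · simpa using hx
      · exact hp' x hx
      · rw [show p * p * x * (p * p)⁻¹ = p * (p * x * p⁻¹) * p⁻¹ by group]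
        exact hp' _ (hp' x hx)
    refine ⟨X, hWX, hXC, hXstab, hXab, fun a ha => π.hc.stable_sq hXstab hXab ha, ?_⟩
    rw [e]
    rw [hI, Nat.card_zpowers] at cy
    rw [Nat.card_zpowers] at cx
    have o1 := hord hv2
    have o2 := hord hv12
    have i1 : 1 ≤ Nat.card ↥(W ⊓ zpowers v) := Nat.card_pos
    have i2 : 1 ≤ Nat.card ↥(Y ⊓ zpowers v1) := Nat.card_pos
    have hY64 : Nat.card Y ≤ 64 := by nlinarith
    have hX128 : Nat.card X ≤ 128 := by nlinarith
    have h3 := π.hc.stable_mod_three hXstab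
    have hWlt : 32 < Nat.card X := by
      rw [show 32 = Nat.card W from hI.symm]
      refine lt_of_le_of_ne (Nat.le_of_dvd Nat.card_pos (Subgroup.card_dvd_of_le hWX)) fun he => hvW ?_
      rw [Subgroup.eq_of_le_of_card_ge hWX he.ge]; exact mem_sup_left (mem_sup_right (mem_zpowers _))
    obtain ⟨k, -, hk⟩ := π.hc.stable_pow hXstab
    rw [hk] at h3 hWlt hX128 ⊢
    have k1 : 5 < k := (Nat.pow_lt_pow_iff_right (by norm_num)).1 (show 2 ^ 5 < 2 ^ k by simpa using hWlt)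
    have k2 : k ≤ 7 := (Nat.pow_le_pow_iff_right (by norm_num)).1 (show 2 ^ k ≤ 2 ^ 7 by simpa using hX128)
    interval_cases k
    · norm_num at h3
    · norm_num
  have hXd : X ⊓ d.E = A0 :=
    le_antisymm (fun u hu => mem_inf.2 ⟨hXS.le (mem_inf.1 hu).1, (mem_inf.1 hu).2⟩)
      (fun u hu => mem_inf.2 ⟨hXW (hA0le hu), (mem_inf.1 hu).2⟩)
  have hi := π.card_img hXC
  rw [hXd, hXcard] at hi
  have hR : IsR (π.hd'.img X) :=
    ⟨π.hd'.elem_img (hXC.trans π.Cs_le_H) hXab hX2,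
      Nat.eq_of_mul_eq_mul_right Nat.card_pos hi⟩
  have hxN : d.pr p ∈ normalizer ((π.hd'.img X : Subgroup A) : Set A) :=
    π.hd'.mem_normalizer_img (hXC.trans π.Cs_le_H) (hpdH p hp) fun x hx => hXS.conj p hp x hx
  have hrX : d.pr c.z ∈ π.hd'.img X :=
    π.hd'.pr_mem_img (hXC.trans π.Cs_le_H) hXS.z_mem
  obtain ⟨u, hu, u', hu', hne⟩ : ∃ u ∈ Cs c d, ∃ u' ∈ Cs c d, u * u' ≠ u' * u := by
    by_contra h
    push Not at h
    have hle : Cs c d ≤ c.E ⊓ centralizer (Cs c d : Set G) := fun u hu =>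
      mem_inf.2 ⟨(π.mem_Cs.1 hu).1, mem_centralizer_iff.2 fun u' hu' => h u' hu' u hu⟩
    have h1 := Nat.le_of_dvd Nat.card_pos (Subgroup.card_dvd_of_le hle)
    have h2 := π.hc.card_cent (Cs c d) inf_le_left π.z_mem_Cs
    rw [← hFC, hK] at h1 h2
    omega
  have hrM : d.pr c.z ∈ M := by
    have e : c.z = u * u' * u⁻¹ * u'⁻¹ := by
      rcases π.hc.comm_mem (π.mem_Cs.1 hu).1 (π.mem_Cs.1 hu').1 with f | f
      · exfalso; apply hne
        calc u * u' = u * u' * u⁻¹ * u'⁻¹ * (u' * u) := by group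
          _ = u' * u := by rw [f, one_mul]
      · exact f.symm
    have hH := π.Cs_le_H hu
    have hH' := π.Cs_le_H hu'
    rw [e, π.hd'.pr_mul _ (mul_mem (mul_mem hH hH') (inv_mem hH)) _ (inv_mem hH'),
      π.hd'.pr_conj hH hH', π.hd'.pr_inv hH']
    simp only [Subgroup.mul_mem_iff_of_index_two hd.index, inv_mem_iff]
    tauto
  have hcm : Commute (d.pr p) (d.pr c.z) := by
    show d.pr p * d.pr c.z = d.pr c.z * d.pr p
    rw [← π.hd'.pr_mul _ (hpdH p hp) _ π.cH, ← π.hd'.pr_mul _ π.cH _ (hpdH p hp),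
      c.mem_H.1 (π.hc.P_le hp)]
  exact π.symm.pr_ne (hd.R_three _ hR _ hx3 hxN _ (mem_inf.2 ⟨hrX, hrM⟩) hcm)

end Pair

end Ctx

end Cfsg.Agent.H43.JFour
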